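import Groth.Agent.Depth.Basic
import Mathlib

/-! The acyclicity lemma. -/

set_option autoImplicit false

universe u

open CategoryTheory CategoryTheory.Limits LocCoh

namespace Groth.Agent.CAlgT1.Acyclicity

variable {R : Type u} [CommRing R] [IsLocalRing R] [IsNoetherianRing R]
  (C : ChainComplex (ModuleCat.{u} R) ℕ)

theorem depth_boundaries (e : ℕ) (hzero : ∀ j, e < j → IsZero (C.X j))
    (hfin : ∀ j, Module.Finite R (C.X j)) (hdepth : ∀ j, j ≤ e → (j : ℕ∞) ≤ depth R (C.X j))
    (i : ℕ) (habove : ∀ j, i < j → C.ExactAt j) : ∀ k j, i ≤ j → e ≤ j + k →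
      ((j + 1 : ℕ) : ℕ∞) ≤ depth R (LinearMap.range (C.d (j + 1) j).hom) := by
  intro k
  induction k with
  | zero =>
    intro j _ hj
    haveI := ModuleCat.subsingleton_of_isZero (hzero (j + 1) (by omega))
    haveI : Subsingleton (LinearMap.range (C.d (j + 1) j).hom) := by
      refine ⟨fun a b => ?_⟩
      obtain ⟨a, x, rfl⟩ := a
      obtain ⟨b, y, rfl⟩ := b
      simp [Subsingleton.elim x y]
    rw [depth, Depth.idealDepth_of_subsingleton]
    exact le_top
  | succ k ih =>
    intro j hij hj
    by_cases hje : e ≤ j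
    · haveI := ModuleCat.subsingleton_of_isZero (hzero (j + 1) (by omega))
      haveI : Subsingleton (LinearMap.range (C.d (j + 1) j).hom) := by
        refine ⟨fun a b => ?_⟩
        obtain ⟨a, x, rfl⟩ := a
        obtain ⟨b, y, rfl⟩ := b
        simp [Subsingleton.elim x y]
      rw [depth, Depth.idealDepth_of_subsingleton]
      exact le_top
    haveI := hfin (j + 1)
    haveI := hfin j
    have hex : (LinearMap.range (C.d (j + 2) (j + 1)).hom) = LinearMap.ker (C.d (j + 1) j).hom := by
      have := (C.exactAt_iff' (j + 2) (j + 1) j (by simp) (by simp)).1 (habove (j + 1) (by omega))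
      exact this.moduleCat_range_eq_ker
    refine Depth.le_idealDepth_right (f := (LinearMap.range (C.d (j + 2) (j + 1)).hom).subtype)
      (g := (C.d (j + 1) j).hom.rangeRestrict) Subtype.val_injective
      (LinearMap.surjective_rangeRestrict _) ?_ ?_ ?_
    · rw [LinearMap.exact_iff, Submodule.range_subtype, LinearMap.ker_rangeRestrict, hex]
    · exact ih (j + 1) (by omega) (by omega)
    · exact hdepth (j + 1) (by omega)

theorem one_le_depth_homology (e : ℕ) (hzero : ∀ j, e < j → IsZero (C.X j))
    (hfin : ∀ j, Module.Finite R (C.X j)) (hdepth : ∀ j, j ≤ e → (j : ℕ∞) ≤ depth R (C.X j))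
    (i : ℕ) (hi : 0 < i) (hnot : ¬ C.ExactAt i) (habove : ∀ j, i < j → C.ExactAt j) :
    1 ≤ depth R (C.homology i) := by
  obtain ⟨m, rfl⟩ := Nat.exists_eq_succ_of_ne_zero hi.ne'
  have hie : m + 1 ≤ e := by
    by_contra h
    exact hnot (ShortComplex.exact_of_isZero_X₂ _ (hzero _ (by omega)))
  haveI := hfin (m + 1)
  haveI := hfin m
  let S := C.sc' (m + 2) (m + 1) m
  let Z : Submodule R (C.X (m + 1)) := LinearMap.ker (C.d (m + 1) m).hom
  haveI : Module.Finite R Z := inferInstance
  have hZ : ((1 : ℕ) : ℕ∞) ≤ idealDepth (IsLocalRing.maximalIdeal R) Z :=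
    Depth.le_idealDepth_left (f := Z.subtype) (g := (C.d (m + 1) m).hom.rangeRestrict)
      Subtype.val_injective (LinearMap.surjective_rangeRestrict _)
      (by rw [LinearMap.exact_iff, Submodule.range_subtype, LinearMap.ker_rangeRestrict])
      (le_trans (by exact_mod_cast (by omega : 1 ≤ m + 1)) (hdepth (m + 1) hie))
      (le_add_self.trans' (by simp))
  let B : Submodule R Z := LinearMap.range ((C.d (m + 2) (m + 1)).hom.codRestrict Z
    fun x => congr($(C.d_comp_d (m + 2) (m + 1) m).hom x))
  have hB : ((1 + 1 : ℕ) : ℕ∞) ≤ idealDepth (IsLocalRing.maximalIdeal R) B := by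
    have h := depth_boundaries C e hzero hfin hdepth (m + 1) habove e (m + 1) le_rfl (by omega)
    rw [depth] at h
    have e1 : B ≃ₗ[R] LinearMap.range (C.d (m + 2) (m + 1)).hom :=
      (Submodule.equivMapOfInjective Z.subtype Subtype.val_injective B).trans
        (LinearEquiv.ofEq _ _ (by
          rw [← LinearMap.range_comp]
          rfl))
    rw [Depth.idealDepth_congr e1]
    exact le_trans (by exact_mod_cast (by omega : 1 + 1 ≤ m + 1 + 1)) h
  haveI : Module.Finite R (Z ⧸ B) := inferInstance
  have hH : ((1 : ℕ) : ℕ∞) ≤ idealDepth (IsLocalRing.maximalIdeal R) (Z ⧸ B) :=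
    Depth.le_idealDepth_right (f := B.subtype) (g := B.mkQ) Subtype.val_injective
      (Submodule.mkQ_surjective _) (LinearMap.exact_subtype_mkQ B) hB hZ
  rw [depth, Depth.idealDepth_congr
    ((C.homologyIsoSc' (m + 2) (m + 1) m (by simp) (by simp)) ≪≫ S.moduleCatHomologyIso).toLinearEquiv]
  exact hH

end Groth.Agent.CAlgT1.Acyclicity
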