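import Mathlib

/-! Algebras with fewer generators than the cardinality of the base field. -/

set_option autoImplicit false

universe u

open Cardinal

namespace Groth.Agent.CAlgT1.BigField

variable {k : Type u} [Field k]

theorem isAlgebraic_of_card {K : Type u} [Field K] [Algebra k K] (t : Set K)
    (ht : Algebra.adjoin k t = ⊤) (hinf : t.Infinite) (hcard : Cardinal.mk t < Cardinal.mk k) :
    Algebra.IsAlgebraic k K := by
  refine ⟨fun x => by_contra fun hx => ?_⟩
  have h1 : Cardinal.mk k ≤ Module.rank k K :=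
    (Transcendental.linearIndependent_sub_inv (F := k) hx).cardinal_le_rank
  haveI : Infinite t := hinf.to_subtype
  let φ : MvPolynomial t k →ₐ[k] K := MvPolynomial.aeval fun i => (i : K)
  have hφ : Function.Surjective φ.toLinearMap := by
    have : φ.range = ⊤ := by
      rw [← ht, Algebra.adjoin_eq_range]
    exact fun y => (AlgHom.range_eq_top φ).1 this y
  have h2 := LinearMap.rank_le_of_surjective _ hφ
  rw [MvPolynomial.rank_eq, Cardinal.mk_finsupp_nat, max_eq_left (Cardinal.aleph0_le_mk t)] at h2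
  exact absurd ((h1.trans h2).trans_lt hcard) (lt_irrefl _)

theorem residue_algebraic {S : Type u} [CommRing S] [Algebra k S] (s : Set S)
    (hs : Algebra.adjoin k s = ⊤) (hcard : Cardinal.mk s < Cardinal.mk k)
    (m : Ideal S) [m.IsMaximal] : Algebra.IsAlgebraic k (S ⧸ m) := by
  letI : Field (S ⧸ m) := Ideal.Quotient.field m
  have ht : Algebra.adjoin k (Ideal.Quotient.mkₐ k m '' s) = ⊤ := by
    rw [Algebra.adjoin_image, hs, Algebra.map_top, (AlgHom.range_eq_top _).2 (Ideal.Quotient.mkₐ_surjective k m)]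
  rcases (Ideal.Quotient.mkₐ k m '' s).finite_or_infinite with hf | hi
  · haveI : Algebra.FiniteType k (S ⧸ m) := ⟨⟨hf.toFinset, by simpa using ht⟩⟩
    haveI := finite_of_finite_type_of_isJacobsonRing k (S ⧸ m)
    exact Algebra.IsAlgebraic.of_finite k _
  · exact isAlgebraic_of_card _ ht hi (Cardinal.mk_image_le.trans_lt hcard)

theorem isJacobsonRing_of_card {S : Type u} [CommRing S] [Algebra k S] (s : Set S)
    (hs : Algebra.adjoin k s = ⊤) (hcard : Cardinal.mk s < Cardinal.mk k) : IsJacobsonRing S := by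
  rcases s.finite_or_infinite with hfin | hinf
  · haveI : Algebra.FiniteType k S := ⟨⟨hfin.toFinset, by simpa using hs⟩⟩
    exact isJacobsonRing_of_finiteType (A := k)
  rw [isJacobsonRing_iff_prime_eq]
  intro P hP
  refine le_antisymm (fun f hf => by_contra fun hfP => ?_) Ideal.le_jacobson
  let g : S ⧸ P := Ideal.Quotient.mk P f
  let T := Localization.Away g
  have hg : g ≠ 0 := by simpa [g, Ideal.Quotient.eq_zero_iff_mem] using hfP
  haveI : IsDomain T :=
    IsLocalization.isDomain_localization (powers_le_nonZeroDivisors_of_noZeroDivisors hg)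
  let ψ : S →ₐ[k] T := (IsScalarTower.toAlgHom k (S ⧸ P) T).comp (Ideal.Quotient.mkₐ k P)
  let t : Set T := ψ '' s ∪ {IsLocalization.Away.invSelf g}
  have ht : Algebra.adjoin k t = ⊤ := by
    rw [eq_top_iff]
    intro z _
    obtain ⟨n, a, ha⟩ := IsLocalization.Away.surj g z
    obtain ⟨b, rfl⟩ := Ideal.Quotient.mk_surjective a
    have hb : algebraMap (S ⧸ P) T (Ideal.Quotient.mk P b) ∈ Algebra.adjoin k t := by
      have : ψ b ∈ (Algebra.adjoin k s).map ψ := ⟨b, hs ▸ trivial, rfl⟩
      rw [← Algebra.adjoin_image] at this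
      exact Algebra.adjoin_mono Set.subset_union_left this
    have : z = algebraMap (S ⧸ P) T (Ideal.Quotient.mk P b) * IsLocalization.Away.invSelf g ^ n := by
      rw [← ha, mul_assoc, ← mul_pow, IsLocalization.Away.mul_invSelf, one_pow, mul_one]
    rw [this]
    exact mul_mem hb (pow_mem (Algebra.subset_adjoin (show IsLocalization.Away.invSelf g ∈ t from Or.inr rfl)) n)
  have htc : Cardinal.mk t < Cardinal.mk k := by
    refine (Cardinal.mk_union_le _ _).trans_lt ?_
    haveI : Infinite s := hinf.to_subtype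
    haveI : Infinite k := Cardinal.infinite_iff.2 ((Cardinal.aleph0_le_mk s).trans hcard.le)
    exact Cardinal.add_lt_of_lt (Cardinal.aleph0_le_mk k) (Cardinal.mk_image_le.trans_lt hcard)
      ((Cardinal.mk_singleton _).trans_lt (Cardinal.one_lt_aleph0.trans_le (Cardinal.aleph0_le_mk k)))
  obtain ⟨M, hM⟩ := Ideal.exists_maximal T
  letI : Field (T ⧸ M) := Ideal.Quotient.field M
  haveI := residue_algebraic t ht htc M
  let χ : S →ₐ[k] T ⧸ M := (Ideal.Quotient.mkₐ k M).comp ψ
  have hker : (RingHom.ker χ).IsMaximal := by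
    refine Ideal.Quotient.maximal_of_isField _ ?_
    exact (Ideal.quotientKerEquivRange χ).toMulEquiv.isField
      (Subalgebra.isField_of_algebraic χ.range)
  have hle : P ≤ RingHom.ker χ := by
    intro p hp
    simp [χ, ψ, RingHom.mem_ker, Ideal.Quotient.eq_zero_iff_mem.2 hp]
  have hfk := (Ideal.mem_sInf.1 hf) (⟨hle, hker⟩ : RingHom.ker χ ∈ {J : Ideal S | P ≤ J ∧ J.IsMaximal})
  have hu : IsUnit (Ideal.Quotient.mk M (ψ f)) :=
    (IsLocalization.Away.algebraMap_isUnit g).map _
  exact hu.ne_zero (by simpa [χ] using hfk)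

end Groth.Agent.CAlgT1.BigField
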