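import Groth.Agent.Depth.CM
import Groth.Agent.Depth.LocalIneq

/-!
# Quotients, saturated chains and a depth-two bijectivity criterion
-/

set_option autoImplicit false
universe u

open LocCoh IsLocalRing RingTheory.Sequence Pointwise

namespace Groth.Agent.CAlgT1

section Quot

variable {R M : Type u} [CommRing R] [IsLocalRing R] [IsNoetherianRing R]
  [AddCommGroup M] [Module R M] [Module.Finite R M]

theorem cm_quotient_of_supportDim_drop (hM : IsCohenMacaulayModule R M) (g : R)
    (hg : g ∈ maximalIdeal R)
    (hdim : Module.supportDim R (M ⧸ Ideal.span {g} • (⊤ : Submodule R M)) + 1 = Module.supportDim R M) :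
    IsSMulRegular M g ∧ IsCohenMacaulayModule R (M ⧸ Ideal.span {g} • (⊤ : Submodule R M)) ∧
      depth R (M ⧸ Ideal.span {g} • (⊤ : Submodule R M)) + 1 = depth R M := by
  have := Depth.nontrivial_of_isCohenMacaulayModule hM
  have heq : Ideal.span {g} • (⊤ : Submodule R M) = g • ⊤ := Submodule.ideal_span_singleton_smul g ⊤
  have reg : IsSMulRegular M g := by
    by_contra hreg
    obtain ⟨p, hp, hgp⟩ : ∃ p ∈ associatedPrimes R M, g ∈ p := by
      have h : g ∈ ⋃ p ∈ associatedPrimes R M, (p : Set R) := by
        rw [biUnion_associatedPrimes_eq_compl_regular]; exact hreg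
      simpa using h
    have h1 := Depth.ringKrullDim_quotient_eq_of_mem_associatedPrimes hM hp
    have h2 : ringKrullDim (R ⧸ p) ≤ Module.supportDim R (M ⧸ Ideal.span {g} • (⊤ : Submodule R M)) := by
      refine Depth.ringKrullDim_quotient_le_supportDim (p := ⟨p, hp.isPrime⟩) ?_
      rw [Module.support_quotient]
      exact ⟨Depth.mem_support_of_mem_associatedPrimes hp, Ideal.span_le.2 (Set.singleton_subset_iff.2 hgp)⟩
    haveI : Nontrivial (M ⧸ Ideal.span {g} • (⊤ : Submodule R M)) := Submodule.Quotient.nontrivial_iff.2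
      (Depth.smul_top_ne_top_of_isLocalRing ((Ideal.span_singleton_le_iff_mem _).2 hg))
    obtain ⟨n, hn⟩ := Depth.exists_natCast_eq_supportDim (R := R) (M := M ⧸ Ideal.span {g} • (⊤ : Submodule R M))
    rw [h1, ← hdim, hn] at h2
    have h3 : n + 1 ≤ n := by exact_mod_cast h2
    omega
  let e : QuotSMulTop g M ≃ₗ[R] (M ⧸ Ideal.span {g} • (⊤ : Submodule R M)) := Submodule.quotEquivOfEq _ _ heq.symm
  have h2 : depth R (QuotSMulTop g M) + 1 = depth R M := Depth.idealDepth_quotSMulTop_add_one M hg reg
  have hcm : IsCohenMacaulayModule R (QuotSMulTop g M) :=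
    (Depth.isCohenMacaulayModule_quotSMulTop_iff hg reg).2 hM
  refine ⟨reg, ?_, ?_⟩
  · rw [IsCohenMacaulayModule] at hcm ⊢
    rw [← Depth.depth_congr e, ← hcm]
    exact (Depth.supportDim_eq_of_support_eq e.support_eq).symm
  · rw [← Depth.depth_congr e, h2]

theorem chain_length_eq_dim (hM : IsCohenMacaulayModule R M)
    (hsupp : Module.support R M = Set.univ) (s : LTSeries (PrimeSpectrum R))
    (hhead : s.head.asIdeal ∈ minimalPrimes R) (hlast : s.last.asIdeal = maximalIdeal R)
    (hsat : ∀ i : Fin s.length, s (Fin.castSucc i) ⋖ s (Fin.succ i)) :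
    (s.length : WithBot ℕ∞) = ringKrullDim R := by
  have := Depth.nontrivial_of_isCohenMacaulayModule hM
  have hmem : ∀ p : PrimeSpectrum R, p ∈ Module.support R M := fun p => hsupp ▸ Set.mem_univ p
  obtain ⟨d, hd⟩ := Depth.exists_natCast_eq_supportDim (R := R) (M := M)
  have hdR : ringKrullDim R = ((d : ℕ∞) : WithBot ℕ∞) := by
    rw [← hd, Module.supportDim, hsupp]
    exact (Order.krullDim_eq_of_orderIso OrderIso.Set.univ).symm
  have hQ : ∀ p : PrimeSpectrum R, ∃ e f : ℕ, ringKrullDim (R ⧸ p.asIdeal) = ((e : ℕ∞) : WithBot ℕ∞) ∧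
      depth (Localization.AtPrime p.asIdeal) (LocalizedModule p.asIdeal.primeCompl M) = (f : ℕ∞) ∧ f + e = d := by
    intro p
    haveI : Nontrivial (LocalizedModule p.asIdeal.primeCompl M) := hmem p
    obtain ⟨f, hf⟩ := Depth.exists_natCast_eq_supportDim (R := Localization.AtPrime p.asIdeal)
      (M := LocalizedModule p.asIdeal.primeCompl M)
    have hcm := Depth.isCohenMacaulayModule_localized M hM (hmem p)
    rw [IsCohenMacaulayModule, hf] at hcm
    haveI : Nontrivial (R ⧸ p.asIdeal) := Ideal.Quotient.nontrivial_iff.2 p.isPrime.ne_top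
    obtain ⟨e, he⟩ := Depth.exists_natCast_eq_supportDim (R := R) (M := R ⧸ p.asIdeal)
    rw [Module.supportDim_quotient_eq_ringKrullDim] at he
    have h := Depth.supportDim_localized_add M hM (hmem p)
    rw [hf, he, hd] at h
    exact ⟨e, f, he, (WithBot.coe_injective hcm).symm, by exact_mod_cast h⟩
  choose e f he hf hef using hQ
  have hstep : ∀ i : Fin s.length, e (s (Fin.castSucc i)) = e (s (Fin.succ i)) + 1 := by
    intro i
    set p := s (Fin.castSucc i)
    set q := s (Fin.succ i)
    have hpq : p.asIdeal < q.asIdeal := (hsat i).lt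
    have hprime : (q.asIdeal.map (Ideal.Quotient.mk p.asIdeal)).IsPrime :=
      Ideal.map_isPrime_of_surjective Ideal.Quotient.mk_surjective (by rw [Ideal.mk_ker]; exact hpq.le)
    have hht : (q.asIdeal.map (Ideal.Quotient.mk p.asIdeal)).height ≤ ((1 : ℕ) : ℕ∞) := by
      rw [Ideal.height_le_iff]
      intro r hr hrq
      have h1 : p.asIdeal ≤ r.comap (Ideal.Quotient.mk p.asIdeal) := fun x hx => by
        rw [Ideal.mem_comap, Ideal.Quotient.eq_zero_iff_mem.2 hx]; exact r.zero_mem
      have h2 : r.comap (Ideal.Quotient.mk p.asIdeal) < q.asIdeal := by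
        have := Ideal.comap_mono (f := Ideal.Quotient.mk p.asIdeal) hrq.le
        rw [Ideal.comap_map_mk hpq.le] at this
        refine this.lt_of_ne fun h => hrq.ne ?_
        rw [← Ideal.map_comap_of_surjective _ Ideal.Quotient.mk_surjective r, h]
      have h3 : r.comap (Ideal.Quotient.mk p.asIdeal) = p.asIdeal := by
        by_contra hne
        exact (hsat i).2 (c := (⟨_, hr.comap _⟩ : PrimeSpectrum R))
          (PrimeSpectrum.asIdeal_lt_asIdeal _ _ |>.1 (h1.lt_of_ne (Ne.symm hne)))
          (PrimeSpectrum.asIdeal_lt_asIdeal _ _ |>.1 h2)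
      have h4 : r = ⊥ := by
        rw [← Ideal.map_comap_of_surjective _ Ideal.Quotient.mk_surjective r, h3, Ideal.map_quotient_self]
      subst h4
      haveI := p.isPrime
      haveI : IsDomain (R ⧸ p.asIdeal) := Ideal.Quotient.isDomain _
      rw [Ideal.height_bot]
      exact Nat.cast_pos.2 Nat.one_pos
    have h := (Depth.depth_localization_le M p.asIdeal q.asIdeal hpq.le).trans (add_le_add le_rfl hht)
    rw [hf, hf] at h
    have h' : f q ≤ f p + 1 := by exact_mod_cast h
    have hlt : e q < e p := by
      obtain ⟨x, hxq, hxp⟩ := SetLike.exists_of_lt hpq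
      have hxm : x ∈ maximalIdeal R := le_maximalIdeal q.isPrime.ne_top hxq
      have hreg : IsSMulRegular (R ⧸ p.asIdeal) x := by
        rw [isSMulRegular_quotient_iff_mem_of_smul_mem]
        exact fun y hy => (p.isPrime.mem_or_mem hy).resolve_left hxp
      haveI : Nontrivial (R ⧸ p.asIdeal) := Ideal.Quotient.nontrivial_iff.mpr p.isPrime.ne_top
      have h1 := Module.supportDim_quotSMulTop_succ_eq_supportDim hreg hxm
      rw [Module.supportDim_quotient_eq_ringKrullDim, he] at h1
      have h2 : ringKrullDim (R ⧸ q.asIdeal) ≤ Module.supportDim R (QuotSMulTop x (R ⧸ p.asIdeal)) := by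
        refine Depth.ringKrullDim_quotient_le_supportDim ?_
        rw [Module.support_quotSMulTop, Module.support_eq_zeroLocus, Ideal.annihilator_quotient]
        exact ⟨hpq.le, by simpa using hxq⟩
      rw [he] at h2
      haveI := nontrivial_quotSMulTop_of_mem_maximalIdeal (R ⧸ p.asIdeal) hxm
      obtain ⟨n, hn⟩ := Depth.exists_natCast_eq_supportDim (R := R) (M := QuotSMulTop x (R ⧸ p.asIdeal))
      rw [hn] at h1 h2
      have h3 : n + 1 = e p := by exact_mod_cast h1
      have h4 : e q ≤ n := by exact_mod_cast h2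
      omega
    have := hef p; have := hef q
    omega
  have hlast0 : e s.last = 0 := by
    have h := he s.last
    have hf0 : ringKrullDim (R ⧸ s.last.asIdeal) = 0 := by
      haveI : s.last.asIdeal.IsMaximal := hlast ▸ inferInstance
      exact ringKrullDim_eq_zero_of_isField ((Ideal.Quotient.maximal_ideal_iff_isField_quotient _).1 inferInstance)
    rw [hf0] at h
    exact_mod_cast h.symm
  have hall : ∀ j : Fin (s.length + 1), e (s j) + j.val = s.length := by
    intro j
    induction j using Fin.reverseInduction with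
    | last => rw [show s (Fin.last _) = s.last from rfl, hlast0, Fin.val_last, zero_add]
    | cast i ih =>
      rw [hstep]
      simp only [Fin.val_succ, Fin.val_castSucc] at *
      omega
  have hhd : ringKrullDim (R ⧸ s.head.asIdeal) = ((d : ℕ∞) : WithBot ℕ∞) := by
    rw [← hd]
    refine Depth.ringKrullDim_quotient_eq_of_mem_associatedPrimes hM ?_
    refine Module.associatedPrimes.minimalPrimes_annihilator_subset_associatedPrimes R M ?_
    haveI := s.head.isPrime
    refine ⟨⟨s.head.isPrime, ?_⟩, fun q hq hle => hhead.2 ⟨hq.1, bot_le⟩ hle⟩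
    exact Module.mem_support_iff_of_finite.1 (hmem s.head)
  have h0 : e (s 0) + (0 : Fin (s.length + 1)).val = s.length := hall 0
  rw [hdR]
  have : e s.head = d := by
    have := (he s.head).symm.trans hhd
    exact_mod_cast this
  have hs : s.length = d := by rw [← h0, ← this]; rfl
  rw [hs]; rfl

end Quot

section Bij

variable {R M N : Type u} [CommRing R] [IsNoetherianRing R] [AddCommGroup M]
  [Module R M] [Module.Finite R M] [AddCommGroup N] [Module R N]

theorem bijective_of_depth_two (φ : M →ₗ[R] N)
    (h : ∀ (p : Ideal R) [p.IsPrime],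
      Function.Bijective (LocalizedModule.map p.primeCompl φ) ∨
        (2 ≤ depth (Localization.AtPrime p) (LocalizedModule p.primeCompl M) ∧
          p ∉ associatedPrimes R N)) :
    Function.Bijective φ := by
  classical
  have hinj : Function.Injective φ := by
    rw [← LinearMap.ker_eq_bot]
    by_contra hne
    haveI : Nontrivial φ.ker := Submodule.nontrivial_iff_ne_bot.2 hne
    obtain ⟨p, hpK⟩ := associatedPrimes.nonempty R φ.ker
    have hpM : p ∈ associatedPrimes R M := associatedPrimes.subset_of_injective φ.ker.subtype_injective hpK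
    haveI := hpK.isPrime
    rcases h p with hb | ⟨hd, -⟩
    · obtain ⟨hP, f, hf⟩ := (isAssociatedPrime_iff_exists_injective_linearMap p _).1 hpK
      let x := f (Submodule.Quotient.mk (1 : R))
      have h0 : LocalizedModule.map p.primeCompl φ (LocalizedModule.mk x.1 1) = 0 := by
        rw [LocalizedModule.map_mk, show φ x.1 = 0 from x.2, LocalizedModule.zero_mk]
      have h1 := hb.1 (h0.trans (map_zero _).symm)
      rw [← LocalizedModule.zero_mk 1, LocalizedModule.mk_eq] at h1
      obtain ⟨t, ht⟩ := h1
      simp only [one_smul, smul_zero, Submonoid.smul_def] at ht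
      have h2 : f (Submodule.Quotient.mk (t : R)) = 0 := by
        rw [show (Submodule.Quotient.mk (t : R) : R ⧸ p) = (t : R) • Submodule.Quotient.mk 1 by
          rw [← Submodule.Quotient.mk_smul, smul_eq_mul, mul_one], map_smul]
        exact Subtype.ext ht
      exact t.2 ((Submodule.Quotient.mk_eq_zero p).1 (hf (h2.trans (map_zero f).symm)))
    · have hm := Module.associatedPrimes.mem_associatedPrimes_atPrime_of_mem_associatedPrimes hpM
      haveI : Nontrivial (LocalizedModule p.primeCompl M) := by
        by_contra hn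
        rw [not_nontrivial_iff_subsingleton] at hn
        exact Set.eq_empty_iff_forall_notMem.1 (associatedPrimes.eq_empty_of_subsingleton (R := Localization.AtPrime p) (M := LocalizedModule p.primeCompl M)) _ hm
      have h0 : depth (Localization.AtPrime p) (LocalizedModule p.primeCompl M) = 0 :=
        Depth.depth_eq_zero_iff.2 hm
      rw [h0] at hd
      exact absurd hd (by decide)
  refine ⟨hinj, ?_⟩
  rw [← LinearMap.range_eq_top]
  by_contra hne
  haveI : Nontrivial (N ⧸ φ.range) := Submodule.Quotient.nontrivial_iff.2 hne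
  obtain ⟨p, hpQ⟩ := associatedPrimes.nonempty R (N ⧸ φ.range)
  haveI := hpQ.isPrime
  obtain ⟨hP, f, hf⟩ := (isAssociatedPrime_iff_exists_injective_linearMap p _).1 hpQ
  obtain ⟨x, hx⟩ := Submodule.Quotient.mk_surjective _ (f (Submodule.Quotient.mk (1 : R)))
  have hkey : ∀ c : R, c • x ∈ φ.range ↔ c ∈ p := by
    intro c
    rw [← Submodule.Quotient.mk_eq_zero, Submodule.Quotient.mk_smul, hx, ← map_smul,
      ← Submodule.Quotient.mk_smul, smul_eq_mul, mul_one, ← map_zero f, hf.eq_iff, Submodule.Quotient.mk_eq_zero]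
  rcases h p with hb | ⟨hd, hN⟩
  · obtain ⟨z, hz⟩ := hb.2 (LocalizedModule.mk x 1)
    induction z using LocalizedModule.induction_on with
    | h m s =>
      rw [LocalizedModule.map_mk, LocalizedModule.mk_eq] at hz
      obtain ⟨t, ht⟩ := hz
      simp only [one_smul, Submonoid.smul_def, smul_smul] at ht
      have : ((t : R) * s) • x ∈ φ.range := ⟨(t : R) • m, by rw [map_smul, ← ht]⟩
      exact (hP.mem_or_mem ((hkey _).1 this)).elim t.2 s.2
  apply hN
  set A := Localization.AtPrime p
  set m := maximalIdeal A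
  set φ' := LocalizedModule.map p.primeCompl φ
  have hinj' : Function.Injective φ' := LocalizedModule.map_injective p.primeCompl φ hinj
  set x' : LocalizedModule p.primeCompl N := LocalizedModule.mk x 1
  have hx' : x' ∉ φ'.range := by
    rintro ⟨z, hz⟩
    induction z using LocalizedModule.induction_on with
    | h n s =>
      simp only [φ', x', LocalizedModule.map_mk, LocalizedModule.mk_eq] at hz
      obtain ⟨t, ht⟩ := hz
      simp only [one_smul, Submonoid.smul_def, smul_smul] at ht
      have : ((t : R) * s) • x ∈ φ.range := ⟨(t : R) • n, by rw [map_smul, ← ht]⟩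
      exact (hP.mem_or_mem ((hkey _).1 this)).elim t.2 s.2
  have hc : ∀ c ∈ m, c • x' ∈ φ'.range := by
    intro c hc
    obtain ⟨a, s, rfl⟩ := IsLocalization.exists_mk'_eq p.primeCompl c
    have ha : a ∈ p := (IsLocalization.AtPrime.mk'_mem_maximal_iff A p a s).1 hc
    obtain ⟨n, hn⟩ := (hkey a).2 ha
    refine ⟨LocalizedModule.mk n s, ?_⟩
    show φ' (LocalizedModule.mk n s) = _
    simp only [φ', x', LocalizedModule.map_mk, hn]
    rw [← Localization.mk_eq_mk'_apply]
    exact ((LocalizedModule.mk_smul_mk a x s 1).trans (by rw [mul_one])).symm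
  obtain ⟨y, hy0, hy⟩ : ∃ y : LocalizedModule p.primeCompl N, y ≠ 0 ∧ ∀ c ∈ m, c • y = 0 := by
    rcases subsingleton_or_nontrivial (LocalizedModule p.primeCompl M) with hM | hM
    · refine ⟨x', fun h0 => hx' (h0 ▸ zero_mem _), fun c hc' => ?_⟩
      obtain ⟨z, hz⟩ := hc c hc'
      rw [← hz, Subsingleton.elim z 0, map_zero]
    have hne := Depth.maximalIdeal_smul_top_ne_top (R := A) (M := LocalizedModule p.primeCompl M)
    obtain ⟨a, ha, rega⟩ := (Depth.one_le_idealDepth_iff hne).1 (le_trans (by decide) hd)
    haveI : Nontrivial (QuotSMulTop a (LocalizedModule p.primeCompl M)) :=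
      nontrivial_quotSMulTop_of_mem_maximalIdeal _ ha
    have h1 : (1 : ℕ∞) ≤ idealDepth m (QuotSMulTop a (LocalizedModule p.primeCompl M)) := by
      have h2 := Depth.idealDepth_quotSMulTop_add_one (I := m) (LocalizedModule p.primeCompl M) ha rega
      have hd' : (2 : ℕ∞) ≤ idealDepth m (LocalizedModule p.primeCompl M) := hd
      rw [← h2, show (2 : ℕ∞) = 1 + 1 from rfl] at hd'
      exact (ENat.add_le_add_iff_right ENat.one_ne_top).1 hd'
    obtain ⟨b, hb, regb⟩ := (Depth.one_le_idealDepth_iff
      (Depth.maximalIdeal_smul_top_ne_top (R := A) (M := QuotSMulTop a (LocalizedModule p.primeCompl M)))).1 h1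
    obtain ⟨ma, hma⟩ := hc a ha
    obtain ⟨mb, hmb⟩ := hc b hb
    have hab : b • ma = a • mb := hinj' (by rw [map_smul, map_smul, hma, hmb, smul_comm])
    have hq : b • (Submodule.Quotient.mk ma : QuotSMulTop a (LocalizedModule p.primeCompl M)) = 0 := by
      rw [← Submodule.Quotient.mk_smul, Submodule.Quotient.mk_eq_zero, hab]
      exact Submodule.smul_mem_pointwise_smul _ _ _ Submodule.mem_top
    obtain ⟨m', -, hm'⟩ := (Submodule.mem_smul_pointwise_iff_exists _ _ _).1
      ((Submodule.Quotient.mk_eq_zero _).1 (regb.right_eq_zero_of_smul hq))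
    refine ⟨x' - φ' m', fun h0 => hx' ⟨m', (sub_eq_zero.1 h0).symm⟩, fun c hc' => ?_⟩
    obtain ⟨mc, hmc⟩ := hc c hc'
    have hay : a • (x' - φ' m') = 0 := by rw [smul_sub, ← hma, ← map_smul, hm', sub_self]
    have : a • (mc - c • m') = 0 := hinj' (by
      rw [map_zero, map_smul, map_sub, map_smul, hmc, ← smul_sub, smul_comm, hay, smul_zero])
    rw [smul_sub, ← hmc, ← map_smul, ← map_sub, rega.right_eq_zero_of_smul this, map_zero]
  have hass : m ∈ associatedPrimes A (LocalizedModule p.primeCompl N) := by
    rw [AssociatedPrimes.mem_iff, isAssociatedPrime_iff_exists_injective_linearMap]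
    refine ⟨inferInstance, Submodule.liftQ m (LinearMap.toSpanSingleton A _ y) (fun c hc' => hy c hc'), ?_⟩
    rw [← LinearMap.ker_eq_bot, Submodule.ker_liftQ]
    refine le_bot_iff.1 ?_
    rw [Submodule.map_le_iff_le_comap, Submodule.comap_bot, Submodule.ker_mkQ]
    intro c hc'
    by_contra hcm
    have hu : IsUnit c := (IsLocalRing.notMem_maximalIdeal).1 hcm
    exact hy0 ((hu.smul_eq_zero).1 hc')
  have := Module.associatedPrimes.comap_mem_associatedPrimes_of_mem_associatedPrimes_of_isLocalizedModule_of_fg
    p.primeCompl (LocalizedModule.mkLinearMap p.primeCompl N) m hass (IsNoetherian.noetherian _)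
  rwa [← Ideal.under_def, Localization.AtPrime.under_maximalIdeal] at this

end Bij

end Groth.Agent.CAlgT1
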