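import Mathlib
import Groth.Prelude.Def_Found
import Groth.Agent.CatenaryLib.Basic

/-!
# Catenarity is local
-/

set_option autoImplicit false
universe u

namespace Groth.Agent.CAlgT1

theorem isCatenary_iff_maximal (R : Type u) [CommRing R] :
    CAlg.IsCatenary R ↔ ∀ (m : Ideal R) [m.IsMaximal], CAlg.IsCatenary (Localization.AtPrime m) := by
  refine ⟨fun h m _ => CatenaryLib.isCatenary_of_isLocalization m.primeCompl h, fun h => ?_⟩
  have key : ∀ q : PrimeSpectrum R, ∃ (m : Ideal R) (_ : m.IsMaximal), ∀ s : LTSeries (PrimeSpectrum R), s.last = q →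
      ∃ s' : LTSeries (PrimeSpectrum (Localization.AtPrime m)), s'.length = s.length ∧
        PrimeSpectrum.comap (algebraMap R (Localization.AtPrime m)) s'.head = s.head ∧
        PrimeSpectrum.comap (algebraMap R (Localization.AtPrime m)) s'.last = s.last ∧
        ((∀ i : Fin s.length, s (Fin.castSucc i) ⋖ s (Fin.succ i)) →
          ∀ i : Fin s'.length, s' (Fin.castSucc i) ⋖ s' (Fin.succ i)) := by
    intro q
    obtain ⟨m, hm, hqm⟩ := Ideal.exists_le_maximal q.asIdeal q.isPrime.ne_top
    refine ⟨m, hm, fun s hs => ?_⟩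
    let f := PrimeSpectrum.comap (algebraMap R (Localization.AtPrime m))
    have hf : ∀ a b, f a ≤ f b ↔ a ≤ b := fun a b => by
      refine ⟨fun h => ?_, fun h => Ideal.comap_mono h⟩
      show a.asIdeal ≤ b.asIdeal
      rw [← IsLocalization.map_under m.primeCompl (Localization.AtPrime m) a.asIdeal,
        ← IsLocalization.map_under m.primeCompl (Localization.AtPrime m) b.asIdeal]
      exact Ideal.map_mono h
    have hlt : ∀ a b, f a < f b ↔ a < b := fun a b => by rw [lt_iff_le_not_ge, lt_iff_le_not_ge, hf, hf]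
    have hlift : ∀ i, ∃ x, f x = s i := fun i => by
      have h1 : s i ∈ {p : PrimeSpectrum R | Disjoint (m.primeCompl : Set R) p.asIdeal} := by
        refine Set.disjoint_left.2 fun r hr hri => hr (hqm ?_)
        have h2 : s i ≤ s.last := s.monotone (Fin.le_last i)
        rw [hs] at h2
        exact h2 hri
      rwa [← PrimeSpectrum.localization_comap_range (Localization.AtPrime m) m.primeCompl] at h1
    choose g hg using hlift
    refine ⟨⟨s.length, g, fun i => ?_⟩, rfl, hg 0, hg (Fin.last _), fun hsat i => ?_⟩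
    · exact (hlt _ _).mp (by rw [hg, hg]; exact s.step i)
    · have h1 := hsat i
      rw [← hg, ← hg] at h1
      exact ⟨(hlt _ _).mp h1.1, fun c ha hb => h1.2 ((hlt _ _).mpr ha) ((hlt _ _).mpr hb)⟩
  have hinj : ∀ (m : Ideal R) [m.IsMaximal],
      Function.Injective (PrimeSpectrum.comap (algebraMap R (Localization.AtPrime m))) :=
    fun m _ => PrimeSpectrum.localization_comap_injective _ m.primeCompl
  constructor
  · intro p q hpq
    obtain ⟨m, hm, hl⟩ := key q
    by_cases hex : ∃ s : LTSeries (PrimeSpectrum R), s.head = p ∧ s.last = q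
    · obtain ⟨s₀, h0, h0'⟩ := hex
      obtain ⟨t₀, -, ht₀, ht₀', -⟩ := hl s₀ h0'
      obtain ⟨n, hn⟩ := (h m).1 t₀.head t₀.last t₀.head_le_last
      refine ⟨n, fun s hs hs' => ?_⟩
      obtain ⟨t, htl, hth, htl', -⟩ := hl s hs'
      rw [← htl]
      exact hn t (hinj m (by rw [hth, ht₀, hs, h0])) (hinj m (by rw [htl', ht₀', hs', h0']))
    · exact ⟨0, fun s hs hs' => absurd ⟨s, hs, hs'⟩ hex⟩
  · intro s t hh hl' hs ht
    obtain ⟨m, hm, hl⟩ := key s.last
    obtain ⟨s', h1, h2, h3, h4⟩ := hl s rfl
    obtain ⟨t', k1, k2, k3, k4⟩ := hl t hl'.symm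
    rw [← h1, ← k1]
    exact (h m).2 s' t' (hinj m (by rw [h2, k2, hh])) (hinj m (by rw [h3, k3, hl'])) (h4 hs) (k4 ht)

theorem isUniversallyCatenary_iff_maximal (R : Type u) [CommRing R] [IsNoetherianRing R] :
    CAlg.IsUniversallyCatenary R ↔
      ∀ (m : Ideal R) [m.IsMaximal], CAlg.IsUniversallyCatenary (Localization.AtPrime m) := by
  constructor
  · intro h m _
    refine ⟨IsLocalization.isNoetherianRing m.primeCompl _ inferInstance, fun S _ _ hS => ?_⟩
    letI : Algebra R S := ((algebraMap (Localization.AtPrime m) S).comp (algebraMap R (Localization.AtPrime m))).toAlgebra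
    haveI : IsScalarTower R (Localization.AtPrime m) S := IsScalarTower.of_algebraMap_eq fun _ => rfl
    haveI : Algebra.EssFiniteType R (Localization.AtPrime m) := Algebra.EssFiniteType.of_isLocalization _ m.primeCompl
    haveI := hS
    haveI : Algebra.EssFiniteType R S := Algebra.EssFiniteType.comp R (Localization.AtPrime m) S
    exact CatenaryLib.isCatenary_of_essFiniteType h
  · intro h
    refine ⟨inferInstance, fun S _ _ hS => (isCatenary_iff_maximal S).2 fun M _ => ?_⟩
    obtain ⟨m, hm, hle⟩ := Ideal.exists_le_maximal (M.comap (algebraMap R S))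
      (Ideal.comap_ne_top _ (Ideal.IsMaximal.ne_top ‹_›))
    have hu : ∀ y : m.primeCompl, IsUnit (algebraMap R (Localization.AtPrime M) y) := fun y => by
      rw [IsScalarTower.algebraMap_apply R S (Localization.AtPrime M)]
      exact IsLocalization.map_units (M := M.primeCompl) (Localization.AtPrime M)
        ⟨algebraMap R S y, fun hy => y.2 (hle hy)⟩
    letI : Algebra (Localization.AtPrime m) (Localization.AtPrime M) := (IsLocalization.lift hu).toAlgebra
    haveI : IsScalarTower R (Localization.AtPrime m) (Localization.AtPrime M) :=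
      IsScalarTower.of_algebraMap_eq fun x => (IsLocalization.lift_eq hu x).symm
    haveI := hS
    haveI : Algebra.EssFiniteType S (Localization.AtPrime M) := Algebra.EssFiniteType.of_isLocalization _ M.primeCompl
    haveI : Algebra.EssFiniteType R (Localization.AtPrime M) := Algebra.EssFiniteType.comp R S _
    haveI : Algebra.EssFiniteType (Localization.AtPrime m) (Localization.AtPrime M) :=
      Algebra.EssFiniteType.of_comp R _ _
    exact CatenaryLib.isCatenary_of_essFiniteType (h m)

end Groth.Agent.CAlgT1
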