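import Mathlib

set_option autoImplicit false
universe u

namespace Groth.Agent.CAlgT1

variable {R : Type u} [CommRing R]

/-- A coherent module. -/
def IsCoh (R : Type u) [CommRing R] (M : Type u) [AddCommGroup M] [Module R M] : Prop :=
  Module.Finite R M ∧ ∀ N : Submodule R M, N.FG → Module.FinitePresentation R N

theorem isCoh_of_shortExact {M₁ M₂ M₃ : Type u} [AddCommGroup M₁] [Module R M₁] [AddCommGroup M₂]
    [Module R M₂] [AddCommGroup M₃] [Module R M₃] (f : M₁ →ₗ[R] M₂) (g : M₂ →ₗ[R] M₃)
    (hf : Function.Injective f) (hg : Function.Surjective g) (hfg : LinearMap.range f = LinearMap.ker g)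
    (h₁ : IsCoh R M₁) (h₃ : IsCoh R M₃) : IsCoh R M₂ := by
  refine ⟨⟨Submodule.fg_of_fg_map_of_fg_inf_ker g ?_ ?_⟩, fun N hN => ?_⟩
  · rw [Submodule.map_top, LinearMap.range_eq_top.2 hg]
    exact h₃.1.fg_top
  · rw [top_inf_eq, ← hfg, ← Submodule.map_top]
    exact h₁.1.fg_top.map f
  haveI : Module.Finite R N := Module.Finite.iff_fg.2 hN
  haveI : Module.FinitePresentation R (N.map g) := h₃.2 _ (hN.map g)
  let q : N →ₗ[R] N.map g := g.submoduleMap N
  have hq : Function.Surjective q := g.submoduleMap_surjective N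
  have hk : (LinearMap.ker q).FG := Module.FinitePresentation.fg_ker q hq
  have hK : (((LinearMap.ker q).map N.subtype).comap f).map f = (LinearMap.ker q).map N.subtype := by
    rw [Submodule.map_comap_eq]
    refine inf_eq_right.2 ?_
    rintro x ⟨y, hy, rfl⟩
    rw [hfg]
    exact LinearMap.mem_ker.2 (congrArg Subtype.val (show q y = 0 from hy))
  have h2 : (((LinearMap.ker q).map N.subtype).comap f).FG := by
    refine Submodule.fg_of_fg_map_injective f hf ?_
    rw [hK]
    exact hk.map _
  haveI := h₁.2 _ h2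
  haveI : Module.FinitePresentation R (LinearMap.ker q) :=
    Module.FinitePresentation.of_equiv
      ((Submodule.equivMapOfInjective f hf _).trans ((LinearEquiv.ofEq _ _ hK).trans
        (Submodule.equivMapOfInjective N.subtype N.injective_subtype (LinearMap.ker q)).symm))
  exact Module.finitePresentation_of_ker q hq

theorem isCoh_of_equiv {M N : Type u} [AddCommGroup M] [Module R M] [AddCommGroup N] [Module R N]
    (e : M ≃ₗ[R] N) (h : IsCoh R M) : IsCoh R N := by
  haveI := h.1
  refine ⟨Module.Finite.equiv e, fun P hP => ?_⟩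
  haveI := h.2 _ (hP.map e.symm.toLinearMap)
  exact Module.FinitePresentation.of_equiv
    (Submodule.equivMapOfInjective e.symm.toLinearMap e.symm.injective P).symm

theorem isCoh_pi (hR : ∀ I : Ideal R, I.FG → Module.FinitePresentation R I) :
    ∀ n : ℕ, IsCoh R (Fin n → R) := by
  intro n
  induction n with
  | zero =>
    refine ⟨inferInstance, fun N _ => ?_⟩
    haveI : Subsingleton N := inferInstance
    infer_instance
  | succ n ih =>
    have h1 : IsCoh R R := ⟨inferInstance, hR⟩
    have h2 : IsCoh R (R × (Fin n → R)) :=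
      isCoh_of_shortExact (LinearMap.inl R R _) (LinearMap.snd R R _) LinearMap.inl_injective
        LinearMap.snd_surjective (LinearMap.range_inl R R _) h1 ih
    exact isCoh_of_equiv (Fin.consLinearEquiv R fun _ : Fin (n + 1) => R) h2

theorem isCoh_iff_finitePresentation (hR : ∀ I : Ideal R, I.FG → Module.FinitePresentation R I)
    (M : Type u) [AddCommGroup M] [Module R M] : IsCoh R M ↔ Module.FinitePresentation R M := by
  refine ⟨fun h => ?_, fun h => ⟨inferInstance, fun N hN => ?_⟩⟩
  · haveI := h.2 ⊤ h.1.fg_top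
    exact Module.FinitePresentation.of_equiv Submodule.topEquiv
  obtain ⟨n, φ, hφ⟩ := Module.Finite.exists_fin' R M
  have hK : (LinearMap.ker φ).FG := Module.FinitePresentation.fg_ker φ hφ
  have hN' : (N.comap φ).FG := by
    refine Submodule.fg_of_fg_map_of_fg_inf_ker φ ?_ ?_
    · rw [Submodule.map_comap_eq_of_surjective hφ]
      exact hN
    · rw [inf_eq_right.2 (LinearMap.ker_le_comap φ)]
      exact hK
  haveI := (isCoh_pi hR n).2 _ hN'
  have hle : ∀ x ∈ N.comap φ, φ x ∈ N := fun x hx => hx
  refine Module.finitePresentation_of_surjective (φ.restrict hle) ?_ ?_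
  · rintro ⟨y, hy⟩
    obtain ⟨x, rfl⟩ := hφ y
    exact ⟨⟨x, hy⟩, rfl⟩
  · refine Submodule.fg_of_fg_map_injective (N.comap φ).subtype (Submodule.injective_subtype _) ?_
    rw [LinearMap.ker_restrict, Submodule.map_comap_subtype, inf_eq_right.2 (LinearMap.ker_le_comap φ)]
    exact hK

end Groth.Agent.CAlgT1
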