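import Mathlib

/-!
# Filtered colimits of henselian local rings
-/

set_option autoImplicit false
universe u

open CategoryTheory CategoryTheory.Limits Polynomial

namespace Groth.Agent.CAlgT1

theorem henselianLocalRing_of_isFilteredColimit {J : Type u} [SmallCategory J] [IsFiltered J]
    (F : J ⥤ CommRingCat.{u}) (hF : ∀ j, HenselianLocalRing (F.obj j))
    (hloc : ∀ (i j : J) (a : i ⟶ j), IsLocalHom (F.map a).hom)
    (c : Cocone F) (hc : IsColimit c) : HenselianLocalRing c.pt := by
  classical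
  let ι : ∀ j, F.obj j →+* c.pt := fun j => (c.ι.app j).hom
  have hι : ∀ {i j : J} (a : i ⟶ j) (x : F.obj i), ι j ((F.map a).hom x) = ι i x := fun {i j} a x =>
    congr($(congrArg CommRingCat.Hom.hom (c.w a)) x)
  have rep : ∀ x : c.pt, ∃ j y, ι j y = x := fun x => Concrete.isColimit_exists_rep F hc x
  have req : ∀ {i : J} (x y : F.obj i), ι i x = ι i y → ∃ k, ∃ a : i ⟶ k, (F.map a).hom x = (F.map a).hom y := by
    intro i x y h
    obtain ⟨k, a, b, hab⟩ := Concrete.isColimit_exists_of_rep_eq.{u} F hc x y h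
    refine ⟨IsFiltered.coeq a b, a ≫ IsFiltered.coeqHom a b, ?_⟩
    have h1 := congrArg (F.map (IsFiltered.coeqHom a b)).hom hab
    have h2 : a ≫ IsFiltered.coeqHom a b = b ≫ IsFiltered.coeqHom a b := IsFiltered.coeq_condition a b
    calc (F.map (a ≫ IsFiltered.coeqHom a b)).hom x = (F.map (IsFiltered.coeqHom a b)).hom ((F.map a).hom x) := by
          rw [F.map_comp]; rfl
      _ = (F.map (IsFiltered.coeqHom a b)).hom ((F.map b).hom y) := h1
      _ = _ := by rw [h2, F.map_comp]; rfl
  have hunit : ∀ {i : J} (x : F.obj i), IsUnit (ι i x) → IsUnit x := by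
    intro i x hx
    obtain ⟨y, hy⟩ := isUnit_iff_exists_inv.1 hx
    obtain ⟨j, y', rfl⟩ := rep y
    obtain ⟨k, a, b, _⟩ := IsFilteredOrEmpty.cocone_objs i j
    obtain ⟨l, d, hl⟩ := req ((F.map a).hom x * (F.map b).hom y') 1 (by rw [map_mul, hι, hι, hy, map_one])
    rw [map_mul, map_one] at hl
    haveI := hloc i l (a ≫ d)
    refine isUnit_of_map_unit (F.map (a ≫ d)).hom x ?_
    rw [F.map_comp]
    exact IsUnit.of_mul_eq_one _ hl
  haveI : Nontrivial c.pt := by
    refine ⟨⟨0, 1, fun h => ?_⟩⟩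
    obtain ⟨j⟩ := IsFiltered.nonempty (C := J)
    haveI := hF j
    exact not_isUnit_zero (hunit (0 : F.obj j) (by rw [map_zero, h]; exact isUnit_one))
  haveI : IsLocalRing c.pt := IsLocalRing.of_isUnit_or_isUnit_one_sub_self fun x => by
    obtain ⟨j, y, rfl⟩ := rep x
    haveI := hF j
    rcases IsLocalRing.isUnit_or_isUnit_one_sub_self y with h | h
    · exact Or.inl (h.map _)
    · exact Or.inr (by simpa using h.map (ι j))
  refine { is_henselian := fun f hf a₀ h₁ h₂ => ?_ }
  choose jc yc hyc using fun n : ℕ => rep (f.coeff n)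
  obtain ⟨ja, ya, hya⟩ := rep a₀
  let O : Finset J := insert ja ((Finset.range f.natDegree).image jc)
  obtain ⟨k, hk⟩ := IsFiltered.sup_objs_exists O
  let tc : ∀ n < f.natDegree, jc n ⟶ k := fun n hn =>
    (hk (Finset.mem_insert_of_mem (Finset.mem_image_of_mem _ (Finset.mem_range.2 hn)))).some
  let ta : ja ⟶ k := (hk (Finset.mem_insert_self _ _)).some
  let g : (F.obj k)[X] := X ^ f.natDegree + ∑ n : Fin f.natDegree, C ((F.map (tc n n.2)).hom (yc n)) * X ^ (n : ℕ)
  have hg : g.map (ι k) = f := by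
    conv_rhs => rw [hf.as_sum]
    simp only [g, Polynomial.map_add, Polynomial.map_pow, map_X, Polynomial.map_sum, Polynomial.map_mul, map_C]
    rw [Finset.sum_range fun i => C (f.coeff i) * X ^ i]
    congr 1
    exact Finset.sum_congr rfl fun n _ => by rw [hι, hyc]
  have hgm : g.Monic := monic_X_pow_add (degree_sum_fin_lt _)
  let b₀ := (F.map ta).hom ya
  have hb : ι k b₀ = a₀ := (hι ta ya).trans hya
  haveI := hF k
  obtain ⟨b, hb1, hb2⟩ := HenselianLocalRing.is_henselian g hgm b₀
    (fun hu => h₁ (by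
      have := hu.map (ι k)
      rwa [← eval₂_at_apply, ← Polynomial.eval_map, hg, hb] at this))
    (hunit _ (by rw [← eval₂_at_apply, ← Polynomial.eval_map, ← derivative_map, hg, hb]; exact h₂))
  refine ⟨ι k b, ?_, fun hu => hb2 (hunit _ (by rw [map_sub, hb]; exact hu))⟩
  show f.eval (ι k b) = 0
  rw [← hg, Polynomial.eval_map, eval₂_at_apply, hb1, map_zero]

end Groth.Agent.CAlgT1
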