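import Mathlib
import Groth.Agent.CAlgResExt.DirectLimit

/-!
# Modules as limits of finitely presented modules, and Lazard's theorem
-/

set_option autoImplicit false
set_option backward.isDefEq.respectTransparency false
set_option backward.isDefEq.respectTransparency.types false
universe u

open CategoryTheory

namespace Groth.Agent.CAlgT1.Lazard

variable (R : Type u) [CommRing R] (M : Type u) [AddCommGroup M] [Module R M]

/-- The big free module. -/
abbrev F : Type u := (M × ℕ) →₀ R

/-- The tautological map to `M`. -/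
noncomputable def proj : F R M →ₗ[R] M := Finsupp.linearCombination R Prod.fst

/-- Finite partial presentations of `M`. -/
structure Idx : Type u where
  s : Finset (M × ℕ)
  K : Submodule R (F R M)
  fg : K.FG
  le_supp : K ≤ Finsupp.supported R R (s : Set (M × ℕ))
  le_ker : K ≤ LinearMap.ker (proj R M)

instance : Preorder (Idx R M) where
  le i j := i.s ⊆ j.s ∧ i.K ≤ j.K
  le_refl i := ⟨subset_rfl, le_rfl⟩
  le_trans i j k h h' := ⟨h.1.trans h'.1, h.2.trans h'.2⟩

variable {R M}

/-- The inclusion of the generators of a stage. -/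
noncomputable def emb (i : Idx R M) : ((i.s : Set (M × ℕ)) →₀ R) →ₗ[R] F R M :=
  Finsupp.lmapDomain R R Subtype.val

theorem emb_single (i : Idx R M) (x : (i.s : Set (M × ℕ))) (r : R) :
    emb i (Finsupp.single x r) = Finsupp.single x.1 r := Finsupp.mapDomain_single

theorem emb_injective (i : Idx R M) : Function.Injective (emb i) :=
  Finsupp.mapDomain_injective Subtype.val_injective

theorem range_emb (i : Idx R M) :
    LinearMap.range (emb i) = Finsupp.supported R R (i.s : Set (M × ℕ)) := by
  rw [emb, Finsupp.range_lmapDomain, Finsupp.supported_eq_span_single, Set.image_eq_range]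

/-- The relations of a stage. -/
noncomputable abbrev Rel (i : Idx R M) : Submodule R ((i.s : Set (M × ℕ)) →₀ R) := i.K.comap (emb i)

/-- A stage. -/
abbrev G (i : Idx R M) : Type u := ((i.s : Set (M × ℕ)) →₀ R) ⧸ Rel i

/-- The inclusion of generators. -/
noncomputable def incl (i j : Idx R M) (h : i ≤ j) :
    ((i.s : Set (M × ℕ)) →₀ R) →ₗ[R] ((j.s : Set (M × ℕ)) →₀ R) :=
  Finsupp.lmapDomain R R (Set.inclusion (Finset.coe_subset.2 h.1))

theorem emb_incl (i j : Idx R M) (h : i ≤ j) (x) : emb j (incl i j h x) = emb i x :=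
  (Finsupp.mapDomain_comp (f := Set.inclusion (Finset.coe_subset.2 h.1)) (g := Subtype.val) (v := x)).symm

/-- Transition maps. -/
noncomputable def tr (i j : Idx R M) (h : i ≤ j) : G i →ₗ[R] G j :=
  Submodule.mapQ _ _ (incl i j h) fun x hx => by
    show emb j (incl i j h x) ∈ j.K
    rw [emb_incl]
    exact h.2 hx

theorem tr_mk (i j : Idx R M) (h : i ≤ j) (x) :
    tr i j h (Submodule.Quotient.mk x) = Submodule.Quotient.mk (incl i j h x) := rfl

/-- The map to `M`. -/
noncomputable def toM (i : Idx R M) : G i →ₗ[R] M :=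
  Submodule.liftQ _ ((proj R M).comp (emb i)) fun _ hx => i.le_ker hx

theorem exists_upper (i j : Idx R M) : ∃ k, i ≤ k ∧ j ≤ k := by
  classical
  exact ⟨⟨i.s ∪ j.s, i.K ⊔ j.K, i.fg.sup j.fg,
    sup_le (i.le_supp.trans (Finsupp.supported_mono (by simp)))
      (j.le_supp.trans (Finsupp.supported_mono (by simp))),
    sup_le i.le_ker j.le_ker⟩, ⟨Finset.subset_union_left, le_sup_left⟩,
    ⟨Finset.subset_union_right, le_sup_right⟩⟩

theorem finitePresentation (i : Idx R M) : Module.FinitePresentation R (G i) := by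
  refine Module.finitePresentation_of_surjective _ (Submodule.mkQ_surjective _) ?_
  rw [Submodule.ker_mkQ]
  refine Submodule.fg_of_fg_map_injective (emb i) (emb_injective i) ?_
  rw [Submodule.map_comap_eq, range_emb, inf_eq_right.2 i.le_supp]
  exact i.fg

variable (P : Idx R M → Prop)

/-- The system restricted to a class of stages. -/
noncomputable abbrev sys (i j : {i : Idx R M // P i}) (h : i ≤ j) : G i.1 →ₗ[R] G j.1 := tr i.1 j.1 h

instance : DirectedSystem (fun i : {i : Idx R M // P i} => G i.1) fun i j h => sys P i j h where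
  map_self i x := by
    obtain ⟨x, rfl⟩ := Submodule.mkQ_surjective _ x
    refine congrArg Submodule.Quotient.mk ?_
    exact emb_injective _ (emb_incl _ _ _ x)
  map_map i j k hij hjk x := by
    obtain ⟨x, rfl⟩ := Submodule.mkQ_surjective _ x
    refine congrArg Submodule.Quotient.mk ?_
    exact emb_injective _ (by rw [emb_incl, emb_incl, emb_incl])

theorem isDirected_sub (hP : ∀ i, ∃ j, i ≤ j ∧ P j) : IsDirected {i : Idx R M // P i} (· ≤ ·) :=
  ⟨fun i j => by
    obtain ⟨k, hik, hjk⟩ := exists_upper i.1 j.1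
    obtain ⟨l, hkl, hl⟩ := hP k
    exact ⟨⟨l, hl⟩, hik.trans hkl, hjk.trans hkl⟩⟩

theorem nonempty_sub (hP : ∀ i, ∃ j, i ≤ j ∧ P j) : Nonempty {i : Idx R M // P i} :=
  let ⟨j, _, hj⟩ := hP ⟨∅, ⊥, Submodule.fg_bot, bot_le, bot_le⟩
  ⟨⟨j, hj⟩⟩

theorem nonempty_linearEquiv [DecidableEq {i : Idx R M // P i}] (hP : ∀ i, ∃ j, i ≤ j ∧ P j) :
    Nonempty (Module.DirectLimit (fun i : {i : Idx R M // P i} => G i.1) (sys P) ≃ₗ[R] M) := by
  classical
  haveI := isDirected_sub P hP
  haveI := nonempty_sub P hP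
  let Ψ := Module.DirectLimit.lift R {i : Idx R M // P i} (fun i => G i.1) (sys P) (fun i => toM i.1)
    fun i j h x => by
      obtain ⟨x, rfl⟩ := Submodule.mkQ_surjective _ x
      exact congrArg (proj R M) (emb_incl _ _ h x)
  refine ⟨LinearEquiv.ofBijective Ψ ⟨fun z w hzw => ?_, fun m => ?_⟩⟩
  · obtain ⟨i, x, y, rfl, rfl⟩ := Module.DirectLimit.exists_of₂ z w
    obtain ⟨x, rfl⟩ := Submodule.mkQ_surjective _ x
    obtain ⟨y, rfl⟩ := Submodule.mkQ_surjective _ y
    simp only [Ψ, Module.DirectLimit.lift_of] at hzw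
    have hx : emb i.1 (x - y) ∈ LinearMap.ker (proj R M) := by
      rw [LinearMap.mem_ker, map_sub, map_sub, sub_eq_zero]
      exact hzw
    let k : Idx R M := ⟨i.1.s, i.1.K ⊔ Submodule.span R {emb i.1 (x - y)}, i.1.fg.sup (Submodule.fg_span_singleton _),
      sup_le i.1.le_supp ((Submodule.span_singleton_le_iff_mem _ _).2 (range_emb i.1 ▸ LinearMap.mem_range_self _ _)),
      sup_le i.1.le_ker ((Submodule.span_singleton_le_iff_mem _ _).2 hx)⟩
    obtain ⟨j, hkj, hj⟩ := hP k
    have hij : i ≤ ⟨j, hj⟩ := (le_trans (show i.1 ≤ k from ⟨subset_rfl, le_sup_left⟩) hkj : i.1 ≤ j)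
    rw [← Module.DirectLimit.of_f (hij := hij)]
    conv_rhs => rw [← Module.DirectLimit.of_f (hij := hij)]
    refine congrArg _ ((Submodule.Quotient.eq _).2 (Submodule.mem_comap.2 ?_))
    rw [← map_sub, emb_incl]
    exact hkj.2 (Submodule.mem_sup_right (Submodule.mem_span_singleton_self (emb i.1 (x - y))))
  · obtain ⟨j, hij, hj⟩ := hP ⟨{(m, 0)}, ⊥, Submodule.fg_bot, bot_le, bot_le⟩
    refine ⟨Module.DirectLimit.of R _ _ (sys P) ⟨j, hj⟩
      (Submodule.Quotient.mk (Finsupp.single ⟨(m, 0), hij.1 (Finset.mem_singleton_self _)⟩ 1)), ?_⟩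
    rw [Module.DirectLimit.lift_of]
    show proj R M (emb j _) = m
    rw [emb_single]
    simp [proj]

theorem exists_free_ge [Module.Flat R M] (i : Idx R M) :
    ∃ j, i ≤ j ∧ Module.Free R (G j) ∧ Module.Finite R (G j) := by
  classical
  haveI := finitePresentation i
  obtain ⟨k, a, y, hay⟩ := Module.Flat.exists_factorization_of_finitePresentation (toM i)
  let N₀ := i.s.sup Prod.snd + 1
  let e : Fin k → M × ℕ := fun j => (y (Finsupp.single j 1), N₀ + j)
  have he : Function.Injective e := fun a b h => Fin.ext (Nat.add_left_cancel (congrArg Prod.snd h))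
  have hes : ∀ j, e j ∉ i.s := fun j hj => by
    have := Finset.le_sup (f := Prod.snd) hj
    simp only [e, N₀] at this
    omega
  let t := i.s ∪ Finset.univ.image e
  let cls : M × ℕ → G i := fun x =>
    if hx : x ∈ i.s then Submodule.Quotient.mk (Finsupp.single ⟨x, hx⟩ 1) else 0
  let rel : M × ℕ → F R M := fun x =>
    Finsupp.single x 1 - ∑ j, (a (cls x)) j • Finsupp.single (e j) 1
  have hK : i.K ⊔ Submodule.span R (rel '' i.s) ≤ Finsupp.supported R R (t : Set (M × ℕ)) := by
    refine sup_le (i.le_supp.trans (Finsupp.supported_mono (by simp [t]))) (Submodule.span_le.2 ?_)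
    rintro _ ⟨x, hx, rfl⟩
    refine Submodule.sub_mem _ (Finsupp.single_mem_supported R _ (by simp [t, Finset.mem_coe.1 hx]))
      (Submodule.sum_mem _ fun j _ => Submodule.smul_mem _ _ (Finsupp.single_mem_supported R _ (by simp [t])))
  have hker : i.K ⊔ Submodule.span R (rel '' i.s) ≤ LinearMap.ker (proj R M) := by
    refine sup_le i.le_ker (Submodule.span_le.2 ?_)
    rintro _ ⟨x, hx, rfl⟩
    show proj R M (rel x) = 0
    have h1 : toM i (cls x) = x.1 := by
      simp only [cls, dif_pos (Finset.mem_coe.1 hx)]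
      show proj R M (emb i _) = x.1
      rw [emb_single]
      simp [proj]
    have h2 : y (a (cls x)) = ∑ j, (a (cls x)) j • y (Finsupp.single j 1) := by
      conv_lhs => rw [← Finsupp.univ_sum_single (a (cls x))]
      rw [map_sum]
      exact Finset.sum_congr rfl fun j _ => by rw [← map_smul, Finsupp.smul_single_one]
    simp only [rel, map_sub, map_sum, map_smul]
    have h3 : ∀ j, proj R M (Finsupp.single (e j) (1 : R)) = y (Finsupp.single j 1) := fun j => by simp [proj, e]
    simp only [h3, ← h2]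
    rw [show proj R M (Finsupp.single x (1 : R)) = x.1 by simp [proj], ← LinearMap.comp_apply, ← hay, h1, sub_self]
  let j : Idx R M := ⟨t, i.K ⊔ Submodule.span R (rel '' i.s),
    i.fg.sup (Submodule.fg_span (i.s.finite_toSet.image rel)), hK, hker⟩
  refine ⟨j, ⟨Finset.subset_union_left, le_sup_left⟩, ?_⟩
  let c : M × ℕ → (Fin k →₀ R) := fun x =>
    if x ∈ i.s then a (cls x) else if hx : ∃ l, e l = x then Finsupp.single hx.choose 1 else 0
  let ρ₀ : F R M →ₗ[R] (Fin k →₀ R) := Finsupp.linearCombination R c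
  have hce : ∀ l, c (e l) = Finsupp.single l 1 := fun l => by
    have h : ∃ m, e m = e l := ⟨l, rfl⟩
    simp only [c, if_neg (hes l), dif_pos h]
    rw [he h.choose_spec]
  have hρi : ρ₀ ∘ₗ emb i = a ∘ₗ Submodule.mkQ (Rel i) := by
    refine Finsupp.lhom_ext' fun x => LinearMap.ext_ring ?_
    have hx : (x : M × ℕ) ∈ i.s := x.2
    simp only [LinearMap.comp_apply, Finsupp.lsingle_apply]
    rw [emb_single]
    simp [ρ₀, c, cls, hx]
    rfl
  have hρK : ∀ v ∈ j.K, ρ₀ v = 0 := by
    intro v hv
    suffices h : i.K ⊔ Submodule.span R (rel '' i.s) ≤ LinearMap.ker ρ₀ from h hv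
    refine sup_le (fun w hw => ?_) (Submodule.span_le.2 ?_)
    · obtain ⟨w', rfl⟩ : w ∈ LinearMap.range (emb i) := range_emb i ▸ i.le_supp hw
      show ρ₀ (emb i w') = 0
      rw [← LinearMap.comp_apply, hρi, LinearMap.comp_apply, Submodule.mkQ_apply,
        (Submodule.Quotient.mk_eq_zero _).2 (show w' ∈ Rel i from hw), map_zero]
    · rintro _ ⟨x, hx, rfl⟩
      show ρ₀ (rel x) = 0
      simp [ρ₀, rel, hce, show c x = a (cls x) from if_pos (Finset.mem_coe.1 hx)]
  let ρ : G j →ₗ[R] (Fin k →₀ R) := Submodule.liftQ _ (ρ₀.comp (emb j)) fun v hv => hρK _ hv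
  let pt : Fin k → (j.s : Set (M × ℕ)) := fun l => ⟨e l, by simp [j, t]⟩
  let θ : (Fin k →₀ R) →ₗ[R] G j := Finsupp.linearCombination R fun l =>
    Submodule.Quotient.mk (Finsupp.single (pt l) 1)
  have hρθ : ρ ∘ₗ θ = LinearMap.id := by
    refine Finsupp.lhom_ext' fun l => LinearMap.ext_ring ?_
    simp only [LinearMap.comp_apply, Finsupp.lsingle_apply, θ, Finsupp.linearCombination_single, one_smul,
      LinearMap.id_apply]
    show ρ₀ (emb j (Finsupp.single (pt l) 1)) = _
    rw [emb_single]
    simp [ρ₀, hce, pt]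
  have hθρ : θ ∘ₗ ρ = LinearMap.id := by
    refine Submodule.linearMap_qext _ (Finsupp.lhom_ext' fun x => LinearMap.ext_ring ?_)
    obtain ⟨x, hx⟩ := x
    show θ (ρ₀ (emb j (Finsupp.single ⟨x, hx⟩ 1))) = Submodule.Quotient.mk (Finsupp.single ⟨x, hx⟩ 1)
    rcases Finset.mem_union.1 (Finset.mem_coe.1 hx) with hxs | hxe
    · rw [emb_single, Finsupp.linearCombination_single, one_smul, Eq.comm, ← sub_eq_zero]
      have hrel : rel x ∈ j.K := Submodule.mem_sup_right (Submodule.subset_span ⟨x, hxs, rfl⟩)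
      let r' : (j.s : Set (M × ℕ)) →₀ R :=
        Finsupp.single ⟨x, hx⟩ 1 - ∑ l, (a (cls x)) l • Finsupp.single (pt l) 1
      have he' : emb j r' = rel x := by
        simp only [r', rel, map_sub, map_sum, map_smul, emb_single, pt]
      have h0 : (Submodule.mkQ (Rel j)) r' = 0 :=
        (Submodule.Quotient.mk_eq_zero _).2 (show emb j r' ∈ j.K by rw [he']; exact hrel)
      refine Eq.trans ?_ h0
      simp only [r', map_sub, map_sum, map_smul, Submodule.mkQ_apply]
      congr 1
      simp [θ, c, hxs, Finsupp.linearCombination_apply, Finsupp.sum_fintype]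
    · obtain ⟨l, -, rfl⟩ := Finset.mem_image.1 hxe
      rw [emb_single]
      simp [θ, ρ₀, hce, pt]
  let E : G j ≃ₗ[R] (Fin k →₀ R) := LinearEquiv.ofLinearMap ρ θ hρθ hθρ
  exact ⟨Module.Free.of_equiv E.symm, Module.Finite.equiv E.symm⟩

theorem flat_of_directLimit {ι : Type u} [DecidableEq ι] [Preorder ι] [IsDirected ι (· ≤ ·)] [Nonempty ι]
    (G : ι → Type u) [∀ i, AddCommGroup (G i)] [∀ i, Module R (G i)] [∀ i, Module.Flat R (G i)]
    (f : ∀ i j, i ≤ j → G i →ₗ[R] G j) [DirectedSystem G fun i j h => f i j h] :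
    Module.Flat R (Module.DirectLimit G f) := by
  refine CAlgResExt.flat_of_flat_pieces fun l c x hx => ?_
  choose i z hz using fun t => Module.DirectLimit.exists_of (x t)
  obtain ⟨j, hj⟩ := Finite.exists_le i
  let z' := fun t => f (i t) j (hj t) (z t)
  have hz' : ∀ t, Module.DirectLimit.of R ι G f j (z' t) = x t := fun t => by
    rw [Module.DirectLimit.of_f, hz]
  have h0 : Module.DirectLimit.of R ι G f j (∑ t, c t • z' t) = 0 := by
    rw [map_sum, ← hx]
    exact Finset.sum_congr rfl fun t _ => by rw [map_smul, hz']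
  obtain ⟨k, hjk, hk⟩ := Module.DirectLimit.of.zero_exact h0
  refine ⟨G k, inferInstance, inferInstance, inferInstance, Module.DirectLimit.of R ι G f k,
    fun t => f j k hjk (z' t), fun t => by rw [Module.DirectLimit.of_f, hz'], ?_⟩
  rw [← hk, map_sum]
  simp only [map_smul]

theorem flat_iff_colimit :
    Module.Flat R M ↔
      ∃ (J : Type u) (_ : Preorder J) (_ : IsDirected J (fun a b => a ≤ b)) (_ : Nonempty J)
        (D : J ⥤ ModuleCat.{u} R), (∀ j, Module.Finite R (D.obj j) ∧ Module.Free R (D.obj j)) ∧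
        Nonempty (Limits.colimit D ≅ ModuleCat.of R M) := by
  classical
  constructor
  · intro _
    let P : Idx R M → Prop := fun j => Module.Free R (G j) ∧ Module.Finite R (G j)
    have hP : ∀ i, ∃ j, i ≤ j ∧ P j := exists_free_ge
    obtain ⟨e⟩ := nonempty_linearEquiv P hP
    refine ⟨{i : Idx R M // P i}, inferInstance, isDirected_sub P hP, nonempty_sub P hP,
      ModuleCat.directLimitDiagram (fun i : {i : Idx R M // P i} => G i.1) (sys P),
      fun j => ⟨j.2.2, j.2.1⟩, ⟨?_⟩⟩
    exact (Limits.colimit.isColimit _).coconePointUniqueUpToIso (ModuleCat.directLimitIsColimit _ _) ≪≫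
      e.toModuleIso
  · rintro ⟨J, _, _, _, D, hD, ⟨iso⟩⟩
    let f : ∀ a b : J, a ≤ b → D.obj a →ₗ[R] D.obj b := fun a b h => (D.map (homOfLE h)).hom
    haveI : DirectedSystem (fun j => D.obj j) fun a b h => f a b h :=
      { map_self := fun a x => by simp [f]
        map_map := fun a b c h h' x => by
          show (D.map (homOfLE h) ≫ D.map (homOfLE h')).hom x = _
          rw [← D.map_comp]; rfl }
    haveI : ∀ j, Module.Flat R (D.obj j) := fun j => haveI := (hD j).2; inferInstance
    have hflat := flat_of_directLimit (fun j => D.obj j) f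
    let ε : ModuleCat.directLimitDiagram (fun j => D.obj j) f ≅ D :=
      NatIso.ofComponents (fun j => Iso.refl _) (fun {a b} h => by
        ext x
        exact congrArg (fun g => (D.map g).hom x) (Subsingleton.elim _ _))
    let I : ModuleCat.of R (Module.DirectLimit (fun j => D.obj j) f) ≅ ModuleCat.of R M :=
      (ModuleCat.directLimitIsColimit _ _).coconePointUniqueUpToIso (Limits.colimit.isColimit _) ≪≫
        Limits.HasColimit.isoOfNatIso ε ≪≫ iso
    exact Module.Flat.of_linearEquiv I.toLinearEquiv.symm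

end Groth.Agent.CAlgT1.Lazard
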