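import Mathlib
import Groth.Agent.CAlgT1.Lazard

/-!
# Finiteness from commuting with filtered colimits
-/

set_option autoImplicit false
universe u

open CategoryTheory Limits

namespace Groth.Agent.CAlgT1

variable (R : Type u) [CommRing R] (N : Type u) [AddCommGroup N] [Module R N]

/-- Quotients of `N` by finitely generated submodules. -/
noncomputable def quotDiagram : {P : Submodule R N // P.FG} ⥤ ModuleCat.{u} R where
  obj P := ModuleCat.of R (N ⧸ P.1)
  map {P Q} h := ModuleCat.ofHom (Submodule.factor (show P.1 ≤ Q.1 from leOfHom h))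
  map_id P := by ext x; rfl
  map_comp f g := by ext x; rfl

theorem module_finite_of_injective
    (h : ∀ (J : Type u) [SmallCategory J] [IsFiltered J] (F : J ⥤ ModuleCat.{u} R),
      Function.Injective (colimit.post F (coyoneda.obj (Opposite.op (ModuleCat.of R N))))) :
    Module.Finite R N := by
  haveI : Nonempty {P : Submodule R N // P.FG} := ⟨⟨⊥, Submodule.fg_bot⟩⟩
  haveI : IsDirected {P : Submodule R N // P.FG} (· ≤ ·) :=
    ⟨fun P Q => ⟨⟨P.1 ⊔ Q.1, P.2.sup Q.2⟩, le_sup_left (a := P.1), le_sup_right (b := Q.1)⟩⟩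
  let F := quotDiagram R N
  let G := coyoneda.obj (Opposite.op (ModuleCat.of R N))
  let b : {P : Submodule R N // P.FG} := ⟨⊥, Submodule.fg_bot⟩
  let t : (F ⋙ G).obj b := ModuleCat.ofHom ((⊥ : Submodule R N).mkQ)
  let z : (F ⋙ G).obj b := (0 : ModuleCat.of R N ⟶ F.obj b)
  have hpost : colimit.post F G (colimit.ι (F ⋙ G) b t) = colimit.post F G (colimit.ι (F ⋙ G) b z) := by
    have e : ∀ w : (F ⋙ G).obj b, colimit.post F G (colimit.ι (F ⋙ G) b w) = (w ≫ colimit.ι F b : ModuleCat.of R N ⟶ colimit F) :=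
      fun w => ConcreteCategory.congr_hom (colimit.ι_post F G b) w
    rw [e, e]
    apply ModuleCat.hom_ext
    refine LinearMap.ext fun x => ?_
    let Px : {P : Submodule R N // P.FG} := ⟨R ∙ x, Submodule.fg_span_singleton x⟩
    have hb : b ≤ Px := bot_le (a := Px.1)
    have h0 : (F.map (homOfLE hb)).hom (Submodule.Quotient.mk x) = 0 :=
      (Submodule.Quotient.mk_eq_zero _).2 (Submodule.mem_span_singleton_self x)
    show (colimit.ι F b).hom (Submodule.Quotient.mk x) = (colimit.ι F b).hom 0
    rw [map_zero, ← colimit.w F (homOfLE hb)]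
    show (colimit.ι F Px).hom ((F.map (homOfLE hb)).hom (Submodule.Quotient.mk x)) = 0
    rw [h0, map_zero]
  obtain ⟨P, f, g, hfg⟩ := (Types.FilteredColimit.isColimit_eq_iff _ (colimit.isColimit _)).1
    (h {P : Submodule R N // P.FG} F hpost)
  refine ⟨?_⟩
  suffices P.1 = ⊤ from this ▸ P.2
  refine eq_top_iff.2 fun x _ => (Submodule.Quotient.mk_eq_zero P.1).1 ?_
  have h1 : t ≫ F.map f = z ≫ F.map g := hfg
  have h2 := congrArg (fun w => w.hom x) h1
  exact h2.trans (map_zero (F.map g).hom)

theorem finitePresentation_of_retract {P : Type u} [AddCommGroup P] [Module R P]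
    [Module.FinitePresentation R P] (s : N →ₗ[R] P) (r : P →ₗ[R] N) (hrs : r ∘ₗ s = LinearMap.id) :
    Module.FinitePresentation R N := by
  refine Module.finitePresentation_of_surjective r (fun x => ⟨s x, LinearMap.congr_fun hrs x⟩) ?_
  have : LinearMap.ker r = LinearMap.range (LinearMap.id - s ∘ₗ r) := by
    ext x
    constructor
    · intro hx; exact ⟨x, by simp [LinearMap.mem_ker.1 hx]⟩
    · rintro ⟨y, rfl⟩
      simp [show r (s (r y)) = r y from LinearMap.congr_fun hrs (r y)]
  rw [this, LinearMap.range_eq_map]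
  exact Module.Finite.fg_top.map _

theorem module_finitePresentation_of_bijective
    (h : ∀ (J : Type u) [SmallCategory J] [IsFiltered J] (F : J ⥤ ModuleCat.{u} R),
      Function.Bijective (colimit.post F (coyoneda.obj (Opposite.op (ModuleCat.of R N))))) :
    Module.FinitePresentation R N := by
  classical
  let P : Lazard.Idx R N → Prop := fun _ => True
  have hP : ∀ i : Lazard.Idx R N, ∃ j, i ≤ j ∧ P j := fun i => ⟨i, le_rfl, trivial⟩
  haveI := Lazard.isDirected_sub P hP
  haveI := Lazard.nonempty_sub P hP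
  obtain ⟨e⟩ := Lazard.nonempty_linearEquiv P hP
  let F := ModuleCat.directLimitDiagram (fun i : {i : Lazard.Idx R N // P i} => Lazard.G i.1) (Lazard.sys P)
  let I : colimit F ≅ ModuleCat.of R N :=
    (colimit.isColimit F).coconePointUniqueUpToIso (ModuleCat.directLimitIsColimit _ _) ≪≫ e.toModuleIso
  let G := coyoneda.obj (Opposite.op (ModuleCat.of R N))
  obtain ⟨w, hw⟩ := (h {i : Lazard.Idx R N // P i} F).2 I.inv
  obtain ⟨j, s, rfl⟩ := Types.jointly_surjective' w
  have hs : (s : ModuleCat.of R N ⟶ F.obj j) ≫ colimit.ι F j = I.inv := by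
    rw [← hw]
    exact (ConcreteCategory.congr_hom (colimit.ι_post F G j) s).symm
  haveI : Module.FinitePresentation R (F.obj j) := Lazard.finitePresentation j.1
  refine finitePresentation_of_retract R N (ModuleCat.Hom.hom (s : ModuleCat.of R N ⟶ F.obj j))
    (colimit.ι F j ≫ I.hom).hom ?_
  have h1 : (s : ModuleCat.of R N ⟶ F.obj j) ≫ colimit.ι F j ≫ I.hom = 𝟙 _ := by
    rw [← Category.assoc, hs, I.inv_hom_id]
  exact congrArg ModuleCat.Hom.hom h1

end Groth.Agent.CAlgT1
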