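import Groth.Agent.FlatLocalDepth.Basic

/-!
# `depth (N ⊗ M) = depth M + depth (N / m N)` for `N` flat
-/

set_option autoImplicit false
universe u

open RingTheory.Sequence IsLocalRing Function
open scoped TensorProduct Pointwise

namespace Groth.Agent.CAlgT1

variable (R : Type u) [CommRing R] {S : Type u} [CommRing S] [Algebra R S]

theorem finite_tensor_left (M : Type u) [AddCommGroup M] [Module R M] [Module.Finite R M]
    (N : Type u) [AddCommGroup N] [Module R N] [Module S N] [IsScalarTower R S N] [Module.Finite S N] :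
    Module.Finite S (N ⊗[R] M) := by
  obtain ⟨n, π, hπ⟩ := Module.Finite.exists_fin' R M
  let g : N ⊗[R] (Fin n → R) →ₗ[S] N ⊗[R] M := TensorProduct.AlgebraTensorModule.map LinearMap.id π
  have hg : Surjective g := fun z => by
    obtain ⟨w, hw⟩ := LinearMap.lTensor_surjective N hπ z
    refine ⟨w, hw ▸ ?_⟩
    clear hw
    induction w with
    | zero => simp [g]
    | add a b ha hb => rw [map_add, map_add, ha, hb]
    | tmul a b => rfl
  haveI : Module.Finite S (N ⊗[R] (Fin n → R)) :=
    Module.Finite.equiv (TensorProduct.piScalarRight R S N (Fin n)).symm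
  exact Module.Finite.of_surjective g hg

theorem rTensor_lsmul_apply (r : S) (N : Type u) [AddCommGroup N] [Module R N] [Module S N]
    [IsScalarTower R S N] (X : Type u) [AddCommGroup X] [Module R X] (z : N ⊗[R] X) :
    ((LinearMap.lsmul S N r).restrictScalars R).rTensor X z = r • z := by
  induction z with
  | zero => simp
  | add x y hx hy => rw [map_add, hx, hy, smul_add]
  | tmul n a => rw [LinearMap.rTensor_tmul, TensorProduct.smul_tmul']; rfl

/-- `(N/rN) ⊗ X = (N ⊗ X)/r(N ⊗ X)`. -/
theorem nonempty_quotSMulTopTensorEquiv (r : S) (N : Type u) [AddCommGroup N] [Module R N] [Module S N]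
    [IsScalarTower R S N] (X : Type u) [AddCommGroup X] [Module R X] :
    Nonempty (QuotSMulTop r (N ⊗[R] X) ≃ₗ[S] QuotSMulTop r N ⊗[R] X) := by
  let g : N ⊗[R] X →ₗ[S] QuotSMulTop r N ⊗[R] X :=
    TensorProduct.AlgebraTensorModule.map (Submodule.mkQ _) LinearMap.id
  have hg' : ∀ z, g z = ((Submodule.mkQ (r • ⊤ : Submodule S N)).restrictScalars R).rTensor X z := fun z => by
    induction z with
    | zero => rw [map_zero, map_zero]
    | add x y hx hy => rw [map_add, map_add, hx, hy]
    | tmul n a => rfl
  have hsurj : Surjective ((Submodule.mkQ (r • ⊤ : Submodule S N)).restrictScalars R) := by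
    intro y
    obtain ⟨w, hw⟩ := Submodule.mkQ_surjective (r • ⊤ : Submodule S N) y
    exact ⟨w, hw⟩
  have hg : Surjective g := by
    intro y
    obtain ⟨z, hz⟩ := LinearMap.rTensor_surjective X hsurj y
    exact ⟨z, (hg' z).trans hz⟩
  have hex : Exact ((LinearMap.lsmul S N r).restrictScalars R)
      ((Submodule.mkQ (r • ⊤ : Submodule S N)).restrictScalars R) := fun x => by
    rw [LinearMap.restrictScalars_apply, Submodule.mkQ_apply, Submodule.Quotient.mk_eq_zero,
      Submodule.mem_smul_pointwise_iff_exists]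
    exact ⟨fun ⟨w, _, hw⟩ => ⟨w, hw⟩, fun ⟨w, hw⟩ => ⟨w, Submodule.mem_top, hw⟩⟩
  have hker : LinearMap.ker g = r • ⊤ := by
    ext z
    rw [LinearMap.mem_ker, hg', Submodule.mem_smul_pointwise_iff_exists]
    refine Iff.trans (rTensor_exact X hex hsurj z) ?_
    simp only [Set.mem_range, rTensor_lsmul_apply]
    exact exists_congr fun w => (and_iff_right Submodule.mem_top).symm
  exact ⟨(Submodule.quotEquivOfEq _ _ hker.symm).trans (g.quotKerEquivOfSurjective hg)⟩

variable [IsLocalRing R] [IsNoetherianRing R] [IsLocalRing S] [IsNoetherianRing S] [IsLocalHom (algebraMap R S)]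
  (M : Type u) [AddCommGroup M] [Module R M] [Module.Finite R M] [Nontrivial M]

/-- The case of a fibre of depth zero. -/
theorem depth_tensor_of_fibre_depth_zero (N : Type u) [AddCommGroup N] [Module R N] [Module S N]
    [IsScalarTower R S N] [Module.Finite S N] [Module.Flat R N] [Nontrivial (N ⊗[R] ResidueField R)]
    (h0 : LocCoh.depth S (N ⊗[R] ResidueField R) = 0) : LocCoh.depth S (N ⊗[R] M) = LocCoh.depth R M := by
  have hne := Depth.maximalIdeal_smul_top_ne_top (R := R) (M := M)
  obtain ⟨d, hd⟩ := Depth.exists_natCast_eq_idealDepth hne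
  obtain ⟨rs, hl, hm, hreg⟩ := (Depth.le_idealDepth_iff_exists hne (n := d)).mp hd.ge
  have hQ := Depth.idealDepth_quot_ofList_add_length rs M hreg hm
  rw [hl] at hQ
  have : Nontrivial (M ⧸ Ideal.ofList rs • (⊤ : Submodule R M)) :=
    Submodule.Quotient.nontrivial_iff.mpr
      (ne_top_of_le_ne_top hne (Submodule.smul_mono_left (Depth.ofList_le hm)))
  set M' := M ⧸ Ideal.ofList rs • (⊤ : Submodule R M)
  have hQ0 : LocCoh.depth R M' = 0 :=
    (ENat.add_left_injective_of_ne_top (ENat.natCast_ne_top d))
      (show LocCoh.depth R _ + d = 0 + (d : ℕ∞) by rw [zero_add]; exact hQ.trans hd)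
  rw [Depth.depth_eq_zero_iff] at hQ0
  obtain ⟨-, ι, hι⟩ := (isAssociatedPrime_iff_exists_injective_linearMap _ M').1 hQ0
  haveI := finite_tensor_left R (S := S) M N
  -- the regular sequence on `N ⊗ M`
  have hregN : IsWeaklyRegular (N ⊗[R] M) (rs.map (algebraMap R S)) :=
    (isWeaklyRegular_map_algebraMap_iff S (N ⊗[R] M) rs).mpr hreg.isWeaklyRegular_lTensor
  have hmS : ∀ r ∈ rs.map (algebraMap R S), r ∈ maximalIdeal S := by
    intro r hr
    obtain ⟨a, ha, rfl⟩ := List.mem_map.mp hr
    exact map_nonunit (algebraMap R S) a (hm a ha)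
  have hQS := Depth.idealDepth_quot_ofList_add_length (rs.map (algebraMap R S)) (N ⊗[R] M) hregN hmS
  rw [List.length_map, hl] at hQS
  set J : Ideal S := Ideal.ofList (rs.map (algebraMap R S))
  let g : N ⊗[R] M →ₗ[S] N ⊗[R] M' := TensorProduct.AlgebraTensorModule.map LinearMap.id (Submodule.mkQ _)
  have hg' : ∀ z, g z = (Submodule.mkQ (Ideal.ofList rs • (⊤ : Submodule R M))).lTensor N z := fun z => by
    induction z with
    | zero => rw [map_zero, map_zero]
    | add x y hx hy => rw [map_add, map_add, hx, hy]
    | tmul n a => rfl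
  have hg : Surjective g := fun y =>
    let ⟨z, hz⟩ := LinearMap.lTensor_surjective N
      (g := Submodule.mkQ (Ideal.ofList rs • (⊤ : Submodule R M))) (Submodule.mkQ_surjective _) y
    ⟨z, (hg' z).trans hz⟩
  have hJ : (J • ⊤ : Submodule S (N ⊗[R] M)).restrictScalars R = Ideal.ofList rs • ⊤ := by
    rw [show J = (Ideal.ofList rs).map (algebraMap R S) from (Ideal.map_ofList _ _).symm,
      Ideal.smul_restrictScalars, Submodule.restrictScalars_top]
  have hker : LinearMap.ker g = J • ⊤ := by
    apply le_antisymm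
    · intro z hz
      rw [LinearMap.mem_ker, hg'] at hz
      obtain ⟨y, rfl⟩ := (lTensor_exact N (LinearMap.exact_subtype_mkQ _) (Submodule.mkQ_surjective _) z).mp hz
      rw [← Submodule.restrictScalars_mem R, hJ]
      clear hz
      induction y with
      | zero => rw [map_zero]; exact zero_mem _
      | add x y hx hy => rw [map_add]; exact add_mem hx hy
      | tmul a x =>
        obtain ⟨x, hx⟩ := x
        rw [LinearMap.lTensor_tmul, Submodule.subtype_apply]
        have := Submodule.mem_map_of_mem (f := TensorProduct.mk R N M a) hx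
        rw [Submodule.map_smul''] at this
        exact SetLike.le_def.mp (smul_mono_right (Ideal.ofList rs) le_top) this
    · rw [← Submodule.restrictScalars_le R, hJ]
      rw [Submodule.smul_le]
      intro r hr z _
      rw [Submodule.restrictScalars_mem, LinearMap.mem_ker, hg']
      rw [map_smul]
      induction (Submodule.mkQ (Ideal.ofList rs • (⊤ : Submodule R M))).lTensor N z with
      | zero => simp
      | add x y hx hy => simp [hx, hy]
      | tmul n a =>
        obtain ⟨a, rfl⟩ := Submodule.Quotient.mk_surjective _ a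
        rw [← TensorProduct.tmul_smul, ← Submodule.Quotient.mk_smul,
          (Submodule.Quotient.mk_eq_zero _).2 (Submodule.smul_mem_smul hr (Submodule.mem_top (x := a))),
          TensorProduct.tmul_zero]
  let e : ((N ⊗[R] M) ⧸ (J • ⊤ : Submodule S (N ⊗[R] M))) ≃ₗ[S] N ⊗[R] M' :=
    (Submodule.quotEquivOfEq _ _ hker.symm).trans (g.quotKerEquivOfSurjective hg)
  let j : N ⊗[R] ResidueField R →ₗ[S] N ⊗[R] M' := TensorProduct.AlgebraTensorModule.map LinearMap.id ι
  have hj : Injective j := by
    have h' : ∀ z, j z = LinearMap.lTensor N ι z := fun z => by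
      induction z with
      | zero => exact (map_zero j).trans (map_zero (LinearMap.lTensor N ι)).symm
      | add x y hx hy =>
        exact (map_add j x y).trans ((congrArg₂ (· + ·) hx hy).trans (map_add (LinearMap.lTensor N ι) x y).symm)
      | tmul n a => rfl
    intro x y h
    have := Module.Flat.lTensor_preserves_injective_linearMap (M := N) ι hι
    exact this (((h' x).symm.trans h).trans (h' y))
  haveI : Nontrivial (N ⊗[R] M') := hj.nontrivial
  haveI : Nontrivial ((N ⊗[R] M) ⧸ (J • ⊤ : Submodule S (N ⊗[R] M))) := e.toEquiv.nontrivial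
  have hN0 : LocCoh.depth S ((N ⊗[R] M) ⧸ (J • ⊤ : Submodule S (N ⊗[R] M))) = 0 := by
    haveI := FlatLocalDepth.finite_fibre R (S := S) N
    haveI := finite_tensor_left R (S := S) M' N
    rw [Depth.depth_congr e, Depth.depth_eq_zero_iff]
    rw [Depth.depth_eq_zero_iff] at h0
    exact associatedPrimes.subset_of_injective hj h0
  change LocCoh.idealDepth (maximalIdeal S) (N ⊗[R] M) = LocCoh.idealDepth (maximalIdeal R) M
  rw [← hQS, hd]
  change LocCoh.depth S _ + _ = _
  rw [hN0, zero_add]

omit [IsNoetherianRing R] [IsNoetherianRing S] in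
theorem nontrivial_fibre_of_nontrivial (N : Type u) [AddCommGroup N] [Module R N] [Module S N]
    [IsScalarTower R S N] [Module.Finite S N] [Nontrivial N] :
    Nontrivial (N ⊗[R] ResidueField R) ∧
      Nonempty ((N ⧸ (maximalIdeal R).map (algebraMap R S) • (⊤ : Submodule S N)) ≃ₗ[S] N ⊗[R] ResidueField R) := by
  let p : N →ₗ[S] N ⊗[R] ResidueField R :=
    { toFun := fun n => n ⊗ₜ[R] (1 : ResidueField R), map_add' := fun a b => TensorProduct.add_tmul a b _,
      map_smul' := fun s a => rfl }
  have hp : Surjective p := fun z => by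
    induction z with
    | zero => exact ⟨0, map_zero p⟩
    | add x y hx hy =>
      obtain ⟨a, rfl⟩ := hx; obtain ⟨b, rfl⟩ := hy
      exact ⟨a + b, map_add p a b⟩
    | tmul n a =>
      obtain ⟨r, rfl⟩ := IsLocalRing.residue_surjective a
      exact ⟨r • n, (TensorProduct.smul_tmul r n _).trans
        (by rw [← ResidueField.algebraMap_eq, Algebra.smul_def, mul_one])⟩
  have hker : LinearMap.ker p = (maximalIdeal R).map (algebraMap R S) • ⊤ := by
    ext n
    rw [← Submodule.restrictScalars_mem R ((maximalIdeal R).map (algebraMap R S) • ⊤ : Submodule S N),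
      Ideal.smul_restrictScalars, Submodule.restrictScalars_top, LinearMap.mem_ker]
    rw [← Submodule.Quotient.mk_eq_zero]
    let T : N ⊗[R] ResidueField R ≃ₗ[R] N ⧸ maximalIdeal R • (⊤ : Submodule R N) :=
      TensorProduct.tensorQuotEquivQuotSMul N (maximalIdeal R)
    have hT : T (p n) = Submodule.Quotient.mk n := by
      show TensorProduct.tensorQuotEquivQuotSMul N (maximalIdeal R) (n ⊗ₜ Submodule.Quotient.mk (1 : R)) = _
      exact (TensorProduct.tensorQuotEquivQuotSMul_tmul_mk (maximalIdeal R) n (1 : R)).trans (by rw [one_smul])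
    constructor
    · intro h
      rw [← hT, h, map_zero]
    · intro h
      exact T.injective (hT.trans (h.trans (map_zero T).symm))
  let e := (Submodule.quotEquivOfEq _ _ hker.symm).trans (p.quotKerEquivOfSurjective hp)
  have : Nontrivial (N ⧸ (maximalIdeal R).map (algebraMap R S) • (⊤ : Submodule S N)) :=
    Submodule.Quotient.nontrivial_iff.2 (Depth.smul_top_ne_top_of_isLocalRing
      (((local_hom_TFAE (algebraMap R S)).out 0 2 rfl rfl).1 inferInstance))
  exact ⟨e.symm.toEquiv.nontrivial, ⟨e⟩⟩

theorem depth_tensor_eq_add_aux : ∀ (d : ℕ) (N : Type u) [AddCommGroup N] [Module R N] [Module S N]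
    [IsScalarTower R S N] [Module.Finite S N] [Module.Flat R N] [Nontrivial N],
    LocCoh.depth S (N ⊗[R] ResidueField R) = d → LocCoh.depth S (N ⊗[R] M) = LocCoh.depth R M + d := by
  intro d
  induction d with
  | zero =>
    intro N _ _ _ _ _ _ _ h
    haveI := (nontrivial_fibre_of_nontrivial R (S := S) N).1
    rw [depth_tensor_of_fibre_depth_zero R M N h, Nat.cast_zero, add_zero]
  | succ d ih =>
    intro N _ _ _ _ _ _ _ h
    haveI := (nontrivial_fibre_of_nontrivial R (S := S) N).1
    haveI := FlatLocalDepth.finite_fibre R (S := S) N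
    obtain ⟨r, hr, hreg⟩ := (Depth.one_le_idealDepth_iff
      (Depth.maximalIdeal_smul_top_ne_top (R := S) (M := N ⊗[R] ResidueField R))).1
      (by rw [show LocCoh.idealDepth (maximalIdeal S) (N ⊗[R] ResidueField R) = _ from h]; simp)
    let v : N →ₗ[R] N := (LinearMap.lsmul S N r).restrictScalars R
    have hv : ∀ (X : Type u) [AddCommGroup X] [Module R X] (z : N ⊗[R] X), v.rTensor X z = r • z :=
      fun X _ _ z => by
        induction z with
        | zero => simp
        | add x y hx hy => simp [hx, hy]
        | tmul n a => simp [v, TensorProduct.smul_tmul']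
    have hk : Injective (v.lTensor (ResidueField R)) :=
      (LinearMap.lTensor_inj_iff_rTensor_inj _ _).mpr fun x y hxy => hreg (by rwa [hv, hv] at hxy)
    have hS : (maximalIdeal R).map (algebraMap R S) ≤ Ideal.jacobson ⊥ :=
      (((local_hom_TFAE (algebraMap R S)).out 0 2 rfl rfl).1 inferInstance).trans
        (IsLocalRing.maximalIdeal_le_jacobson _)
    obtain ⟨hu, hflat⟩ := FlatCrit.injective_and_flat_coker (S := S) hS v hk
    have hregM : IsSMulRegular (N ⊗[R] M) r := fun x y hxy =>
      FlatCrit.rTensor_injective_of_finite (S := S) hS v hk M (by rw [hv, hv]; exact hxy)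
    have : Module.Flat R (QuotSMulTop r N) := by
      have e : LinearMap.range v = (r • ⊤ : Submodule S N).restrictScalars R := by
        ext x
        simp [v, Submodule.mem_smul_pointwise_iff_exists]
      exact Module.Flat.of_linearEquiv (R := R) (M := N ⧸ LinearMap.range v)
        ((Submodule.quotEquivOfEq _ _ e).trans
          (Submodule.Quotient.restrictScalarsEquiv R (r • ⊤ : Submodule S N))).symm
    haveI : Nontrivial (QuotSMulTop r N) := nontrivial_quotSMulTop_of_mem_maximalIdeal N hr
    haveI := finite_tensor_left R (S := S) M N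
    have h1 : LocCoh.depth S (QuotSMulTop r (N ⊗[R] ResidueField R)) + 1 =
        LocCoh.depth S (N ⊗[R] ResidueField R) := Depth.idealDepth_quotSMulTop_add_one _ hr hreg
    have h2 : LocCoh.depth S (QuotSMulTop r (N ⊗[R] M)) + 1 = LocCoh.depth S (N ⊗[R] M) :=
      Depth.idealDepth_quotSMulTop_add_one _ hr hregM
    obtain ⟨eK⟩ := nonempty_quotSMulTopTensorEquiv R r N (ResidueField R)
    obtain ⟨eM⟩ := nonempty_quotSMulTopTensorEquiv R r N M
    rw [Depth.depth_congr eK, h, Nat.cast_add, Nat.cast_one] at h1
    have h3 := ih (QuotSMulTop r N) ((ENat.add_left_injective_of_ne_top ENat.one_ne_top) h1)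
    rw [← h2, Depth.depth_congr eM, h3, add_assoc, Nat.cast_add, Nat.cast_one]

omit [Nontrivial M] in
theorem depth_tensor_eq_add (N : Type u) [AddCommGroup N] [Module R N] [Module S N]
    [IsScalarTower R S N] [Module.Finite S N] [Module.Flat R N] :
    LocCoh.depth S (N ⊗[R] M) = LocCoh.depth R M +
      LocCoh.depth S (N ⧸ (maximalIdeal R).map (algebraMap R S) • (⊤ : Submodule S N)) := by
  rcases subsingleton_or_nontrivial N with hN | hN
  · haveI : Subsingleton (N ⊗[R] M) := inferInstance
    haveI : Subsingleton (N ⧸ (maximalIdeal R).map (algebraMap R S) • (⊤ : Submodule S N)) :=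
      (Submodule.mkQ_surjective _).subsingleton
    simp only [LocCoh.depth, Depth.idealDepth_of_subsingleton, add_top]
  rcases subsingleton_or_nontrivial M with hM | hM
  · haveI : Subsingleton (N ⊗[R] M) := inferInstance
    simp only [LocCoh.depth, Depth.idealDepth_of_subsingleton, top_add]
  obtain ⟨hnt, ⟨e⟩⟩ := nontrivial_fibre_of_nontrivial R (S := S) N
  haveI := hnt
  haveI := FlatLocalDepth.finite_fibre R (S := S) N
  rw [Depth.depth_congr e]
  obtain ⟨d, hd⟩ := Depth.exists_natCast_eq_idealDepth
    (Depth.maximalIdeal_smul_top_ne_top (R := S) (M := N ⊗[R] ResidueField R))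
  rw [show LocCoh.depth S (N ⊗[R] ResidueField R) = d from hd]
  exact depth_tensor_eq_add_aux R M d N hd

end Groth.Agent.CAlgT1
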