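import Mathlib

/-!
# Extending derivations after multiplying by a power of a denominator
-/

set_option autoImplicit false
universe u

namespace Groth.Agent.CAlgT1

theorem exists_derivation_extension_after_power {R R' : Type u} [CommRing R] [CommRing R'] [Algebra R R']
    [Algebra.FiniteType R R'] (g : R) (hg : IsSMulRegular R' (algebraMap R R' g))
    (hloc : ∀ x : R', ∃ n : ℕ, (algebraMap R R' g) ^ n * x ∈ Set.range (algebraMap R R'))
    (hinj : Function.Injective (algebraMap R R')) (D : Derivation ℤ R R) :
    ∃ (N : ℕ) (D' : Derivation ℤ R' R'), ∀ r : R, D' (algebraMap R R' r) = algebraMap R R' (g ^ N * D r) := by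
  classical
  set g' := algebraMap R R' g
  let L := Localization.Away g'
  have hg' : ∀ k : ℕ, IsSMulRegular R' (g' ^ k) := fun k => hg.pow k
  have hi : Function.Injective (algebraMap R' L) := by
    intro a b h
    obtain ⟨⟨_, k, rfl⟩, hk⟩ := (IsLocalization.eq_iff_exists (Submonoid.powers g') L).1 h
    exact hg' k hk
  let a : R →+* L := (algebraMap R' L).comp (algebraMap R R')
  have ha : Function.Injective a := hi.comp hinj
  have haR : ∀ r, algebraMap R L r = a r := IsScalarTower.algebraMap_apply R R' L
  have hunit : ∀ y : Submonoid.powers g, IsUnit (a y) := by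
    rintro ⟨_, k, rfl⟩
    show IsUnit (algebraMap R' L (algebraMap R R' (g ^ k)))
    rw [map_pow]
    exact IsLocalization.map_units L (⟨g' ^ k, k, rfl⟩ : Submonoid.powers g')
  haveI : IsLocalization (Submonoid.powers g) L :=
    { map_units := fun y => (haR _).symm ▸ hunit y
      surj := fun z => by
        obtain ⟨⟨x, ⟨_, k, rfl⟩⟩, hx⟩ := IsLocalization.surj (Submonoid.powers g') z
        obtain ⟨n, r, hr⟩ := hloc x
        refine ⟨⟨r, ⟨g ^ (n + k), n + k, rfl⟩⟩, ?_⟩
        rw [haR, haR]
        show z * algebraMap R' L (algebraMap R R' (g ^ (n + k))) = algebraMap R' L (algebraMap R R' r)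
        simp only at hx
        rw [hr, map_mul, ← hx, map_pow, pow_add, map_mul]
        ring
      exists_of_eq := fun {x y} h => ⟨1, by rw [haR, haR] at h; rw [ha h]⟩ }
  let δ : R →+* TrivSqZeroExt L L :=
    { toFun := fun r => TrivSqZeroExt.inl (a r) + TrivSqZeroExt.inr (a (D r))
      map_one' := by simp
      map_mul' := fun x y => TrivSqZeroExt.ext (by simp; try ring) (by
        simp [Derivation.leibniz, mul_comm]
        try ring)
      map_zero' := by simp
      map_add' := fun x y => TrivSqZeroExt.ext (by simp; try ring) (by simp; try ring) }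
  have hδ : ∀ y : Submonoid.powers g, IsUnit (δ y) := fun y => by
    rw [TrivSqZeroExt.isUnit_iff_isUnit_fst]
    simpa [δ] using hunit y
  let E : L →+* TrivSqZeroExt L L := IsLocalization.lift hδ
  have hE : ∀ r, E (a r) = δ r := fun r => by rw [← haR]; exact IsLocalization.lift_eq hδ r
  have hfst : ∀ z, (E z).fst = z := fun z => by
    have : (TrivSqZeroExt.fstHom L L L).toRingHom.comp E = RingHom.id L :=
      IsLocalization.ringHom_ext (Submonoid.powers g) (RingHom.ext fun r => by
        show (E (algebraMap R L r)).fst = algebraMap R L r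
        simp [haR, hE, δ])
    exact RingHom.congr_fun this z
  let e : R' → L := fun x => (E (algebraMap R' L x)).snd
  have heR : ∀ r, e (algebraMap R R' r) = a (D r) := fun r => by
    show (E (a r)).snd = _
    simp [hE, δ]
  have head : ∀ x y, e (x + y) = e x + e y := fun x y => by simp [e]
  have hemul : ∀ x y, e (x * y) = algebraMap R' L x * e y + algebraMap R' L y * e x := fun x y => by
    simp [e, hfst]
    try ring
  have hden : ∀ z : L, ∃ N : ℕ, a g ^ N * z ∈ Set.range (algebraMap R' L) := by
    intro z
    obtain ⟨⟨x, ⟨_, k, rfl⟩⟩, hx⟩ := IsLocalization.surj (Submonoid.powers g') z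
    refine ⟨k, x, ?_⟩
    rw [← hx, map_pow]
    exact mul_comm _ _
  obtain ⟨G, hG⟩ := (Algebra.FiniteType.out : (⊤ : Subalgebra R R').FG)
  choose Nf hNf using fun x : R' => hden (e x)
  let N := G.sup Nf
  have hmem : ∀ x : R', a g ^ N * e x ∈ Set.range (algebraMap R' L) := by
    intro x
    have hx : x ∈ Algebra.adjoin R (G : Set R') := hG ▸ Algebra.mem_top
    induction hx using Algebra.adjoin_induction with
    | algebraMap r => exact ⟨algebraMap R R' (g ^ N * D r), by rw [heR]; simp [a]⟩
    | mem x hx =>
      obtain ⟨y, hy⟩ := hNf x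
      refine ⟨g' ^ (N - Nf x) * y, ?_⟩
      rw [map_mul, hy, map_pow, show algebraMap R' L g' = a g from rfl, ← mul_assoc, ← pow_add,
        Nat.sub_add_cancel (Finset.le_sup hx)]
    | add x y _ _ hx hy =>
      obtain ⟨u, hu⟩ := hx; obtain ⟨v, hv⟩ := hy
      exact ⟨u + v, by rw [map_add, hu, hv, head, mul_add]⟩
    | mul x y _ _ hx hy =>
      obtain ⟨u, hu⟩ := hx; obtain ⟨v, hv⟩ := hy
      exact ⟨x * v + y * u, by rw [map_add, map_mul, map_mul, hu, hv, hemul]; ring⟩
  choose d hd using hmem
  let dl : R' →ₗ[ℤ] R' :=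
    (AddMonoidHom.mk' d fun x y => hi (by rw [map_add, hd, hd, hd, head, mul_add])).toIntLinearMap
  refine ⟨N, Derivation.mk' dl fun x y => hi ?_, fun r => hi ?_⟩
  · show algebraMap R' L (d (x * y)) = algebraMap R' L (x * d y + y * d x)
    rw [map_add, map_mul, map_mul, hd, hd, hd, hemul]; ring
  · show algebraMap R' L (d (algebraMap R R' r)) = _
    rw [hd, heR]; simp [a]

end Groth.Agent.CAlgT1
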