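import Groth.Agent.FlatLocus.Model
import Groth.Agent.FlatFibrePD.Basic

/-!
# Flat finite modules that are finitely presented near every prime of the base
-/

set_option autoImplicit false
universe u

open TensorProduct

namespace Groth.Agent.CAlgT1

theorem eq_zero_of_smul_eq_zero_of_flat {R : Type u} [CommRing R] (s : Finset (PrimeSpectrum R))
    (hs : Function.Injective fun r : R => fun p : s => algebraMap R (Localization.AtPrime p.1.asIdeal) r)
    (P : Type u) [AddCommGroup P] [Module R P] [Module.Flat R P] (y : P) (r : s → R)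
    (hr : ∀ p : s, r p ∉ p.1.asIdeal) (h : ∀ p, r p • y = 0) : y = 0 := by
  classical
  let g : R →ₗ[R] (s → R) := LinearMap.pi fun p => LinearMap.mulRight R (r p)
  have hg : Function.Injective g := by
    rw [injective_iff_map_eq_zero]
    intro a ha
    refine hs (funext fun p => ?_)
    simp only [map_zero]
    rw [IsLocalization.map_eq_zero_iff p.1.asIdeal.primeCompl]
    have hp : a * r p = 0 := congrFun ha p
    exact ⟨⟨r p, hr p⟩, by rw [mul_comm]; exact hp⟩
  have := Module.Flat.lTensor_preserves_injective_linearMap (M := P) g hg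
  have h0 : g.lTensor P (y ⊗ₜ[R] (1 : R)) = 0 := by
    rw [LinearMap.lTensor_tmul, pi_eq_sum_univ (g 1), TensorProduct.tmul_sum]
    refine Finset.sum_eq_zero fun p _ => ?_
    rw [TensorProduct.tmul_smul, TensorProduct.smul_tmul', show g 1 p = r p by simp [g], h, TensorProduct.zero_tmul]
  have h1 := this (h0.trans (map_zero _).symm)
  simpa using congrArg (TensorProduct.rid R P) h1

theorem fg_ker_of_flat_of_locally {R S M : Type u} [CommRing R] [CommRing S] [Algebra R S]
    [Algebra.FinitePresentation R S] [AddCommGroup M] [Module S M] [Module R M]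
    [IsScalarTower R S M] [Module.Flat R M]
    (s : Finset (PrimeSpectrum R))
    (hs : Function.Injective fun r : R => fun p : s => algebraMap R (Localization.AtPrime p.1.asIdeal) r)
    {m : ℕ} (π : (Fin m → S) →ₗ[S] M) (hπ : Function.Surjective π)
    (hKp : ∀ p : PrimeSpectrum R, ∃ K' : Submodule S (Fin m → S), K'.FG ∧ K' ≤ LinearMap.ker π ∧
      ∀ x ∈ LinearMap.ker π, ∃ t ∈ Algebra.algebraMapSubmonoid S p.asIdeal.primeCompl, t • x ∈ K') :
    (LinearMap.ker π).FG := by
  classical
  set K := LinearMap.ker π with hK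
  choose Kf hKfg hKle hKloc using hKp
  set K0 := s.sup Kf with hK0
  have hK0fg : K0.FG := Finset.sup_induction Submodule.fg_bot (fun a ha b hb => ha.sup hb) (fun p _ => hKfg p)
  have hK0le : K0 ≤ K := Finset.sup_le fun p _ => hKle p
  -- where the approximation is flat it is exact
  have key : ∀ (K' : Submodule S (Fin m → S)), K0 ≤ K' → ∀ (q : PrimeSpectrum S),
      Module.Flat R (LocalizedModule q.asIdeal.primeCompl ((Fin m → S) ⧸ K')) →
      ∀ x ∈ K, ∃ u : S, u ∉ q.asIdeal ∧ u • x ∈ K' := by
    intro K' h0 q hq x hx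
    let y : LocalizedModule q.asIdeal.primeCompl ((Fin m → S) ⧸ K') :=
      LocalizedModule.mkLinearMap _ _ (Submodule.Quotient.mk x)
    have hp : ∀ p : s, ∃ r : R, r ∉ p.1.asIdeal ∧ r • y = 0 := by
      intro p
      obtain ⟨_, ⟨r, hr, rfl⟩, htx⟩ := hKloc p.1 x hx
      refine ⟨r, hr, ?_⟩
      rw [← algebraMap_smul S r y, ← map_smul, ← Submodule.Quotient.mk_smul,
        (Submodule.Quotient.mk_eq_zero K').2 (h0 (SetLike.le_def.mp (Finset.le_sup (f := Kf) p.2) htx)), map_zero]
    choose r hr hry using hp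
    have hy := eq_zero_of_smul_eq_zero_of_flat s hs _ y r hr hry
    obtain ⟨u, hu⟩ := (IsLocalizedModule.eq_zero_iff q.asIdeal.primeCompl
      (LocalizedModule.mkLinearMap q.asIdeal.primeCompl _)).1 hy
    exact ⟨u, u.2, (Submodule.Quotient.mk_eq_zero K').1 hu⟩
  -- each point lies in a good locus
  have hgood : ∀ q : PrimeSpectrum S, ∃ K' : Submodule S (Fin m → S), K'.FG ∧ K0 ≤ K' ∧ K' ≤ K ∧
      Module.Flat R (LocalizedModule q.asIdeal.primeCompl ((Fin m → S) ⧸ K')) := by
    intro q
    let p : PrimeSpectrum R := ⟨q.asIdeal.comap (algebraMap R S), inferInstance⟩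
    refine ⟨K0 ⊔ Kf p, hK0fg.sup (hKfg p), le_sup_left, sup_le hK0le (hKle p), ?_⟩
    let ψ : ((Fin m → S) ⧸ (K0 ⊔ Kf p)) →ₗ[S] M := Submodule.liftQ _ π (sup_le hK0le (hKle p))
    have hψs : Function.Surjective ψ := fun z => by
      obtain ⟨w, rfl⟩ := hπ z
      exact ⟨Submodule.Quotient.mk w, rfl⟩
    let Ψ := LocalizedModule.map q.asIdeal.primeCompl ψ
    have hΨs : Function.Surjective Ψ := LocalizedModule.map_surjective _ ψ hψs
    have hΨi : Function.Injective Ψ := by
      rw [injective_iff_map_eq_zero]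
      intro z hz
      induction z using LocalizedModule.induction_on with
      | h w a =>
        obtain ⟨x, rfl⟩ := Submodule.Quotient.mk_surjective _ w
        simp only [Ψ, LocalizedModule.map_mk] at hz
        rw [← LocalizedModule.zero_mk 1, LocalizedModule.mk_eq] at hz ⊢
        obtain ⟨v, hv⟩ := hz
        simp only [one_smul, smul_zero, Submonoid.smul_def] at hv ⊢
        have hvx : (v : S) • x ∈ K := by
          rw [hK, LinearMap.mem_ker, map_smul]; exact hv
        obtain ⟨_, ⟨r, hr, rfl⟩, htx⟩ := hKloc p _ hvx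
        refine ⟨⟨algebraMap R S r * v, q.asIdeal.primeCompl.mul_mem hr v.2⟩, ?_⟩
        rw [← Submodule.Quotient.mk_smul, Submodule.Quotient.mk_eq_zero, mul_smul]
        exact Submodule.mem_sup_right htx
    haveI : Module.Flat R (LocalizedModule q.asIdeal.primeCompl M) :=
      FlatFibrePD.flat_localized_of_flat (A := R) (B := S) (M := M) q.asIdeal.primeCompl
    exact Module.Flat.of_linearEquiv ((LinearEquiv.ofBijective Ψ ⟨hΨi, hΨs⟩).restrictScalars R)
  choose Kq hKqfg hKq0 hKqle hKqflat using hgood
  have hopen : ∀ q₀, IsOpen {q : PrimeSpectrum S |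
      Module.Flat R (LocalizedModule q.asIdeal.primeCompl ((Fin m → S) ⧸ Kq q₀))} := fun q₀ => by
    haveI : Module.FinitePresentation S ((Fin m → S) ⧸ Kq q₀) :=
      Module.finitePresentation_of_surjective (Submodule.mkQ _) (Submodule.mkQ_surjective _)
        (by rw [Submodule.ker_mkQ]; exact hKqfg q₀)
    exact FlatLocus.isOpen_flatLocus
  obtain ⟨t, ht⟩ := isCompact_univ.elim_finite_subcover _ hopen
    (fun q _ => Set.mem_iUnion.2 ⟨q, hKqflat q⟩)
  have hfinal : K ≤ t.sup Kq := by
    intro x hx
    have htop : (t.sup Kq).colon ({x} : Set (Fin m → S)) = ⊤ := by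
      by_contra hne
      obtain ⟨mx, hmax, hle⟩ := Ideal.exists_le_maximal _ hne
      obtain ⟨q₀, hq₀t, hq₀⟩ := Set.mem_iUnion₂.1 (ht (Set.mem_univ (⟨mx, hmax.isPrime⟩ : PrimeSpectrum S)))
      obtain ⟨u, hu, hux⟩ := key (Kq q₀) (hKq0 q₀) ⟨mx, hmax.isPrime⟩ hq₀ x hx
      exact hu (hle (Submodule.mem_colon_singleton.2 (SetLike.le_def.mp (Finset.le_sup (f := Kq) hq₀t) hux)))
    have h1 : (1 : S) ∈ (t.sup Kq).colon ({x} : Set (Fin m → S)) := htop ▸ Submodule.mem_top
    simpa using Submodule.mem_colon_singleton.1 h1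
  have hKeq : K = t.sup Kq := le_antisymm hfinal (Finset.sup_le fun q _ => hKqle q)
  rw [hKeq]
  exact Finset.sup_induction Submodule.fg_bot (fun a ha b hb => ha.sup hb) (fun q _ => hKqfg q)

theorem finitePresentation_of_flat_of_locally {R S M : Type u} [CommRing R] [CommRing S] [Algebra R S]
    [Algebra.FinitePresentation R S] [AddCommGroup M] [Module S M] [Module R M]
    [IsScalarTower R S M] [Module.Finite S M] [Module.Flat R M]
    (s : Finset (PrimeSpectrum R))
    (hs : Function.Injective fun r : R => fun p : s => algebraMap R (Localization.AtPrime p.1.asIdeal) r)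
    (hloc : ∀ (p : Ideal R) [p.IsPrime],
      Module.FinitePresentation
        (Localization (Algebra.algebraMapSubmonoid S p.primeCompl))
        (LocalizedModule (Algebra.algebraMapSubmonoid S p.primeCompl) M)) :
    Module.FinitePresentation S M := by
  classical
  obtain ⟨m, π, hπ⟩ := Module.Finite.exists_fin' S M
  refine Module.finitePresentation_of_surjective π hπ (fg_ker_of_flat_of_locally s hs π hπ ?_)
  set K := LinearMap.ker π with hK
  -- finitely generated approximations of the kernel at each prime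
  intro p
  set T := Algebra.algebraMapSubmonoid S p.asIdeal.primeCompl
  haveI := hloc p.asIdeal
  haveI : Module.Finite (Localization T) (LocalizedModule T (Fin m → S)) :=
    Module.Finite.of_isLocalizedModule T (LocalizedModule.mkLinearMap T (Fin m → S))
  obtain ⟨G, hG⟩ := Module.FinitePresentation.fg_ker (LocalizedModule.map T π)
    (LocalizedModule.map_surjective T π hπ)
  have hex : ∀ z ∈ G, ∃ x ∈ K, ∃ u : T, z = Localization.mk 1 u • LocalizedModule.mk x 1 := by
    intro z hz
    have hz' : LocalizedModule.map T π z = 0 := by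
      have : z ∈ LinearMap.ker (LocalizedModule.map T π) := hG ▸ Submodule.subset_span hz
      exact this
    induction z using LocalizedModule.induction_on with
    | h x t =>
      rw [LocalizedModule.map_mk, ← LocalizedModule.zero_mk 1, LocalizedModule.mk_eq] at hz'
      obtain ⟨v, hv⟩ := hz'
      simp only [one_smul, smul_zero, Submonoid.smul_def] at hv
      refine ⟨(v : S) • x, by rw [hK, LinearMap.mem_ker, map_smul, hv], v * t, ?_⟩
      rw [LocalizedModule.mk_smul_mk, one_smul, mul_one, LocalizedModule.mk_eq]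
      exact ⟨1, by simp [Submonoid.smul_def, smul_smul, mul_comm]⟩
  choose X hXK U hXU using hex
  let K' := Submodule.span S (Set.range fun z : G => X z.1 z.2)
  refine ⟨K', Submodule.fg_span (Set.finite_range _), Submodule.span_le.2 (by rintro _ ⟨z, rfl⟩; exact hXK _ _), ?_⟩
  intro x hx
  have hx' : LocalizedModule.mk x (1 : T) ∈ Submodule.span (Localization T)
      (LocalizedModule.mkLinearMap T (Fin m → S) '' (K' : Set (Fin m → S))) := by
    have h1 : LocalizedModule.mk x (1 : T) ∈ LinearMap.ker (LocalizedModule.map T π) := by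
      rw [LinearMap.mem_ker, LocalizedModule.map_mk, show π x = 0 from hx, LocalizedModule.zero_mk]
    rw [← hG] at h1
    refine (Submodule.span_le.2 ?_) h1
    intro z hz
    rw [SetLike.mem_coe, hXU z hz]
    exact Submodule.smul_mem _ _ (Submodule.subset_span ⟨_, Submodule.subset_span ⟨⟨z, hz⟩, rfl⟩, rfl⟩)
  obtain ⟨w, hw, t, ht⟩ := (IsLocalization.mem_span_iff T).1 hx'
  rw [Submodule.span_image, Submodule.span_eq] at hw
  obtain ⟨k, hk, rfl⟩ := hw
  rw [LocalizedModule.mkLinearMap_apply, ← Localization.mk_eq_mk'_apply, LocalizedModule.mk_smul_mk,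
    one_smul, mul_one, LocalizedModule.mk_eq] at ht
  obtain ⟨v, hv⟩ := ht
  simp only [one_smul, Submonoid.smul_def, smul_smul] at hv
  exact ⟨(v : S) * t, T.mul_mem v.2 t.2, hv ▸ K'.smul_mem _ hk⟩

theorem finitePresentation_algebra_of_flat_of_locally {R S : Type u} [CommRing R] [CommRing S]
    [Algebra R S] [Algebra.FiniteType R S] [Module.Flat R S] (s : Finset (PrimeSpectrum R))
    (hs : Function.Injective fun r : R => fun p : s => algebraMap R (Localization.AtPrime p.1.asIdeal) r)
    (hloc : ∀ (p : Ideal R) [p.IsPrime],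
      Algebra.FinitePresentation (Localization.AtPrime p) (Localization (Algebra.algebraMapSubmonoid S p.primeCompl))) :
    Algebra.FinitePresentation R S := by
  classical
  obtain ⟨n, φ, hφ⟩ := Algebra.FiniteType.iff_quotient_mvPolynomial''.1 (inferInstance : Algebra.FiniteType R S)
  set P := MvPolynomial (Fin n) R
  letI : Module P S := Module.compHom S φ.toRingHom
  haveI : IsScalarTower R P S := IsScalarTower.of_algebraMap_smul fun r x => by
    show φ (algebraMap R P r) * x = r • x
    rw [AlgHom.commutes, Algebra.smul_def]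
  let π : (Fin 1 → P) →ₗ[P] S :=
    { toFun := fun v => φ (v 0)
      map_add' := fun a b => map_add φ _ _
      map_smul' := fun c a => map_mul φ _ _ }
  have hπ : Function.Surjective π := fun x => by
    obtain ⟨a, rfl⟩ := hφ x
    exact ⟨fun _ => a, rfl⟩
  refine Algebra.FinitePresentation.of_surjective hφ ?_
  have hfg : (LinearMap.ker π).FG := by
    refine fg_ker_of_flat_of_locally s hs π hπ fun p => ?_
    let Rp := Localization.AtPrime p.asIdeal
    let T := Localization (Algebra.algebraMapSubmonoid S p.asIdeal.primeCompl)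
    haveI := hloc p.asIdeal
    let Pp := MvPolynomial (Fin n) Rp
    letI : Algebra P Pp := MvPolynomial.algebraMvPolynomial
    let ψ : Pp →ₐ[Rp] T := MvPolynomial.aeval fun i => algebraMap S T (φ (MvPolynomial.X i))
    have hcomp : ∀ a : P, ψ (algebraMap P Pp a) = algebraMap S T (φ a) := by
      intro a
      have h1 : (ψ.toRingHom.comp (algebraMap P Pp)) = (algebraMap S T).comp φ.toRingHom := by
        refine MvPolynomial.ringHom_ext (fun r => ?_) fun i => ?_
        · show ψ (MvPolynomial.map (algebraMap R Rp) (MvPolynomial.C r)) = algebraMap S T (φ (MvPolynomial.C r))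
          rw [MvPolynomial.map_C, show φ (MvPolynomial.C r) = algebraMap R S r from φ.commutes r,
            show ψ (MvPolynomial.C (algebraMap R Rp r)) = algebraMap Rp T (algebraMap R Rp r) from ψ.commutes _,
            ← IsScalarTower.algebraMap_apply, ← IsScalarTower.algebraMap_apply]
        · show ψ (MvPolynomial.map (algebraMap R Rp) (MvPolynomial.X i)) = _
          rw [MvPolynomial.map_X, MvPolynomial.aeval_X]; rfl
      exact RingHom.congr_fun h1 a
    haveI : IsLocalization (p.asIdeal.primeCompl.map (MvPolynomial.C : R →+* P)) Pp :=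
      MvPolynomial.isLocalization p.asIdeal.primeCompl Rp
    have hψ : Function.Surjective ψ := by
      intro z
      obtain ⟨x, ⟨_, r, hr, rfl⟩, rfl⟩ := IsLocalization.exists_mk'_eq (Algebra.algebraMapSubmonoid S p.asIdeal.primeCompl) z
      obtain ⟨a, rfl⟩ := hφ x
      refine ⟨IsLocalization.mk' Pp a (⟨MvPolynomial.C r, r, hr, rfl⟩ : p.asIdeal.primeCompl.map (MvPolynomial.C : R →+* P)), ?_⟩
      rw [IsLocalization.eq_mk'_iff_mul_eq]
      show ψ _ * algebraMap S T (algebraMap R S r) = _
      rw [← φ.commutes r, ← hcomp, ← hcomp, ← map_mul]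
      exact congrArg ψ (IsLocalization.mk'_spec Pp a _)
    obtain ⟨G, hG⟩ := Algebra.FinitePresentation.ker_fG_of_surjective ψ hψ
    have hex : ∀ z ∈ G, ∃ a : P, φ a = 0 ∧ ∃ c : Pp, z = c * algebraMap P Pp a := by
      intro z hz
      have hz0 : ψ z = 0 := by
        have : z ∈ RingHom.ker ψ.toRingHom := hG ▸ Ideal.subset_span hz
        exact this
      obtain ⟨a, u, rfl⟩ := IsLocalization.exists_mk'_eq (p.asIdeal.primeCompl.map (MvPolynomial.C : R →+* P)) z
      have h1 : algebraMap S T (φ a) = 0 := by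
        rw [← hcomp, ← IsLocalization.mk'_spec Pp a u, map_mul, hz0, zero_mul]
      obtain ⟨⟨_, r, hr, rfl⟩, hrx⟩ := (IsLocalization.map_eq_zero_iff (Algebra.algebraMapSubmonoid S p.asIdeal.primeCompl) T _).1 h1
      refine ⟨MvPolynomial.C r * a, ?_, IsLocalization.mk' Pp 1
        (u * ⟨MvPolynomial.C r, r, hr, rfl⟩), ?_⟩
      · rw [map_mul, show φ (MvPolynomial.C r) = algebraMap R S r from φ.commutes r]; exact hrx
      · rw [mul_comm (IsLocalization.mk' Pp 1 _), IsLocalization.mul_mk'_eq_mk'_of_mul, mul_one]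
        refine IsLocalization.mk'_eq_of_eq ?_
        simp only [Submonoid.coe_mul]
        ring
    choose A hA0 c hc using hex
    let J : Ideal P := Ideal.span (Set.range fun z : G => A z.1 z.2)
    refine ⟨Submodule.span P (Set.range fun z : G => fun _ : Fin 1 => A z.1 z.2), Submodule.fg_span (Set.finite_range _),
      Submodule.span_le.2 (by rintro _ ⟨z, rfl⟩; exact hA0 _ _), fun x hx => ?_⟩
    have h1 : algebraMap P Pp (x 0) ∈ J.map (algebraMap P Pp) := by
      have h2 : algebraMap P Pp (x 0) ∈ RingHom.ker ψ.toRingHom := by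
        show ψ _ = 0
        rw [hcomp, show φ (x 0) = 0 from hx, map_zero]
      rw [← hG] at h2
      refine (Ideal.span_le.2 ?_) h2
      intro z hz
      rw [SetLike.mem_coe, hc z hz]
      exact Ideal.mul_mem_left _ _ (Ideal.mem_map_of_mem _ (Ideal.subset_span ⟨⟨z, hz⟩, rfl⟩))
    obtain ⟨⟨_, r, hr, rfl⟩, hm⟩ := (IsLocalization.algebraMap_mem_map_algebraMap_iff
      (p.asIdeal.primeCompl.map (MvPolynomial.C : R →+* P)) Pp J (x 0)).1 h1 |> fun ⟨t, ht, h⟩ => (⟨⟨t, ht⟩, h⟩ :
        ∃ t : p.asIdeal.primeCompl.map (MvPolynomial.C : R →+* P), (t : P) * x 0 ∈ J)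
    refine ⟨MvPolynomial.C r, ⟨r, hr, rfl⟩, ?_⟩
    obtain ⟨e, he⟩ := Submodule.mem_span_range_iff_exists_fun P |>.1 hm
    refine Submodule.mem_span_range_iff_exists_fun P |>.2 ⟨e, funext fun i => ?_⟩
    rw [Fin.eq_zero i, Finset.sum_apply]
    exact he
  have : RingHom.ker φ.toRingHom = Submodule.map (LinearMap.proj (0 : Fin 1)) (LinearMap.ker π) := by
    ext a
    exact ⟨fun ha => ⟨fun _ => a, ha, rfl⟩, fun ⟨v, hv, hva⟩ => hva ▸ hv⟩
  rw [this]
  exact hfg.map _

end Groth.Agent.CAlgT1
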