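import Mathlib

/-!
# Lengths and localizations
-/

set_option autoImplicit false
universe u

namespace Groth.Agent.CAlgT1

variable {B : Type u} [CommRing B]

theorem length_localized_le (S : Submonoid B) (M : Type u) [AddCommGroup M] [Module B M] :
    Module.length (Localization S) (LocalizedModule S M) ≤ Module.length B M := by
  rw [← WithBot.coe_le_coe, Module.coe_length, Module.coe_length]
  exact Order.krullDim_le_of_strictMono _
    (Submodule.localized'gi (Localization S) S (LocalizedModule.mkLinearMap S M)).strictMono_u

open scoped Classical in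
theorem length_localized_simple (m : Ideal B) [m.IsMaximal] (Q : Type u) [AddCommGroup Q] [Module B Q]
    [IsSimpleModule B Q] :
    Module.length (Localization.AtPrime m) (LocalizedModule m.primeCompl Q) =
      if Module.annihilator B Q = m then 1 else 0 := by
  obtain ⟨n, hn, ⟨e⟩⟩ := isSimpleModule_iff_quot_maximal.1 ‹IsSimpleModule B Q›
  have han : Module.annihilator B Q = n := by rw [e.annihilator_eq, Ideal.annihilator_quotient]
  rw [han]
  split_ifs with h
  · subst h
    refine le_antisymm ((length_localized_le _ Q).trans (le_of_eq (Module.length_eq_one B Q))) ?_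
    rw [Order.one_le_iff_pos, Module.length_pos_iff]
    refine ⟨⟨LocalizedModule.mk (e.symm (Submodule.Quotient.mk 1)) 1, 0, fun h0 => ?_⟩⟩
    rw [← LocalizedModule.zero_mk (1 : n.primeCompl), LocalizedModule.mk_eq] at h0
    obtain ⟨⟨u, hu⟩, h0⟩ := h0
    simp only [Submonoid.smul_def, OneMemClass.coe_one, one_smul, smul_zero] at h0
    refine hu ((Submodule.Quotient.mk_eq_zero n).1 ?_)
    rw [← map_smul, e.symm.map_eq_zero_iff, ← Submodule.Quotient.mk_smul] at h0
    rwa [smul_eq_mul, mul_one] at h0
  · rw [Module.length_eq_zero_iff, LocalizedModule.subsingleton_iff]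
    intro x
    have hnm : ¬ n ≤ m := fun hle => h (hn.eq_of_le (Ideal.IsMaximal.ne_top ‹_›) hle)
    obtain ⟨r, hrn, hrm⟩ := SetLike.not_le_iff_exists.1 hnm
    exact ⟨r, hrm, Module.mem_annihilator.1 (han ▸ hrn) x⟩

theorem length_localized_add {M N P : Type u} [AddCommGroup M] [Module B M] [AddCommGroup N] [Module B N]
    [AddCommGroup P] [Module B P] (S : Submonoid B) (f : N →ₗ[B] M) (g : M →ₗ[B] P) (hf : Function.Injective f)
    (hg : Function.Surjective g) (h : Function.Exact f g) :
    Module.length (Localization S) (LocalizedModule S M) =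
      Module.length (Localization S) (LocalizedModule S N) + Module.length (Localization S) (LocalizedModule S P) :=
  Module.length_eq_add_of_exact _ _ (LocalizedModule.map_injective S f hf)
    (LocalizedModule.map_surjective S g hg) (LocalizedModule.map_exact S f g h)

open scoped Classical in
theorem card_factors_eq_length (M : Type u) [AddCommGroup M] [Module B M] (s : CompositionSeries (Submodule B M))
    (h0 : s.head = ⊥) (h1 : s.last = ⊤) (m : Ideal B) [m.IsMaximal] :
    ((Finset.univ.filter fun i : Fin s.length => (s i.castSucc).colon (s i.succ : Set M) = m).card : ℕ∞) =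
      Module.length (Localization.AtPrime m) (LocalizedModule m.primeCompl M) := by
  have hstep : ∀ i : Fin s.length,
      Module.length (Localization.AtPrime m) (LocalizedModule m.primeCompl (s i.succ)) =
      Module.length (Localization.AtPrime m) (LocalizedModule m.primeCompl (s i.castSucc)) +
        (if (s i.castSucc).colon (s i.succ : Set M) = m then 1 else 0) := by
    intro i
    have hcov : s i.castSucc ⋖ s i.succ := s.step i
    let Q := (s i.succ) ⧸ (s i.castSucc).submoduleOf (s i.succ)
    haveI : IsSimpleModule B Q := (covBy_iff_quot_is_simple hcov.le).1 hcov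
    have hann : Module.annihilator B Q = (s i.castSucc).colon (s i.succ : Set M) := by
      ext r
      rw [Module.mem_annihilator, Submodule.mem_colon]
      constructor
      · intro h x hx
        have h2 := h (Submodule.Quotient.mk ⟨x, hx⟩)
        rwa [← Submodule.Quotient.mk_smul, Submodule.Quotient.mk_eq_zero] at h2
      · intro h q
        obtain ⟨⟨x, hx⟩, rfl⟩ := Submodule.mkQ_surjective _ q
        rw [← map_smul]
        exact (Submodule.Quotient.mk_eq_zero _).2 (h x hx)
    rw [← hann, ← length_localized_simple m Q]
    refine length_localized_add m.primeCompl (Submodule.inclusion hcov.le)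
      (Submodule.mkQ ((s i.castSucc).submoduleOf (s i.succ))) (Submodule.inclusion_injective _) (Submodule.mkQ_surjective _) ?_
    rw [LinearMap.exact_iff, Submodule.ker_mkQ, Submodule.range_inclusion]
    rfl
  have hk : ∀ k : Fin (s.length + 1),
      ((Finset.univ.filter fun i : Fin s.length => (i : ℕ) < k ∧ (s i.castSucc).colon (s i.succ : Set M) = m).card : ℕ∞) =
        Module.length (Localization.AtPrime m) (LocalizedModule m.primeCompl (s k)) := by
    intro k
    induction k using Fin.induction with
    | zero =>
      haveI : Subsingleton (s 0) := (Submodule.subsingleton_iff_eq_bot).2 h0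
      haveI : Subsingleton (LocalizedModule m.primeCompl (s 0)) :=
        LocalizedModule.subsingleton_iff.2 fun x => ⟨1, m.primeCompl.one_mem, Subsingleton.elim _ _⟩
      rw [Module.length_eq_zero]
      simp
    | succ i ih =>
      rw [hstep, ← ih]
      split_ifs with hi
      · rw [show (Finset.univ.filter fun j : Fin s.length => (j : ℕ) < (i.succ : ℕ) ∧ (s j.castSucc).colon (s j.succ : Set M) = m) =
          insert i (Finset.univ.filter fun j : Fin s.length => (j : ℕ) < (i.castSucc : ℕ) ∧ (s j.castSucc).colon (s j.succ : Set M) = m) from ?_,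
          Finset.card_insert_of_notMem (by simp)]
        · push_cast; rfl
        · ext j
          simp only [Finset.mem_filter, Finset.mem_univ, true_and, Finset.mem_insert, Fin.val_succ, Fin.val_castSucc]
          constructor
          · rintro ⟨h1, h2⟩
            rcases (Nat.lt_succ_iff.1 h1).lt_or_eq with h3 | h3
            · exact Or.inr ⟨h3, h2⟩
            · exact Or.inl (Fin.ext h3)
          · rintro (rfl | ⟨h1, h2⟩)
            · exact ⟨Nat.lt_succ_self _, hi⟩
            · exact ⟨Nat.lt_succ_of_lt h1, h2⟩
      · rw [add_zero]
        congr 2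
        ext j
        simp only [Finset.mem_filter, Finset.mem_univ, true_and, Fin.val_succ, Fin.val_castSucc]
        constructor
        · rintro ⟨h1, h2⟩
          rcases (Nat.lt_succ_iff.1 h1).lt_or_eq with h3 | h3
          · exact ⟨h3, h2⟩
          · exact absurd (by rw [← Fin.ext h3]; exact h2) hi
        · rintro ⟨h1, h2⟩
          exact ⟨Nat.lt_succ_of_lt h1, h2⟩
  have hlast := hk (Fin.last _)
  simp only [Fin.val_last, Fin.is_lt, true_and] at hlast
  rw [hlast]
  refine le_antisymm (Module.length_le_of_injective _ (LocalizedModule.map_injective _ _ (Submodule.injective_subtype _))) ?_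
  refine Module.length_le_of_surjective _ (LocalizedModule.map_surjective _ (s (Fin.last s.length)).subtype fun x => ⟨⟨x, ?_⟩, rfl⟩)
  show x ∈ s.last
  rw [h1]; trivial

open scoped Classical in
theorem length_eq_sum {A : Type u} [CommRing A] [IsLocalRing A] [Algebra A B] [Finite (MaximalSpectrum B)]
    (hover : ∀ n : MaximalSpectrum B, n.asIdeal.comap (algebraMap A B) = IsLocalRing.maximalIdeal A)
    (hfin : ∀ n : MaximalSpectrum B, Module.Finite (A ⧸ n.asIdeal.comap (algebraMap A B)) (B ⧸ n.asIdeal))
    (M : Type u) [AddCommGroup M] [Module B M] (hM : IsFiniteLength B M) :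
    ∀ [Module A M] [IsScalarTower A B M], Module.length A M = ∑ᶠ n : MaximalSpectrum B,
      (Module.finrank (A ⧸ n.asIdeal.comap (algebraMap A B)) (B ⧸ n.asIdeal) : ℕ∞) *
        Module.length (Localization.AtPrime n.asIdeal) (LocalizedModule n.asIdeal.primeCompl M) := by
  haveI : Fintype (MaximalSpectrum B) := Fintype.ofFinite _
  simp only [finsum_eq_sum_of_fintype]
  induction hM with
  | @of_subsingleton M _ _ _ =>
    intro _ _
    rw [Module.length_eq_zero, eq_comm]
    refine Finset.sum_eq_zero fun n _ => ?_
    haveI : Subsingleton (LocalizedModule n.asIdeal.primeCompl M) :=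
      LocalizedModule.subsingleton_iff.2 fun x => ⟨1, n.asIdeal.primeCompl.one_mem, Subsingleton.elim _ _⟩
    rw [Module.length_eq_zero, mul_zero]
  | @of_simple_quotient M _ _ N hsimple hN ih =>
    intro _ _
    have hQ : Module.length A (M ⧸ N) = ∑ n : MaximalSpectrum B,
        (Module.finrank (A ⧸ n.asIdeal.comap (algebraMap A B)) (B ⧸ n.asIdeal) : ℕ∞) *
          Module.length (Localization.AtPrime n.asIdeal) (LocalizedModule n.asIdeal.primeCompl (M ⧸ N)) := by
      obtain ⟨n₀, hn₀, ⟨e⟩⟩ := isSimpleModule_iff_quot_maximal.1 hsimple
      have han : Module.annihilator B (M ⧸ N) = n₀ := by rw [e.annihilator_eq, Ideal.annihilator_quotient]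
      rw [Finset.sum_eq_single (⟨n₀, hn₀⟩ : MaximalSpectrum B)]
      · rw [length_localized_simple, if_pos han, mul_one, (e.restrictScalars A).length_eq]
        haveI := hfin ⟨n₀, hn₀⟩
        haveI : (n₀.comap (algebraMap A B)).IsMaximal := by
          rw [show n₀.comap (algebraMap A B) = _ from hover ⟨n₀, hn₀⟩]
          exact IsLocalRing.maximalIdeal.isMaximal A
        letI := Ideal.Quotient.field (n₀.comap (algebraMap A B))
        haveI : IsScalarTower A (A ⧸ n₀.comap (algebraMap A B)) (B ⧸ n₀) :=
          IsScalarTower.of_algebraMap_eq fun _ => rfl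
        rw [Module.length_eq_of_surjective (R := A ⧸ n₀.comap (algebraMap A B)) (S := A) (M := B ⧸ n₀)
          Ideal.Quotient.mk_surjective, Module.length_eq_finrank]
      · intro n _ hne
        rw [length_localized_simple, if_neg, mul_zero]
        rw [han]
        exact fun h => hne (MaximalSpectrum.ext h.symm)
      · simp
    rw [Module.length_eq_add_of_exact (N.subtype.restrictScalars A) (N.mkQ.restrictScalars A)
      (Submodule.injective_subtype N) (Submodule.mkQ_surjective N) (LinearMap.exact_subtype_mkQ N),
      ih, hQ, ← Finset.sum_add_distrib]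
    refine Finset.sum_congr rfl fun n _ => ?_
    rw [← mul_add, ← length_localized_add n.asIdeal.primeCompl N.subtype N.mkQ (Submodule.injective_subtype N)
      (Submodule.mkQ_surjective N) (LinearMap.exact_subtype_mkQ N)]

end Groth.Agent.CAlgT1
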