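import Mathlib

/-!
# Lifting maps from complexes of projectives to resolutions
-/

set_option autoImplicit false
universe v u

open CategoryTheory Limits HomologicalComplex Category

namespace Groth.Agent.CAlgT1

variable {C : Type u} [Category.{v} C] [Abelian C] {Z : C} {K : ChainComplex C ℕ}
  (ε : K ⟶ (ChainComplex.single₀ C).obj Z) [QuasiIso ε]

include ε in
theorem qres_exact_succ (n : ℕ) :
    (ShortComplex.mk _ _ (K.d_comp_d (n + 2) (n + 1) n)).Exact := by
  refine ((HomologicalComplex.exactAt_iff' _ (n + 2) (n + 1) n) (by simp only [ChainComplex.prev]; rfl)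
    (by simp)).1 ?_
  rw [← quasiIsoAt_iff_exactAt' ε (n + 1) (ChainComplex.exactAt_succ_single_obj _ _)]
  infer_instance

omit [QuasiIso ε] in
theorem qres_w : K.d 1 0 ≫ ε.f 0 = 0 := by
  rw [← ε.comm 1 0, single_obj_d, comp_zero]

set_option backward.isDefEq.respectTransparency.types false in
set_option backward.defeqAttrib.useBackward true in
noncomputable def qres_isColimit : IsColimit (CokernelCofork.ofπ (ε.f 0) (qres_w ε)) := by
  refine IsColimit.ofIsoColimit (K.opcyclesIsCokernel 1 0 (by simp)) ?_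
  refine Cofork.ext (K.isoHomologyι₀.symm ≪≫ isoOfQuasiIsoAt ε 0 ≪≫
    singleObjHomologySelfIso _ _ _) ?_
  rw [← cancel_mono (singleObjHomologySelfIso (ComplexShape.down ℕ) 0 _).inv,
    ← cancel_mono (ChainComplex.isoHomologyι₀ _).hom]
  dsimp
  simp only [ChainComplex.isoHomologyι₀_inv_naturality_assoc, p_opcyclesMap_assoc, ChainComplex.single₀_obj_zero, assoc,
    Iso.hom_inv_id, comp_id, isoHomologyι_inv_hom_id, singleObjHomologySelfIso_inv_homologyι,
    singleObjOpcyclesSelfIso_hom, ChainComplex.single₀ObjXSelf, Iso.refl_inv, id_comp]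

theorem qres_exact₀ : (ShortComplex.mk _ _ (qres_w ε)).Exact :=
  ShortComplex.exact_of_g_is_cokernel _ (qres_isColimit ε)

theorem qres_epi : Epi (ε.f 0) := epi_of_isColimit_cofork (qres_isColimit ε)

variable {Y : C} {P : ChainComplex C ℕ} (hP : ∀ n, Projective (P.X n)) (π : P ⟶ (ChainComplex.single₀ C).obj Y)

include hP

theorem exists_lift (g : Y ⟶ Z) :
    ∃ φ : P ⟶ K, φ ≫ ε = π ≫ (ChainComplex.single₀ C).map g := by
  haveI := hP
  haveI := qres_epi ε
  let e : K.X 0 ⟶ Z := ε.f 0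
  haveI : Epi e := qres_epi ε
  let z : P.X 0 ⟶ K.X 0 := Projective.factorThru (π.f 0 ≫ g) e
  have hz : z ≫ ε.f 0 = π.f 0 ≫ g := Projective.factorThru_comp (π.f 0 ≫ g) e
  have hw : P.d 1 0 ≫ π.f 0 = 0 := by rw [← π.comm 1 0, single_obj_d, comp_zero]
  have h1 : (P.d 1 0 ≫ z) ≫ ε.f 0 = 0 := by
    rw [assoc, hz]
    exact ((Category.assoc _ _ _).symm.trans (congrArg (· ≫ g) hw)).trans zero_comp
  refine ⟨ChainComplex.mkHom P K z ((qres_exact₀ ε).liftFromProjective _ h1)
    ((qres_exact₀ ε).liftFromProjective_comp _ _) (fun n p =>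
      ⟨(qres_exact_succ ε n).liftFromProjective (P.d (n + 2) (n + 1) ≫ p.2.1) (by
          rw [assoc, p.2.2, HomologicalComplex.d_comp_d_assoc, zero_comp]),
        (qres_exact_succ ε n).liftFromProjective_comp _ _⟩), ?_⟩
  apply HomologicalComplex.to_single_hom_ext
  rw [HomologicalComplex.comp_f, HomologicalComplex.comp_f, ChainComplex.mkHom_f_0, hz]
  exact congrArg (π.f 0 ≫ ·) (ChainComplex.single₀_map_f_zero g).symm

theorem exists_homotopy_zero (γ : P ⟶ K) (hγ : γ ≫ ε = 0) : Nonempty (Homotopy γ 0) := by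
  haveI := hP
  have h0 : γ.f 0 ≫ ε.f 0 = 0 := HomologicalComplex.congr_hom hγ 0
  let a := (qres_exact₀ ε).liftFromProjective _ h0
  have ha : a ≫ K.d 1 0 = γ.f 0 := (qres_exact₀ ε).liftFromProjective_comp _ _
  have h1 : (γ.f 1 - P.d 1 0 ≫ a) ≫ K.d 1 0 = 0 := by
    rw [Preadditive.sub_comp, assoc, ha, γ.comm, sub_self]
  let b := (qres_exact_succ ε 0).liftFromProjective _ h1
  have hb : b ≫ K.d 2 1 = γ.f 1 - P.d 1 0 ≫ a := (qres_exact_succ ε 0).liftFromProjective_comp _ _
  refine ⟨Homotopy.mkInductive γ a ha.symm b (by rw [hb]; abel) fun n p => ?_⟩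
  obtain ⟨f, f', w⟩ := p
  have hs : (γ.f (n + 2) - P.d (n + 2) (n + 1) ≫ f') ≫ K.d (n + 2) (n + 1) = 0 := by
    rw [Preadditive.sub_comp, assoc, γ.comm, w, Preadditive.comp_add,
      HomologicalComplex.d_comp_d_assoc, zero_comp, zero_add, sub_self]
  exact ⟨(qres_exact_succ ε (n + 1)).liftFromProjective _ hs, by
    erw [(qres_exact_succ ε (n + 1)).liftFromProjective_comp]; abel⟩

theorem exists_homotopy (g : Y ⟶ Z) (α β : P ⟶ K) (hα : α ≫ ε = π ≫ (ChainComplex.single₀ C).map g)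
    (hβ : β ≫ ε = π ≫ (ChainComplex.single₀ C).map g) : Nonempty (Homotopy α β) := by
  obtain ⟨h⟩ := exists_homotopy_zero ε hP (α - β) (by rw [Preadditive.sub_comp, hα, hβ, sub_self])
  exact ⟨Homotopy.equivSubZero.symm h⟩

end Groth.Agent.CAlgT1
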