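import Groth.Agent.CMLocus.Open

/-!
# Local dimension of spectra of finite type algebras over a field
-/

set_option autoImplicit false
universe u

namespace Groth.Agent.CAlgT1

variable (k S : Type u) [Field k] [CommRing S] [Algebra k S] [Algebra.FiniteType k S]

theorem localDim_eq_dim_add_trdeg (p : Ideal S) [p.IsPrime] (r : ℕ) (hr : Algebra.trdeg k p.ResidueField = r) :
    FlatMor.localDim (PrimeSpectrum S) ⟨p, inferInstance⟩ =
      ringKrullDim (Localization.AtPrime p) + (r : WithBot ℕ∞) := by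
  obtain ⟨t, ht, htd⟩ := CMLocus.exists_trdeg_residue k S p
  rw [CMLocus.localDim_eq k S ⟨p, inferInstance⟩, htd]
  obtain rfl : t = r := Nat.cast_injective (R := Cardinal) (ht.symm.trans hr)
  rfl

theorem exists_away_dim_eq (q : Ideal S) [q.IsPrime] :
    ∃ g : S, g ∉ q ∧ ringKrullDim (Localization.Away g) = FlatMor.localDim (PrimeSpectrum S) ⟨q, inferInstance⟩ := by
  let x : PrimeSpectrum S := ⟨q, inferInstance⟩
  obtain ⟨U, hqU, hU⟩ := TopDimLib.exists_localDim_eq x
  obtain ⟨_, ⟨g, rfl⟩, hqg, hsub⟩ :=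
    PrimeSpectrum.isTopologicalBasis_basic_opens.exists_subset_of_mem_open hqU U.2
  refine ⟨g, hqg, ?_⟩
  rw [RelDim.dim_away]
  exact le_antisymm ((TopDimLib.dim_subtype_mono hsub).trans_eq hU)
    (TopDimLib.localDim_le (U := PrimeSpectrum.basicOpen g) (x := x) hqg)

theorem localDim_le_away (q : Ideal S) [q.IsPrime] (g : S) (hg : g ∉ q) :
    FlatMor.localDim (PrimeSpectrum S) ⟨q, inferInstance⟩ ≤ ringKrullDim (Localization.Away g) := by
  rw [RelDim.dim_away]
  exact TopDimLib.localDim_le (U := PrimeSpectrum.basicOpen g) (x := ⟨q, inferInstance⟩) hg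

theorem exists_noether_normalization_at_prime (q : Ideal S) [q.IsPrime] :
    ∃ (g : S) (d : ℕ), g ∉ q ∧ ringKrullDim (Localization.Away g) = d ∧
      (∀ g' : S, g' ∉ q → ringKrullDim (Localization.Away g) ≤ ringKrullDim (Localization.Away g')) ∧
      ∃ φ : MvPolynomial (Fin d) k →ₐ[k] Localization.Away g, Function.Injective φ ∧ φ.toRingHom.Finite := by
  obtain ⟨g, hg, hdim⟩ := exists_away_dim_eq S q
  let S' := Localization.Away g
  have : Algebra.FiniteType S S' := IsLocalization.finiteType_of_monoid_fg (Submonoid.powers g) _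
  have : Algebra.FiniteType k S' := Algebra.FiniteType.trans (S := S) ‹_› ‹_›
  have : Nontrivial S' := by
    rw [← not_subsingleton_iff_nontrivial, IsLocalization.subsingleton_iff (S := S') (M := Submonoid.powers g)]
    rintro ⟨n, hn⟩
    exact hg ((inferInstance : q.IsPrime).mem_of_pow_mem n (by simp [show g ^ n = 0 from hn]))
  obtain ⟨n, φ, hi, hφ, hn⟩ := DimTheory.exists_normalization k S'
  exact ⟨g, n, hg, hn, fun g' hg' => hdim ▸ localDim_le_away S q g' hg', φ, hi, hφ⟩

include k in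
theorem localDim_eq_iInf_maximal (p : Ideal S) [p.IsPrime] :
    FlatMor.localDim (PrimeSpectrum S) ⟨p, inferInstance⟩ =
      ⨅ m : {m : Ideal S // m.IsMaximal ∧ p ≤ m}, ringKrullDim (Localization.AtPrime (hp := m.2.1.isPrime') m.1) := by
  have hm : ∀ (m : Ideal S) [m.IsMaximal],
      FlatMor.localDim (PrimeSpectrum S) ⟨m, inferInstance⟩ = ringKrullDim (Localization.AtPrime m) := by
    intro m _
    letI := Ideal.Quotient.field m
    have h0 : ringKrullDim (S ⧸ m) = 0 := ringKrullDim_eq_zero_of_field _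
    rw [CMLocus.localDim_eq k S ⟨m, inferInstance⟩, h0, add_zero]
  refine le_antisymm (le_iInf fun ⟨m, hmax, hpm⟩ => ?_) ?_
  · haveI := hmax
    obtain ⟨g, hg, hdim⟩ := exists_away_dim_eq S m
    rw [← hm m, ← hdim]
    exact localDim_le_away S p g fun h => hg (hpm h)
  · obtain ⟨g, hg, hdim⟩ := exists_away_dim_eq S p
    haveI : IsJacobsonRing S := isJacobsonRing_of_finiteType (A := k)
    obtain ⟨m, hmax, hpm, hgm⟩ : ∃ m : Ideal S, m.IsMaximal ∧ p ≤ m ∧ g ∉ m := by
      by_contra! h
      refine hg ?_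
      rw [← (inferInstance : p.IsPrime).isRadical.radical, Ideal.radical_eq_jacobson]
      exact Ideal.mem_sInf.2 fun {m} ⟨hpm, hmax⟩ => h m hmax hpm
    haveI := hmax
    refine (iInf_le _ ⟨m, hmax, hpm⟩).trans ?_
    rw [← hdim, ← hm m]
    exact localDim_le_away S m g hgm

end Groth.Agent.CAlgT1
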