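import Mathlib

/-!
# Surjectivity and injectivity loci
-/

set_option autoImplicit false
universe u

open TensorProduct

namespace Groth.Agent.CAlgT1

variable {R : Type u} [CommRing R] {M N : Type u} [AddCommGroup M] [Module R M] [AddCommGroup N] [Module R N]

theorem surjective_localized_iff_notMem (φ : M →ₗ[R] N) (p : PrimeSpectrum R) :
    Function.Surjective (LocalizedModule.map p.asIdeal.primeCompl φ) ↔
      p ∉ Module.support R (N ⧸ LinearMap.range φ) := by
  rw [φ.localizedMap_surjective_iff_subsingleton_localized_coker, Module.notMem_support_iff]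

theorem surjective_residue_iff_notMem [Module.Finite R N] (φ : M →ₗ[R] N) (p : PrimeSpectrum R) :
    Function.Surjective (φ.lTensor p.asIdeal.ResidueField) ↔
      p ∉ Module.support R (N ⧸ LinearMap.range φ) := by
  rw [Module.mem_support_iff_nontrivial_residueField_tensorProduct, not_nontrivial_iff_subsingleton]
  have hex := lTensor_exact p.asIdeal.ResidueField (LinearMap.exact_map_mkQ_range φ) (Submodule.mkQ_surjective _)
  have hsurj := LinearMap.lTensor_surjective p.asIdeal.ResidueField (Submodule.mkQ_surjective (LinearMap.range φ))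
  refine ⟨fun h => subsingleton_of_forall_eq 0 fun z => ?_, fun h y => ?_⟩
  · obtain ⟨y, rfl⟩ := hsurj z
    obtain ⟨x, rfl⟩ := h y
    exact hex.apply_apply_eq_zero x
  · exact (hex y).1 (Subsingleton.elim _ _)

theorem surjective_locus [Module.Finite R N] (φ : M →ₗ[R] N) :
    (∀ p : PrimeSpectrum R, Function.Surjective (LocalizedModule.map p.asIdeal.primeCompl φ) ↔
        Function.Surjective (φ.lTensor p.asIdeal.ResidueField)) ∧
      IsOpen {p : PrimeSpectrum R | Function.Surjective (LocalizedModule.map p.asIdeal.primeCompl φ)} ∧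
      ∀ f : R, (↑(PrimeSpectrum.basicOpen f) : Set (PrimeSpectrum R)) ⊆
          {p : PrimeSpectrum R | Function.Surjective (LocalizedModule.map p.asIdeal.primeCompl φ)} →
        Function.Surjective (LocalizedModule.map (Submonoid.powers f) φ) := by
  refine ⟨fun p => (surjective_localized_iff_notMem φ p).trans (surjective_residue_iff_notMem φ p).symm, ?_, ?_⟩
  · simp_rw [surjective_localized_iff_notMem]
    exact (Module.isClosed_support (R := R) (M := N ⧸ LinearMap.range φ)).isOpen_compl
  · intro f hf
    rw [φ.localizedMap_surjective_iff_subsingleton_localized_coker]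
    refine LocalizedModule.subsingleton_iff_support_subset.2 fun p hp => ?_
    rw [PrimeSpectrum.mem_zeroLocus, Set.singleton_subset_iff]
    by_contra h
    exact (surjective_localized_iff_notMem φ p).1 (hf h) hp

theorem surjective_residue_locus [Module.Finite R N] (φ : M →ₗ[R] N) :
    IsOpen {p : PrimeSpectrum R | Function.Surjective (φ.lTensor p.asIdeal.ResidueField)} ∧
      ∀ f : R, (↑(PrimeSpectrum.basicOpen f) : Set (PrimeSpectrum R)) ⊆
          {p : PrimeSpectrum R | Function.Surjective (φ.lTensor p.asIdeal.ResidueField)} →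
        Function.Surjective (LocalizedModule.map (Submonoid.powers f) φ) := by
  obtain ⟨h1, h2, h3⟩ := surjective_locus φ
  simp_rw [← h1]
  exact ⟨h2, h3⟩

theorem ker_localized_finite_projective [Module.Finite R M] [Module.Projective R M] [Module.Finite R N] [Module.Projective R N]
    (φ : M →ₗ[R] N) (S : Submonoid R) (hsurj : Function.Surjective (LocalizedModule.map S φ)) :
    Module.Finite (Localization S) (LocalizedModule S (LinearMap.ker φ)) ∧
      Module.Projective (Localization S) (LocalizedModule S (LinearMap.ker φ)) := by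
  haveI : Module.Projective (Localization S) (LocalizedModule S M) :=
    Module.projective_of_isLocalizedModule S (LocalizedModule.mkLinearMap S M)
  haveI : Module.Projective (Localization S) (LocalizedModule S N) :=
    Module.projective_of_isLocalizedModule S (LocalizedModule.mkLinearMap S N)
  haveI : Module.Finite (Localization S) (LocalizedModule S M) :=
    Module.Finite.of_isLocalizedModule S (LocalizedModule.mkLinearMap S M)
  let q := LocalizedModule.map S φ
  obtain ⟨s, hs⟩ := Module.projective_lifting_property q LinearMap.id hsurj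
  let i := LocalizedModule.map S (LinearMap.ker φ).subtype
  have hi : Function.Injective i := LocalizedModule.map_injective S _ (Submodule.injective_subtype _)
  have hex : Function.Exact i q := LocalizedModule.map_exact S _ _ (LinearMap.exact_subtype_ker_map φ)
  have hmem : ∀ x, ((LinearMap.id : LocalizedModule S M →ₗ[Localization S] _) - s ∘ₗ q) x ∈ LinearMap.range i := by
    intro x
    refine (hex _).1 ?_
    simp only [LinearMap.sub_apply, LinearMap.id_apply, LinearMap.comp_apply, map_sub]
    rw [show q (s (q x)) = q x from LinearMap.congr_fun hs (q x), sub_self]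
  let r : LocalizedModule S M →ₗ[Localization S] LocalizedModule S (LinearMap.ker φ) :=
    (LinearEquiv.ofInjective i hi).symm.toLinearMap ∘ₗ LinearMap.codRestrict _ _ hmem
  have hri : r ∘ₗ i = LinearMap.id := LinearMap.ext fun x => by
    apply hi
    show i ((LinearEquiv.ofInjective i hi).symm _) = i x
    rw [← LinearEquiv.ofInjective_apply (h := hi), LinearEquiv.apply_symm_apply]
    simp [hex.apply_apply_eq_zero x]
  exact ⟨Module.Finite.of_surjective r fun x => ⟨i x, LinearMap.congr_fun hri x⟩,
    Module.Projective.of_split i r hri⟩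

theorem exists_scalar_lift [Module.Finite R N] [Module.Projective R N] (φ : M →ₗ[R] N)
    (x : PrimeSpectrum R) (hφ : Function.Injective (φ.lTensor x.asIdeal.ResidueField)) :
    ∃ h : N →ₗ[R] M, Function.Surjective ((h ∘ₗ φ).lTensor x.asIdeal.ResidueField) := by
  let K := x.asIdeal.ResidueField
  obtain ⟨g, hg⟩ := LinearMap.exists_leftInverse_of_injective (φ.baseChange K) (LinearMap.ker_eq_bot.2 hφ)
  obtain ⟨n, π, i, -, -, hπi⟩ := Module.Finite.exists_comp_eq_id_of_projective R N
  have key : ∀ z : K ⊗[R] M, ∃ (s : R) (m : M), s ∉ x.asIdeal ∧ s • z = (1 : K) ⊗ₜ m := by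
    intro z
    induction z using TensorProduct.induction_on with
    | zero => exact ⟨1, 0, x.isPrime.one_notMem, by simp⟩
    | tmul c m =>
      obtain ⟨a, ⟨b, hb⟩, hab⟩ := IsLocalization.exists_mk'_eq (nonZeroDivisors (R ⧸ x.asIdeal)) c
      obtain ⟨a, rfl⟩ := Ideal.Quotient.mk_surjective a
      obtain ⟨b, rfl⟩ := Ideal.Quotient.mk_surjective b
      refine ⟨b, a • m, fun h => nonZeroDivisors.ne_zero hb (Ideal.Quotient.eq_zero_iff_mem.2 h), ?_⟩
      rw [TensorProduct.smul_tmul', ← TensorProduct.smul_tmul, Algebra.smul_def, Algebra.smul_def, mul_one,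
        ← hab, IsScalarTower.algebraMap_apply R (R ⧸ x.asIdeal) K, IsScalarTower.algebraMap_apply R (R ⧸ x.asIdeal) K]
      congr 1
      rw [mul_comm]
      exact IsLocalization.mk'_spec _ _ _
    | add z w hz hw =>
      obtain ⟨s, m, hs, hm⟩ := hz
      obtain ⟨t, m', ht, hm'⟩ := hw
      refine ⟨s * t, t • m + s • m', x.asIdeal.primeCompl.mul_mem hs ht, ?_⟩
      rw [smul_add, mul_comm s t, mul_smul, hm, mul_comm t s, mul_smul, hm', tmul_add, tmul_smul, tmul_smul]
  choose s m hs hm using fun j : Fin n => key (g ((1 : K) ⊗ₜ π (Pi.single j 1)))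
  let σ := ∏ j, s j
  have hσ : σ ∉ x.asIdeal := x.asIdeal.primeCompl.prod_mem fun j _ => hs j
  let h₀ : (Fin n → R) →ₗ[R] M :=
    Fintype.linearCombination R fun j => (∏ k ∈ Finset.univ.erase j, s k) • m j
  let hh := h₀ ∘ₗ i
  have hbc : (h₀.baseChange K) = σ • (g ∘ₗ π.baseChange K) := by
    apply TensorProduct.AlgebraTensorModule.curry_injective
    refine LinearMap.ext_ring (LinearMap.pi_ext' fun j => LinearMap.ext_ring ?_)
    show (1 : K) ⊗ₜ h₀ (Pi.single j 1) = σ • g ((1 : K) ⊗ₜ π (Pi.single j 1))
    rw [Fintype.linearCombination_apply_single, one_smul, tmul_smul, ← hm, ← mul_smul,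
      Finset.prod_erase_mul _ _ (Finset.mem_univ j)]
  refine ⟨hh, fun z => ?_⟩
  have h1 : (hh ∘ₗ φ).baseChange K z = σ • z := by
    simp only [hh, LinearMap.baseChange_comp, LinearMap.comp_apply, hbc, LinearMap.smul_apply]
    have h2 : ∀ y, π.baseChange K (i.baseChange K y) = y := fun y => by
      rw [← LinearMap.comp_apply, ← LinearMap.baseChange_comp, hπi, LinearMap.baseChange_id, LinearMap.id_apply]
    rw [h2, ← LinearMap.comp_apply g, hg, LinearMap.id_apply]
  refine ⟨(algebraMap R K σ)⁻¹ • z, ?_⟩
  show (hh ∘ₗ φ).baseChange K ((algebraMap R K σ)⁻¹ • z) = z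
  rw [map_smul, h1, ← algebraMap_smul K σ z, smul_smul, inv_mul_cancel₀, one_smul]
  exact fun h0 => hσ (Ideal.algebraMap_residueField_eq_zero.1 h0)

theorem injective_residue_locus [Module.Finite R M] [Module.Projective R M] [Module.Finite R N] [Module.Projective R N]
    (φ : M →ₗ[R] N) :
    IsOpen {p : PrimeSpectrum R | Function.Injective (φ.lTensor p.asIdeal.ResidueField)} ∧
      ∀ f : R, (↑(PrimeSpectrum.basicOpen f) : Set (PrimeSpectrum R)) ⊆
          {p : PrimeSpectrum R | Function.Injective (φ.lTensor p.asIdeal.ResidueField)} →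
        Function.Injective (LocalizedModule.map (Submonoid.powers f) φ) ∧
          Module.Finite (Localization.Away f) (LocalizedModule (Submonoid.powers f) (N ⧸ LinearMap.range φ)) ∧
          Module.Projective (Localization.Away f) (LocalizedModule (Submonoid.powers f) (N ⧸ LinearMap.range φ)) := by
  constructor
  · refine isOpen_iff_forall_mem_open.2 fun x hx => ?_
    obtain ⟨h, hh⟩ := exists_scalar_lift φ x hx
    refine ⟨{p | Function.Surjective ((h ∘ₗ φ).lTensor p.asIdeal.ResidueField)}, fun p hp => ?_,
      (surjective_residue_locus (h ∘ₗ φ)).1, hh⟩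
    have h1 : Function.Injective ((h ∘ₗ φ).baseChange p.asIdeal.ResidueField) :=
      LinearMap.injective_iff_surjective.2 hp
    rw [LinearMap.baseChange_comp, LinearMap.coe_comp] at h1
    exact h1.of_comp
  intro f hf
  haveI : Module.FinitePresentation R N := Module.finitePresentation_of_projective R N
  haveI : Module.FinitePresentation R (N ⧸ LinearMap.range φ) :=
    Module.finitePresentation_of_surjective _ (Submodule.mkQ_surjective _) (by
      rw [Submodule.ker_mkQ, LinearMap.range_eq_map]; exact Module.Finite.fg_top.map φ)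
  have hloc : ∀ x : PrimeSpectrum R, x ∈ PrimeSpectrum.basicOpen f → ∃ h : N →ₗ[R] M,
      Function.Bijective (LocalizedModule.map x.asIdeal.primeCompl (h ∘ₗ φ)) := fun x hx => by
    obtain ⟨h, hh⟩ := exists_scalar_lift φ x (hf hx)
    have h1 := ((surjective_locus (h ∘ₗ φ)).1 x).2 hh
    haveI : Module.Finite (Localization x.asIdeal.primeCompl) (LocalizedModule x.asIdeal.primeCompl M) :=
      Module.Finite.of_isLocalizedModule x.asIdeal.primeCompl (LocalizedModule.mkLinearMap _ M)
    exact ⟨h, OrzechProperty.injective_of_surjective_endomorphism _ h1, h1⟩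
  refine ⟨?_, Module.Finite.of_isLocalizedModule (Submonoid.powers f) (LocalizedModule.mkLinearMap _ _), ?_⟩
  · refine (injective_iff_map_eq_zero _).2 fun z hz => ?_
    induction z using LocalizedModule.induction_on with
    | _ m s =>
      rw [LocalizedModule.map_mk, ← LocalizedModule.zero_mk (1 : Submonoid.powers f), LocalizedModule.mk_eq] at hz
      obtain ⟨⟨_, n, rfl⟩, hu⟩ := hz
      simp only [Submonoid.smul_def, OneMemClass.coe_one, one_smul, smul_zero] at hu
      let w := (f ^ n : R) • m
      have hw : φ w = 0 := by rw [map_smul]; exact hu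
      have hrad : f ∈ (Submodule.span R {w}).annihilator.radical := by
        rw [Ideal.radical_eq_sInf, Ideal.mem_sInf]
        rintro P ⟨hle, hP⟩
        by_contra hfP
        obtain ⟨h, hb⟩ := hloc ⟨P, hP⟩ hfP
        have h0 : LocalizedModule.mk w (1 : P.primeCompl) = 0 := hb.1 (by
          rw [LocalizedModule.map_mk, LinearMap.comp_apply, hw, map_zero, LocalizedModule.zero_mk, map_zero])
        rw [← LocalizedModule.zero_mk (1 : P.primeCompl), LocalizedModule.mk_eq] at h0
        obtain ⟨u, hu'⟩ := h0
        simp only [Submonoid.smul_def, OneMemClass.coe_one, one_smul, smul_zero] at hu'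
        exact u.2 (hle ((Submodule.mem_annihilator_span_singleton _ _).2 hu'))
      obtain ⟨k, hk⟩ := hrad
      rw [← LocalizedModule.zero_mk (1 : Submonoid.powers f), LocalizedModule.mk_eq]
      refine ⟨⟨f ^ (k + n), k + n, rfl⟩, ?_⟩
      simp only [Submonoid.smul_def, OneMemClass.coe_one, one_smul, smul_zero]
      rw [pow_add, mul_smul]
      exact (Submodule.mem_annihilator_span_singleton _ _).1 hk
  · refine Module.basicOpen_subset_freeLocus_iff.1 fun x hx => ?_
    obtain ⟨h, hh⟩ := hloc x hx
    let S := x.asIdeal.primeCompl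
    let e := LinearEquiv.ofBijective _ hh
    let l := e.symm.toLinearMap ∘ₗ LocalizedModule.map S h
    have hl : l ∘ₗ LocalizedModule.map S φ = LinearMap.id := by
      ext z
      show e.symm (LocalizedModule.map S h (LocalizedModule.map S φ z)) = z
      rw [e.symm_apply_eq]
      induction z using LocalizedModule.induction_on with
      | _ m s => simp [e, LocalizedModule.map_mk]
    haveI : Module.Projective (Localization S) (LocalizedModule S N) :=
      Module.projective_of_isLocalizedModule S (LocalizedModule.mkLinearMap S N)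
    haveI : Module.FinitePresentation (Localization S) (LocalizedModule S (N ⧸ LinearMap.range φ)) :=
      inferInstance
    let q := LocalizedModule.map S (LinearMap.range φ).mkQ
    have hq : Function.Surjective q := LocalizedModule.map_surjective S _ (Submodule.mkQ_surjective _)
    have hex : Function.Exact (LocalizedModule.map S φ) q :=
      LocalizedModule.map_exact S _ _ (LinearMap.exact_map_mkQ_range φ)
    let σ := (LinearMap.id : LocalizedModule S N →ₗ[Localization S] _) - LocalizedModule.map S φ ∘ₗ l
    have hk : LinearMap.ker q ≤ LinearMap.ker σ := by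
      intro y hy
      obtain ⟨z, rfl⟩ := (hex y).1 hy
      simp [σ, show l (LocalizedModule.map S φ z) = z from LinearMap.congr_fun hl z]
    let i := (Submodule.liftQ _ σ hk) ∘ₗ (q.quotKerEquivOfSurjective hq).symm.toLinearMap
    have hqi : q ∘ₗ i = LinearMap.id := LinearMap.ext fun y => by
      obtain ⟨y, rfl⟩ := hq y
      simp [i, σ, show (q.quotKerEquivOfSurjective hq).symm (q y) = Submodule.Quotient.mk y from
        (q.quotKerEquivOfSurjective hq).symm_apply_eq.2 rfl, hex.apply_apply_eq_zero]
    haveI := Module.Projective.of_split i q hqi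
    rw [Module.mem_freeLocus]
    exact Module.free_of_flat_of_isLocalRing

end Groth.Agent.CAlgT1
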