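import Mathlib

/-!
# Assorted commutative algebra
-/

set_option autoImplicit false
universe u

open TensorProduct IsLocalRing

namespace Groth.Agent.CAlgT1

theorem exists_add_generates {R : Type u} [CommRing R] (S : Submonoid R) (I : Ideal R) (M : Type u)
    [AddCommGroup M] [Module R M] [Module.Finite R M] {r : ℕ} (x : Fin r → M)
    (hx : Submodule.span (Localization S) (Set.range fun j =>
      LocalizedModule.mkLinearMap S (M ⧸ (I • (⊤ : Submodule R M))) (Submodule.Quotient.mk (x j))) = ⊤) :
    ∃ (s : R) (i : R), s ∈ S ∧ i ∈ I ∧ Submodule.span (Localization.Away (s + i))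
      (Set.range fun j => LocalizedModule.mkLinearMap (Submonoid.powers (s + i)) M (x j)) = ⊤ := by
  classical
  let N : Submodule R M := Submodule.span R (Set.range x)
  have h1 : ∀ y : M, ∃ s ∈ S, s • y ∈ N ⊔ I • ⊤ := by
    intro y
    have hy : LocalizedModule.mkLinearMap S _ (Submodule.Quotient.mk y : M ⧸ (I • ⊤ : Submodule R M)) ∈
        Submodule.span (Localization S) (Set.range fun j =>
          LocalizedModule.mkLinearMap S (M ⧸ (I • (⊤ : Submodule R M))) (Submodule.Quotient.mk (x j))) :=
      hx ▸ Submodule.mem_top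
    obtain ⟨z, hz, t, ht⟩ := (IsLocalization.mem_span_iff S).1 hy
    rw [show (Set.range fun j => LocalizedModule.mkLinearMap S (M ⧸ (I • (⊤ : Submodule R M)))
        (Submodule.Quotient.mk (x j))) = (LocalizedModule.mkLinearMap S _ ∘ₗ (I • ⊤ : Submodule R M).mkQ) '' Set.range x
      from by rw [← Set.range_comp]; rfl, Submodule.span_image] at hz
    obtain ⟨w, hw, rfl⟩ := hz
    have h2 : (t : R) • LocalizedModule.mkLinearMap S _ (Submodule.Quotient.mk y : M ⧸ (I • ⊤ : Submodule R M)) =
        LocalizedModule.mkLinearMap S _ (Submodule.Quotient.mk w) := by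
      rw [ht, ← algebraMap_smul (Localization S) (t : R), smul_smul, mul_comm, IsLocalization.mk'_spec,
        map_one, one_smul]
      rfl
    rw [← map_smul, ← Submodule.Quotient.mk_smul] at h2
    obtain ⟨c, hc⟩ := IsLocalizedModule.exists_of_eq (S := S) h2
    refine ⟨c * t, S.mul_mem c.2 t.2, ?_⟩
    rw [Submonoid.smul_def, Submonoid.smul_def, ← Submodule.Quotient.mk_smul, ← Submodule.Quotient.mk_smul,
      Submodule.Quotient.eq] at hc
    rw [mul_smul, show (c : R) • (t : R) • y = (c : R) • w + ((c : R) • (t : R) • y - (c : R) • w) by abel]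
    exact Submodule.add_mem_sup (Submodule.smul_mem _ _ hw) hc
  obtain ⟨G, hG⟩ := (Module.Finite.fg_top : (⊤ : Submodule R M).FG)
  choose t htS ht using h1
  let s₀ := ∏ g ∈ G, t g
  have hs₀ : s₀ ∈ S := S.prod_mem fun g _ => htS g
  have hall : ∀ y : M, s₀ • y ∈ N ⊔ I • ⊤ := by
    intro y
    have hy : y ∈ Submodule.span R (G : Set M) := hG ▸ Submodule.mem_top
    induction hy using Submodule.span_induction with
    | mem g hg =>
      obtain ⟨c, hc⟩ := Finset.dvd_prod_of_mem t hg
      simp only [s₀, hc]
      rw [mul_comm, mul_smul]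
      exact Submodule.smul_mem _ _ (ht g)
    | zero => simp
    | add a b _ _ ha hb => rw [smul_add]; exact add_mem ha hb
    | smul c a _ ha => rw [smul_comm]; exact Submodule.smul_mem _ _ ha
  let φ : Module.End R (M ⧸ N) := algebraMap R (Module.End R (M ⧸ N)) s₀
  have hφ : LinearMap.range φ ≤ I • (⊤ : Submodule R (M ⧸ N)) := by
    rintro _ ⟨q, rfl⟩
    obtain ⟨y, rfl⟩ := N.mkQ_surjective q
    obtain ⟨a, ha, b, hb, hab⟩ := Submodule.mem_sup.1 (hall y)
    show s₀ • N.mkQ y ∈ _
    rw [← map_smul, ← hab, map_add, show N.mkQ a = 0 from (Submodule.Quotient.mk_eq_zero _).2 ha, zero_add]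
    have := Submodule.mem_map_of_mem (f := N.mkQ) hb
    rwa [Submodule.map_smul'', Submodule.map_top, Submodule.range_mkQ] at this
  obtain ⟨p, hmon, hdeg, hcoeff, hp⟩ :=
    LinearMap.exists_monic_and_natDegree_eq_and_coeff_mem_pow_and_aeval_eq_zero R φ I hφ
  refine ⟨s₀ ^ p.natDegree, p.eval s₀ - s₀ ^ p.natDegree, S.pow_mem hs₀ _, ?_, ?_⟩
  · rw [Polynomial.eval_eq_sum_range, Finset.sum_range_succ, hmon.coeff_natDegree, one_mul, add_sub_cancel_right]
    refine Ideal.sum_mem _ fun k hk => Ideal.mul_mem_right _ _ ?_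
    exact Ideal.pow_le_self (Nat.sub_ne_zero_of_lt (Finset.mem_range.1 hk)) (hcoeff k)
  · rw [add_sub_cancel]
    have hkill : ∀ y : M, p.eval s₀ • y ∈ N := fun y => by
      rw [← Submodule.Quotient.mk_eq_zero]
      have h3 := LinearMap.congr_fun hp (Submodule.Quotient.mk y)
      rw [Polynomial.aeval_algebraMap_apply, Polynomial.coe_aeval_eq_eval] at h3
      exact h3
    refine eq_top_iff.2 fun z _ => ?_
    obtain ⟨⟨y, u⟩, rfl⟩ := IsLocalizedModule.mk'_surjective (Submonoid.powers (p.eval s₀))
      (LocalizedModule.mkLinearMap (Submonoid.powers (p.eval s₀)) M) z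
    let f := p.eval s₀
    let v : Submonoid.powers f := ⟨f, Submonoid.mem_powers f⟩
    have h4 : LocalizedModule.mkLinearMap (Submonoid.powers f) M (f • y) ∈ Submodule.span (Localization.Away f)
        (Set.range fun j => LocalizedModule.mkLinearMap (Submonoid.powers f) M (x j)) := by
      have := Submodule.mem_map_of_mem (f := LocalizedModule.mkLinearMap (Submonoid.powers f) M) (hkill y)
      rw [Submodule.map_span, ← Set.range_comp] at this
      exact Submodule.span_le_restrictScalars R (Localization.Away f) _ this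
    have h5 := Submodule.smul_mem _ (IsLocalization.mk' (Localization.Away f) (1 : R) (u * v)) h4
    convert h5 using 1
    rw [Function.uncurry_apply_pair, ← IsLocalizedModule.mk'_one (Submonoid.powers f)
      (LocalizedModule.mkLinearMap (Submonoid.powers f) M) (f • y), IsLocalizedModule.mk'_smul_mk', one_smul,
      mul_one, show f • y = (v : R) • y from rfl, mul_comm u v, ← Submonoid.smul_def v y, IsLocalizedModule.mk'_cancel_left]

theorem exists_ringEquiv_prod {R : Type u} [CommRing R] (S : Submonoid R) (A : Type u) [CommRing A] [Algebra R A]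
    [IsLocalization S A] (hcl : IsClosed (Set.range (PrimeSpectrum.comap (algebraMap R A))))
    (h : TopologicalSpace.NoetherianSpace (PrimeSpectrum R) ∨ S.FG) :
    ∃ (R' : Type u) (_ : CommRing R') (e : R ≃+* A × R'), ∀ x : R, (e x).1 = algebraMap R A x := by
  classical
  have hr : Set.range (PrimeSpectrum.comap (algebraMap R A)) =
      {p | Disjoint (S : Set R) p.asIdeal} := PrimeSpectrum.localization_comap_range A S
  let U := Set.range (PrimeSpectrum.comap (algebraMap R A))
  have hop : IsOpen U := by
    rcases h with hN | hfg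
    · have hgen : ∀ x y, x ≤ y → y ∈ U → x ∈ U := fun x y hxy hy => by
        simp only [U, hr, Set.mem_ofPred_eq] at hy ⊢
        exact hy.mono_right hxy
      have hfin := (TopologicalSpace.NoetherianSpace.finite_irreducibleComponents (α := PrimeSpectrum R))
      have hcompl : Uᶜ = ⋃ Z ∈ {Z ∈ irreducibleComponents (PrimeSpectrum R) | ¬ Z ⊆ U}, Z := by
        ext y
        simp only [Set.mem_compl_iff, Set.mem_iUnion, Set.mem_ofPred_eq, exists_prop]
        constructor
        · intro hy
          exact ⟨irreducibleComponent y, ⟨irreducibleComponent_mem_irreducibleComponents y,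
            fun hsub => hy (hsub mem_irreducibleComponent)⟩, mem_irreducibleComponent⟩
        · rintro ⟨Z, ⟨hZ, hne⟩, hyZ⟩ hy
          refine hne ?_
          have hirr : IsIrreducible Z := hZ.1
          obtain ⟨g, hg⟩ := QuasiSober.sober hirr (isClosed_of_mem_irreducibleComponents Z hZ)
          have hgy : g ≤ y := (PrimeSpectrum.le_iff_specializes g y).2 (hg.specializes hyZ)
          rw [← hg.def]
          exact hcl.closure_subset_iff.2 (Set.singleton_subset_iff.2 (hgen g y hgy hy))
      rw [← isClosed_compl_iff, hcompl]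
      exact (hfin.subset (fun Z hZ => hZ.1)).isClosed_biUnion fun Z hZ => isClosed_of_mem_irreducibleComponents Z hZ.1
    · obtain ⟨G, hG⟩ := hfg
      have : U = (PrimeSpectrum.basicOpen (∏ g ∈ G, g) : Set (PrimeSpectrum R)) := by
        ext p
        simp only [U, hr, Set.mem_ofPred_eq, SetLike.mem_coe, PrimeSpectrum.mem_basicOpen]
        constructor
        · intro hd hp
          exact Set.disjoint_left.1 hd (S.prod_mem fun g hg => hG ▸ Submonoid.subset_closure hg) hp
        · intro hp
          refine Set.disjoint_left.2 fun s hs => ?_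
          rw [SetLike.mem_coe, ← hG] at hs
          induction hs using Submonoid.closure_induction with
          | mem g hg => exact fun hgp => hp (Ideal.prod_mem _ hg hgp)
          | one => exact p.isPrime.one_notMem
          | mul a b _ _ ha hb => exact fun hab => (p.isPrime.mem_or_mem hab).elim ha hb
      rw [this]
      exact (PrimeSpectrum.basicOpen _).2
  obtain ⟨e, he, hU⟩ := PrimeSpectrum.exists_idempotent_basicOpen_eq_of_isClopen (R := R) ⟨hcl, hop⟩
  have hmemU : ∀ p : PrimeSpectrum R, p ∈ U ↔ e ∉ p.asIdeal := fun p => Set.ext_iff.1 hU p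
  have he1 : algebraMap R A e = 1 := by
    have hu : IsUnit (algebraMap R A e) := by
      by_contra hnu
      obtain ⟨m, hm, hem⟩ := exists_max_ideal_of_mem_nonunits hnu
      exact (hmemU _).1 ⟨⟨m, hm.isPrime⟩, rfl⟩ hem
    exact (IsIdempotentElem.iff_eq_one_of_isUnit hu).1 (he.map (algebraMap R A))
  have hdiv : ∀ s ∈ S, ∃ t, e = t * s := fun s hs => by
    have : e ∈ (Ideal.span {s}).radical := by
      rw [Ideal.radical_eq_sInf, Ideal.mem_sInf]
      rintro P ⟨hle, hP⟩
      by_contra heP
      have h1 := (hmemU ⟨P, hP⟩).2 heP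
      simp only [U, hr, Set.mem_ofPred_eq] at h1
      exact Set.disjoint_left.1 h1 hs (hle (Ideal.mem_span_singleton_self s))
    obtain ⟨n, hn⟩ := this
    obtain ⟨t, ht⟩ := Ideal.mem_span_singleton'.1 hn
    rcases n.eq_zero_or_pos with rfl | hn'
    · exact ⟨e * t, by rw [mul_assoc, ht, pow_zero, mul_one]⟩
    · exact ⟨t, by rw [ht, he.pow_eq hn'.ne']⟩
  let φ : R →+* A × (R ⧸ Ideal.span {e}) := (algebraMap R A).prod (Ideal.Quotient.mk _)
  have hbij : Function.Bijective φ := by
    refine ⟨(injective_iff_map_eq_zero φ).2 fun x hx => ?_, fun ⟨a, r⟩ => ?_⟩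
    · obtain ⟨s, hs⟩ := (IsLocalization.map_eq_zero_iff S A x).1 (congrArg Prod.fst hx)
      obtain ⟨y, hy⟩ := Ideal.mem_span_singleton'.1 (Ideal.Quotient.eq_zero_iff_mem.1 (congrArg Prod.snd hx))
      obtain ⟨t, ht⟩ := hdiv s s.2
      have h2 : e * x = 0 := by rw [ht, mul_assoc, hs, mul_zero]
      rw [← hy] at h2 ⊢
      rw [← h2, ← mul_assoc, mul_comm e y, mul_assoc, he.eq]
    · obtain ⟨x, s, rfl⟩ := IsLocalization.exists_mk'_eq S a
      obtain ⟨r, rfl⟩ := Ideal.Quotient.mk_surjective r
      obtain ⟨t, ht⟩ := hdiv s s.2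
      refine ⟨e * (x * t) + (1 - e) * r, Prod.ext ?_ ?_⟩
      · show algebraMap R A _ = _
        rw [IsLocalization.eq_mk'_iff_mul_eq]
        rw [map_add, map_mul, map_mul, map_mul, map_sub, map_one, he1, sub_self, zero_mul, add_zero, one_mul,
          mul_assoc, ← map_mul, ← ht, he1, mul_one]
      · show Ideal.Quotient.mk _ _ = Ideal.Quotient.mk _ r
        rw [Ideal.Quotient.eq]
        exact Ideal.mem_span_singleton'.2 ⟨x * t - r, by ring⟩
  exact ⟨R ⧸ Ideal.span {e}, inferInstance, RingEquiv.ofBijective φ hbij, fun x => rfl⟩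

/-- In a flat module over a local ring, elements independent modulo the maximal ideal are
independent modulo every ideal. -/
theorem mem_of_sum_smul_mem {A : Type u} [CommRing A] [IsLocalRing A] {N : Type u} [AddCommGroup N]
    [Module A N] [Module.Flat A N] {n : ℕ} (y : Fin n → N)
    (hy : LinearIndependent (ResidueField A) fun i => (1 : ResidueField A) ⊗ₜ[A] y i)
    (J : Ideal A) (f : Fin n → A) (h : ∑ i, f i • y i ∈ J • (⊤ : Submodule A N)) (i₀ : Fin n) : f i₀ ∈ J := by
  classical
  obtain ⟨m, j, w, hjw⟩ : ∃ (m : ℕ) (j : Fin m → A) (w : Fin m → N), (∀ k, j k ∈ J) ∧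
      ∑ i, f i • y i = ∑ k, j k • w k := by
    refine Submodule.smul_induction_on h (fun r hr x _ => ⟨1, fun _ => r, fun _ => x, fun _ => hr, by simp⟩) ?_
    rintro a b ⟨m, j, w, hj, rfl⟩ ⟨m', j', w', hj', rfl⟩
    refine ⟨m + m', Fin.append j j', Fin.append w w', fun k => ?_, by simp [Fin.sum_univ_add]⟩
    induction k using Fin.addCases <;> simp [*]
  let F : Fin (n + m) → A := Fin.append f (fun k => - j k)
  let X : Fin (n + m) → N := Fin.append y w
  have hFX : ∑ q, F q • X q = 0 := by
    simp [Fin.sum_univ_add, F, X, hjw.2, neg_smul]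
  obtain ⟨l, a, z, haz, hFa⟩ := Module.Flat.isTrivialRelation_of_sum_smul_eq_zero hFX
  let k := ResidueField A
  let a' : Fin n → Fin l → A := fun i q => a (Fin.castAdd m i) q
  have hsum : ∀ q, ∑ i, f i * a' i q ∈ J := fun q => by
    have h1 := hFa q
    simp only [Fin.sum_univ_add, F, Fin.append_left, Fin.append_right] at h1
    rw [eq_neg_of_add_eq_zero_left h1]
    exact J.neg_mem (J.sum_mem fun p _ => J.mul_mem_right _ (J.neg_mem (hjw.1 p)))
  let T : (Fin n → k) →ₗ[k] (Fin l → k) := Fintype.linearCombination k fun i q => residue A (a' i q)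
  have hT : Function.Injective T := by
    refine (injective_iff_map_eq_zero T).2 fun c hc => ?_
    refine funext (Fintype.linearIndependent_iff.1 hy c ?_)
    have hyi : ∀ i, (1 : k) ⊗ₜ[A] y i = ∑ q, residue A (a' i q) ⊗ₜ[A] z q := fun i => by
      have h2 := haz (Fin.castAdd m i)
      simp only [X, Fin.append_left] at h2
      rw [h2, tmul_sum]
      refine Finset.sum_congr rfl fun q _ => ?_
      rw [← TensorProduct.smul_tmul, Algebra.smul_def, mul_one]
      rfl
    simp only [hyi, Finset.smul_sum, TensorProduct.smul_tmul', smul_eq_mul]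
    rw [Finset.sum_comm]
    refine Finset.sum_eq_zero fun q _ => ?_
    rw [← TensorProduct.sum_tmul]
    have h3 := congrFun hc q
    simp [T, Fintype.linearCombination_apply] at h3
    rw [h3, TensorProduct.zero_tmul]
  obtain ⟨g, hg⟩ := LinearMap.exists_leftInverse_of_injective T (LinearMap.ker_eq_bot.2 hT)
  choose b hb using fun (q : Fin l) (p : Fin n) => residue_surjective (g (Pi.single q (1 : k)) p)
  let D : Matrix (Fin n) (Fin n) A := fun i p => ∑ q, a' i q * b q p
  have hD : D.map (residue A) = 1 := by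
    ext i p
    have h4 := congrFun (LinearMap.congr_fun hg (Pi.single i 1)) p
    simp only [LinearMap.comp_apply, T, Fintype.linearCombination_apply_single, one_smul, LinearMap.id_apply] at h4
    have h5 : g (fun q => residue A (a' i q)) = ∑ q, residue A (a' i q) • g (Pi.single q 1) := by
      rw [pi_eq_sum_univ' (fun q => residue A (a' i q)), map_sum]
      simp
    rw [h5] at h4
    simp [D, hb, Finset.sum_apply, Pi.single_apply, Matrix.one_apply] at h4 ⊢
    rw [h4]
    simp [eq_comm]
  have hdet : IsUnit D.det := by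
    refine (isUnit_map_iff (residue A) _).1 ?_
    rw [RingHom.map_det]
    simp [RingHom.mapMatrix_apply, hD]
  have hfD : ∀ p, (Matrix.vecMul f D) p ∈ J := fun p => by
    simp only [Matrix.vecMul, dotProduct, D, Finset.mul_sum]
    rw [Finset.sum_comm]
    refine J.sum_mem fun q _ => ?_
    simp only [← mul_assoc, ← Finset.sum_mul]
    exact J.mul_mem_right _ (hsum q)
  have hfe : f = Matrix.vecMul (Matrix.vecMul f D) D⁻¹ := by
    rw [Matrix.vecMul_vecMul, Matrix.mul_nonsing_inv _ hdet, Matrix.vecMul_one]
  rw [hfe, show ∀ (v : Fin n → A) (W : Matrix (Fin n) (Fin n) A), Matrix.vecMul v W i₀ = ∑ p, v p * W p i₀ from fun _ _ => rfl]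
  exact J.sum_mem fun p _ => J.mul_mem_right _ (hfD p)

end Groth.Agent.CAlgT1
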