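import Mathlib
import Groth.Agent.CAlgT1.Misc1
import Groth.Agent.CAlgT1.Loci
import Groth.Agent.FlatComplex.Reduced

/-!
# Content ideals, fibre ranks
-/

set_option autoImplicit false
universe u

open TensorProduct IsLocalRing

namespace Groth.Agent.CAlgT1

theorem content_map {A : Type u} [CommRing A] [IsLocalRing A] {M N : Type u}
    [AddCommGroup M] [Module A M] [Module.Flat A M] [AddCommGroup N] [Module A N] [Module.Flat A N] (u : M →ₗ[A] N)
    (hu : Function.Injective (u.baseChange (IsLocalRing.ResidueField A))) (x : M) (I : Ideal A)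
    (hx : IsLeast {J : Ideal A | x ∈ J • (⊤ : Submodule A M)} I) :
    IsLeast {J : Ideal A | u x ∈ J • (⊤ : Submodule A N)} I := by
  classical
  let k := ResidueField A
  have hmap : ∀ (J : Ideal A) (y : M), y ∈ J • (⊤ : Submodule A M) → u y ∈ J • (⊤ : Submodule A N) :=
    fun J y hy => by
      refine Submodule.smul_induction_on hy (fun r hr z _ => ?_) fun a b ha hb => ?_
      · rw [map_smul]; exact Submodule.smul_mem_smul hr trivial
      · rw [map_add]; exact add_mem ha hb
  refine ⟨hmap I x hx.1, fun J hJ => ?_⟩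
  have hex : ∃ n : ℕ, ∃ (a : Fin n → A) (z : Fin n → M), (∀ i, a i ∈ I) ∧ x = ∑ i, a i • z i := by
    refine Submodule.smul_induction_on hx.1 (fun r hr z _ => ⟨1, fun _ => r, fun _ => z, fun _ => hr, by simp⟩) ?_
    rintro a b ⟨m, j, w, hj, rfl⟩ ⟨m', j', w', hj', rfl⟩
    refine ⟨m + m', Fin.append j j', Fin.append w w', fun k => ?_, by simp [Fin.sum_univ_add]⟩
    induction k using Fin.addCases <;> simp [*]
  obtain ⟨a, z, ha, hxz⟩ := Nat.find_spec hex
  have hmin : ∀ m < Nat.find hex, ¬ ∃ (a : Fin m → A) (z : Fin m → M), (∀ i, a i ∈ I) ∧ x = ∑ i, a i • z i :=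
    fun m hm => Nat.find_min hex hm
  generalize Nat.find hex = n at a z ha hxz hmin
  clear hex
  have hIle : ∀ (m : ℕ) (b : Fin m → A) (w : Fin m → M), x = ∑ i, b i • w i → I ≤ Ideal.span (Set.range b) :=
    fun m b w h => hx.2 (show x ∈ _ from h ▸ Submodule.sum_mem _ fun i _ =>
      Submodule.smul_mem_smul (Ideal.subset_span (Set.mem_range_self i)) Submodule.mem_top)
  have hspan : Ideal.span (Set.range a) = I :=
    le_antisymm (Ideal.span_le.2 (by rintro _ ⟨i, rfl⟩; exact ha i)) (hIle n a z hxz)
  have hli : LinearIndependent k fun i => (1 : k) ⊗ₜ[A] z i := by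
    rw [Fintype.linearIndependent_iff]
    intro g hg i₀
    by_contra hgi
    obtain ⟨m, rfl⟩ : ∃ m, n = m + 1 := ⟨n - 1, by have := i₀.isLt; omega⟩
    choose c hc using fun i => residue_surjective (g i * (g i₀)⁻¹)
    have hc' : residue A (c i₀) = 1 := by rw [hc, mul_inv_cancel₀ hgi]
    have hz0 : ∑ i, c i • z i ∈ maximalIdeal A • (⊤ : Submodule A M) := by
      rw [← LinearMap.ker_tensorProductMk, LinearMap.mem_ker]
      show (1 : k) ⊗ₜ[A] (∑ i, c i • z i) = 0
      rw [tmul_sum]
      simp only [tmul_smul]
      have h1 : (g i₀)⁻¹ • ∑ i, g i • ((1 : k) ⊗ₜ[A] z i) = 0 := by rw [hg, smul_zero]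
      refine Eq.trans ?_ h1
      rw [Finset.smul_sum]
      refine Finset.sum_congr rfl fun i _ => ?_
      rw [← algebraMap_smul k (c i), smul_smul]
      congr 1
      show residue A (c i) = _
      rw [hc, mul_comm]
    obtain ⟨v, hv⟩ := (isUnit_map_iff (residue A) (c i₀)).1 (hc' ▸ isUnit_one)
    let b : Fin m → A := fun l => a (i₀.succAbove l) - a i₀ * ↑v⁻¹ * c (i₀.succAbove l)
    have hbI : ∀ l, b l ∈ I := fun l => I.sub_mem (ha _) (I.mul_mem_right _ (I.mul_mem_right _ (ha _)))
    have hx2 : x ∈ (Ideal.span (Set.range b) ⊔ maximalIdeal A • I) • (⊤ : Submodule A M) := by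
      have h2 : x = ∑ l, b l • z (i₀.succAbove l) + (a i₀ * ↑v⁻¹) • ∑ i, c i • z i := by
        rw [hxz, Fin.sum_univ_succAbove _ i₀, Fin.sum_univ_succAbove (fun i => c i • z i) i₀, smul_add,
          Finset.smul_sum, smul_smul, ← hv, mul_assoc (a i₀), Units.inv_mul, mul_one]
        rw [add_left_comm, ← Finset.sum_add_distrib]
        congr 1
        refine Finset.sum_congr rfl fun l _ => ?_
        rw [smul_smul, ← add_smul, sub_add_cancel]
      rw [h2]
      refine add_mem (Submodule.sum_mem _ fun l _ =>
        Submodule.smul_mem_smul (Ideal.mem_sup_left (Ideal.subset_span (Set.mem_range_self l))) trivial) ?_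
      refine Submodule.smul_induction_on hz0 (fun r hr w _ => ?_) fun p q hp hq => ?_
      · rw [smul_smul]
        refine Submodule.smul_mem_smul (Ideal.mem_sup_right ?_) trivial
        rw [mul_comm]
        exact Ideal.mul_mem_mul hr (I.mul_mem_right _ (ha i₀))
      · rw [smul_add]; exact add_mem hp hq
    have hnak : I ≤ Ideal.span (Set.range b) := by
      refine Submodule.le_of_le_smul_of_le_jacobson_bot (hspan ▸ Submodule.fg_span (Set.finite_range a))
        (by rw [jacobson_eq_maximalIdeal]; exact bot_ne_top) (hx.2 hx2)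
    have heq : Ideal.span (Set.range b) = I :=
      le_antisymm (Ideal.span_le.2 (by rintro _ ⟨l, rfl⟩; exact hbI l)) hnak
    have hcoe : ∀ i, ∃ d : Fin m → A, ∑ l, d l * b l = a i := fun i =>
      (Ideal.mem_span_range_iff_exists_fun).1 (heq ▸ ha i)
    choose d hd using hcoe
    refine hmin m (Nat.lt_succ_self m) ⟨b, fun l => ∑ i, d i l • z i, hbI, ?_⟩
    simp only [Finset.smul_sum, smul_smul]
    rw [Finset.sum_comm, hxz]
    refine Finset.sum_congr rfl fun i _ => ?_
    rw [← Finset.sum_smul, ← hd i]
    simp only [mul_comm]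
  have hli' : LinearIndependent k fun i => (1 : k) ⊗ₜ[A] u (z i) :=
    hli.map' (u.baseChange k) (LinearMap.ker_eq_bot.2 hu)
  rw [← hspan]
  refine Ideal.span_le.2 ?_
  rintro _ ⟨i, rfl⟩
  refine mem_of_sum_smul_mem _ hli' J a ?_ i
  have hJ' : u x ∈ J • (⊤ : Submodule A N) := hJ
  rw [hxz, map_sum] at hJ'
  simpa only [map_smul] using hJ'

variable {R : Type u} [CommRing R]

theorem finite_projective_of_locallyConstant_rank [IsReduced R] (M : Type u) [AddCommGroup M] [Module R M]
    [Module.Finite R M]
    (h : IsLocallyConstant fun p : PrimeSpectrum R =>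
      Module.finrank p.asIdeal.ResidueField (p.asIdeal.ResidueField ⊗[R] M)) :
    Module.Projective R M := by
  classical
  have key : ∀ x : PrimeSpectrum R, ∃ r : R, r ∉ x.asIdeal ∧ ∃ (n : ℕ) (π : (Fin n → R) →ₗ[R] M),
      Function.Bijective (LocalizedModule.map (Submonoid.powers r) π) := by
    intro x
    haveI : Nontrivial R := ⟨⟨0, 1, fun h01 => x.isPrime.one_notMem (h01 ▸ x.asIdeal.zero_mem)⟩⟩
    let K := x.asIdeal.ResidueField
    let n := Module.finrank K (K ⊗[R] M)
    have hsp : Submodule.span K (Set.range fun m : M => (1 : K) ⊗ₜ[R] m) = ⊤ := by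
      refine eq_top_iff.2 fun z _ => ?_
      induction z using TensorProduct.induction_on with
      | zero => exact zero_mem _
      | tmul c m =>
        rw [show c ⊗ₜ[R] m = c • ((1 : K) ⊗ₜ[R] m) by rw [TensorProduct.smul_tmul', smul_eq_mul, mul_one]]
        exact Submodule.smul_mem _ _ (Submodule.subset_span ⟨m, rfl⟩)
      | add a b ha hb => exact add_mem (ha trivial) (hb trivial)
    obtain ⟨b, hbsub, hbspan, hbli⟩ := exists_linearIndependent K (Set.range fun m : M => (1 : K) ⊗ₜ[R] m)
    rw [hsp] at hbspan
    let B := Module.Basis.mk hbli (by rw [Subtype.range_coe, hbspan])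
    haveI := Module.Finite.finite_basis B
    haveI := Fintype.ofFinite b
    have hcard : Fintype.card b = n := (Module.finrank_eq_card_basis B).symm
    let e := (Fintype.equivFinOfCardEq hcard).symm
    choose v hv using fun i : Fin n => hbsub (e i).2
    let π : (Fin n → R) →ₗ[R] M := Fintype.linearCombination R v
    have hπx : Function.Surjective (π.lTensor K) := by
      intro z
      have hz : z ∈ Submodule.span K (Set.range fun i => (1 : K) ⊗ₜ[R] v i) := by
        rw [show (Set.range fun i => (1 : K) ⊗ₜ[R] v i) = b by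
          rw [funext hv, show (fun i => ((e i : b) : K ⊗[R] M)) = Subtype.val ∘ e from rfl,
            Set.range_comp, e.surjective.range_eq, Set.image_univ, Subtype.range_coe], hbspan]
        trivial
      have hle : Submodule.span K (Set.range fun i => (1 : K) ⊗ₜ[R] v i) ≤ LinearMap.range (π.baseChange K) := by
        refine Submodule.span_le.2 ?_
        rintro _ ⟨i, rfl⟩
        exact ⟨(1 : K) ⊗ₜ Pi.single i 1, by simp [π, Fintype.linearCombination_apply_single]⟩
      exact hle hz
    obtain ⟨hopen, hsurj⟩ := surjective_residue_locus π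
    obtain ⟨_, ⟨r, rfl⟩, hxr, hsub⟩ := PrimeSpectrum.isTopologicalBasis_basic_opens.exists_subset_of_mem_open
      (show x ∈ {p : PrimeSpectrum R | Function.Surjective (π.lTensor p.asIdeal.ResidueField)} ∩
        {p | Module.finrank p.asIdeal.ResidueField (p.asIdeal.ResidueField ⊗[R] M) = n} from ⟨hπx, rfl⟩)
      (hopen.inter (h.isOpen_fiber n))
    refine ⟨r, hxr, n, π, ⟨(injective_iff_map_eq_zero _).2 fun z hz => ?_, hsurj r fun q hq => (hsub hq).1⟩⟩
    induction z using LocalizedModule.induction_on with
    | _ m s =>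
      rw [LocalizedModule.map_mk, ← LocalizedModule.zero_mk (1 : Submonoid.powers r), LocalizedModule.mk_eq] at hz
      obtain ⟨⟨_, k, rfl⟩, hk⟩ := hz
      simp only [Submonoid.smul_def, OneMemClass.coe_one, one_smul, smul_zero] at hk
      rw [← LocalizedModule.zero_mk (1 : Submonoid.powers r), LocalizedModule.mk_eq]
      refine ⟨⟨r ^ (k + 1), k + 1, rfl⟩, ?_⟩
      simp only [Submonoid.smul_def, OneMemClass.coe_one, one_smul, smul_zero]
      rw [pow_succ', mul_smul]
      refine funext fun i => ?_
      have hmem : ((r ^ k : R) • m) i * r ∈ nilradical R := by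
        rw [nilradical, Ideal.radical_eq_sInf, Ideal.mem_sInf]
        rintro P ⟨-, hP⟩
        by_cases hrP : r ∈ P
        · exact P.mul_mem_left _ hrP
        refine P.mul_mem_right _ ?_
        let q : PrimeSpectrum R := ⟨P, hP⟩
        let L := q.asIdeal.ResidueField
        obtain ⟨hs, hrank⟩ := hsub (show q ∈ (PrimeSpectrum.basicOpen r : Set (PrimeSpectrum R)) from hrP)
        have hinj : Function.Injective (π.baseChange L) := by
          refine (LinearMap.injective_iff_surjective_of_finrank_eq_finrank ?_).2 hs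
          rw [show Module.finrank L (L ⊗[R] M) = n from hrank, Module.finrank_baseChange, Module.finrank_fin_fun]
        have h0 : (1 : L) ⊗ₜ[R] ((r ^ k : R) • m) = 0 := hinj (by
          rw [LinearMap.baseChange_tmul, map_smul, hk, tmul_zero, map_zero])
        have h1 := congrFun (congrArg (TensorProduct.piScalarRight R L L _) h0) i
        rw [map_zero, TensorProduct.piScalarRight_apply, TensorProduct.piScalarRightHom_tmul] at h1
        show ((r ^ k : R) • m) i ∈ q.asIdeal
        rw [← Ideal.algebraMap_residueField_eq_zero (I := q.asIdeal)]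
        simpa [L, Algebra.smul_def] using! h1
      rw [nilradical_eq_zero, Submodule.zero_eq_bot, Ideal.mem_bot] at hmem
      simpa [mul_comm] using hmem
  choose r hr n π hπ using key
  have hs : Ideal.span (Set.range r) = ⊤ := by
    by_contra hne
    obtain ⟨m, hm, hle⟩ := Ideal.exists_le_maximal _ hne
    exact hr ⟨m, hm.isPrime⟩ (hle (Ideal.subset_span ⟨_, rfl⟩))
  haveI : Module.FinitePresentation R M := by
    refine Module.FinitePresentation.of_localizationSpan (Set.range r) hs ?_
    rintro ⟨_, x, rfl⟩
    exact Module.FinitePresentation.of_equiv (LinearEquiv.ofBijective _ (hπ x))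
  refine Module.freeLocus_eq_univ_iff.1 (Set.eq_univ_iff_forall.2 fun x => ?_)
  haveI : Module.Projective (Localization.Away (r x)) (LocalizedModule.Away (r x) M) :=
    haveI : Module.Projective (Localization.Away (r x)) (LocalizedModule.Away (r x) (Fin (n x) → R)) :=
      Module.projective_of_isLocalizedModule (Submonoid.powers (r x)) (LocalizedModule.mkLinearMap _ _)
    Module.Projective.of_equiv (LinearEquiv.ofBijective _ (hπ x))
  exact Module.basicOpen_subset_freeLocus_iff.2 inferInstance (hr x)

theorem finite_projective_iff_fibreRank [IsReduced R] (M : Type u) [AddCommGroup M] [Module R M] :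
    (Module.Finite R M ∧ Module.Projective R M) ↔ (Module.Finite R M ∧ IsLocallyConstant (fun p : PrimeSpectrum R =>
      Module.finrank p.asIdeal.ResidueField (p.asIdeal.ResidueField ⊗[R] M))) := by
  refine and_congr_right fun hf => ⟨fun hP => ?_, finite_projective_of_locallyConstant_rank M⟩
  haveI := Module.finitePresentation_of_projective R M
  convert Module.isLocallyConstant_rankAtStalk (R := R) (M := M) using 1
  exact funext fun p => FlatComplex.fiberDim_eq_rankAtStalk M p

end Groth.Agent.CAlgT1
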