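import Mathlib

/-!
# Descent of vectors, near projective modules, Artin-Rees base change, presentations
-/

set_option autoImplicit false
universe u

open TensorProduct

namespace Groth.Agent.CAlgT1

theorem subspace_meets_base {k K : Type u} [Field k] [Field K] [Algebra k K] {ι : Type u} [Nonempty ι]
    (F : ι → IntermediateField k K) (hdir : ∀ a b : ι, ∃ c, F c ≤ F a ⊓ F b) (hinf : ⨅ a, F a = ⊥) (n : ℕ)
    (V : Submodule K (Fin n → K)) :
    (∃ v ∈ V, v ≠ 0 ∧ ∀ i, v i ∈ Set.range (algebraMap k K)) ↔
      ∀ a, ∃ v ∈ V, v ≠ 0 ∧ ∀ i, v i ∈ F a := by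
  classical
  refine ⟨fun ⟨v, hv, hv0, hk⟩ a => ⟨v, hv, hv0, fun i => ?_⟩, fun h => ?_⟩
  · obtain ⟨c, hc⟩ := hk i
    rw [← hc]
    exact (F a).algebraMap_mem c
  let W : ι → Submodule K (Fin n → K) := fun a => Submodule.span K {v | v ∈ V ∧ ∀ i, v i ∈ F a}
  have hWmono : ∀ a b, F a ≤ F b → W a ≤ W b := fun a b hab =>
    Submodule.span_mono fun v hv => ⟨hv.1, fun i => hab (hv.2 i)⟩
  have hex : ∃ d, ∃ a, Module.finrank K (W a) = d := ⟨_, Classical.arbitrary ι, rfl⟩
  obtain ⟨a₀, ha₀⟩ := Nat.find_spec hex
  have hmin : ∀ a, W a₀ ≤ W a := fun a => by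
    obtain ⟨c, hc⟩ := hdir a₀ a
    have h1 : W c = W a₀ := Submodule.eq_of_le_of_finrank_le (hWmono c a₀ (hc.trans inf_le_left))
      (ha₀ ▸ Nat.find_le ⟨c, rfl⟩)
    rw [← h1]
    exact hWmono c a (hc.trans inf_le_right)
  let supp : (Fin n → K) → Finset (Fin n) := fun v => Finset.univ.filter fun i => v i ≠ 0
  have hne : ∃ d, ∃ v ∈ W a₀, v ≠ 0 ∧ (supp v).card = d := by
    obtain ⟨v, hv, hv0, hva⟩ := h a₀
    exact ⟨_, v, Submodule.subset_span ⟨hv, hva⟩, hv0, rfl⟩
  obtain ⟨v, hvW, hv0, hcard⟩ := Nat.find_spec hne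
  obtain ⟨j, hj⟩ : ∃ j, v j ≠ 0 := Function.ne_iff.1 hv0
  let w := (v j)⁻¹ • v
  have hwW : w ∈ W a₀ := Submodule.smul_mem _ _ hvW
  have hwj : w j = 1 := by simp [w, hj]
  have huniq : ∀ w' ∈ W a₀, w' j = 1 → (∀ i, v i = 0 → w' i = 0) → w' = w := by
    intro w' hw' hw'j hsupp
    by_contra hd
    have hlt : (supp (w' - w)).card < (supp v).card := by
      refine Finset.card_lt_card ((Finset.ssubset_iff_of_subset fun i hi => ?_).2
        ⟨j, by simp [supp, hj], by simp [supp, hw'j, hwj]⟩)
      simp only [supp, Finset.mem_filter, Finset.mem_univ, true_and] at hi ⊢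
      intro hvi
      exact hi (by simp [w, hsupp i hvi, hvi])
    exact absurd (Nat.find_le ⟨w' - w, Submodule.sub_mem _ hw' hwW, sub_ne_zero.2 hd, rfl⟩)
      (not_le.2 (hcard ▸ hlt))
  refine ⟨w, ?_, fun h0 => one_ne_zero (hwj.symm.trans (congrFun h0 j)), fun i => ?_⟩
  · exact (Submodule.span_le.2 fun x hx => hx.1) hwW
  suffices w i ∈ ⨅ a, F a by
    rw [hinf] at this
    exact IntermediateField.mem_bot.1 this
  rw [← SetLike.mem_coe, IntermediateField.coe_iInf]
  refine Set.mem_iInter.2 fun a => ?_
  obtain ⟨c, hc⟩ := hdir a₀ a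
  obtain ⟨π, hπ⟩ := LinearMap.exists_leftInverse_of_injective (Algebra.linearMap (F c) K)
    (LinearMap.ker_eq_bot.2 (FaithfulSMul.algebraMap_injective (F c) K))
  let T : (Fin n → K) → (Fin n → K) := fun x l => algebraMap (F c) K (π (x l))
  have hfix : ∀ y : F c, π (y : K) = y := fun y => LinearMap.congr_fun hπ y
  have hT : ∀ x ∈ W c, T x ∈ W c := by
    intro x hx
    have hx' : ∀ r : K, T (r • x) ∈ W c := by
      induction hx using Submodule.span_induction with
      | mem y hy =>
        intro r
        have : T (r • y) = (algebraMap (F c) K (π r)) • y := funext fun l => by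
          show algebraMap (F c) K (π (r * y l)) = algebraMap (F c) K (π r) * y l
          rw [mul_comm r, show y l * r = (⟨y l, hy.2 l⟩ : F c) • r from rfl, map_smul, smul_eq_mul,
            map_mul, mul_comm]
          rfl
        rw [this]
        exact Submodule.smul_mem _ _ (Submodule.subset_span hy)
      | zero => intro r; simp [T, Submodule.zero_mem]; exact zero_mem _
      | add p q _ _ hp hq =>
        intro r
        have : T (r • (p + q)) = T (r • p) + T (r • q) := funext fun l => by simp [T, mul_add]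
        rw [this]; exact add_mem (hp r) (hq r)
      | smul s p _ hp => intro r; rw [smul_smul]; exact hp _
    simpa using hx' 1
  have h1 := huniq (T w) (hWmono c a₀ (hc.trans inf_le_left) (hT w (hmin c hwW)))
    (by show algebraMap (F c) K (π (w j)) = 1
        rw [hwj, show (1 : K) = ((1 : F c) : K) from rfl, hfix]; rfl)
    (fun l hl => by simp [T, w, hl])
  rw [← congrFun h1 i]
  exact (hc.trans inf_le_right) (π (w i)).2

variable {R : Type u} [CommRing R]

/-- Factoring through a projective. -/
def FactorsProj {M : Type u} [AddCommGroup M] [Module R M] (a : M →ₗ[R] M) : Prop :=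
  ∃ (P : Type u) (_ : AddCommGroup P) (_ : Module R P) (_ : Module.Projective R P)
    (f : M →ₗ[R] P) (g : P →ₗ[R] M), g ∘ₗ f = a

theorem factorsProj_kernel {K P M : Type u} [AddCommGroup K] [Module R K] [AddCommGroup P] [Module R P]
    [Module.Projective R P] [AddCommGroup M] [Module R M] (f : K →ₗ[R] P) (g : P →ₗ[R] M)
    (hf : Function.Injective f) (hg : Function.Surjective g) (hfg : LinearMap.range f = LinearMap.ker g)
    (a : R) (hM : FactorsProj (a • LinearMap.id : M →ₗ[R] M)) :
    FactorsProj (a • LinearMap.id : K →ₗ[R] K) := by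
  obtain ⟨Q, _, _, _, f', g', hfac⟩ := hM
  obtain ⟨h, hh⟩ := Module.projective_lifting_property g g' hg
  let φ : P →ₗ[R] P := a • LinearMap.id - h ∘ₗ f' ∘ₗ g
  have hφ : ∀ x, φ x ∈ LinearMap.range f := fun x => by
    rw [hfg, LinearMap.mem_ker]
    have h1 := LinearMap.congr_fun hfac (g x)
    simp only [φ, LinearMap.sub_apply, LinearMap.smul_apply, LinearMap.id_apply, LinearMap.comp_apply, map_sub, map_smul] at h1 ⊢
    rw [← LinearMap.comp_apply g h, hh, h1, sub_self]
  let t : P →ₗ[R] K := (LinearEquiv.ofInjective f hf).symm.toLinearMap ∘ₗ LinearMap.codRestrict _ φ hφ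
  refine ⟨P, inferInstance, inferInstance, inferInstance, f, t, LinearMap.ext fun x => hf ?_⟩
  show f ((LinearEquiv.ofInjective f hf).symm _) = _
  rw [← LinearEquiv.ofInjective_apply (h := hf), LinearEquiv.apply_symm_apply]
  have : g (f x) = 0 := LinearMap.mem_ker.1 (hfg ▸ LinearMap.mem_range_self f x)
  simp [φ, this]

theorem factorsProj_dual {M : Type u} [AddCommGroup M] [Module R M] [Module.Finite R M]
    (a : R) (hM : FactorsProj (a • LinearMap.id : M →ₗ[R] M)) :
    FactorsProj (a • LinearMap.id : Module.Dual R M →ₗ[R] Module.Dual R M) := by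
  classical
  obtain ⟨P, _, _, _, f, g, hfac⟩ := hM
  obtain ⟨s, hs⟩ := Module.projective_def.1 ‹Module.Projective R P›
  have hfg : (LinearMap.range (s ∘ₗ f)).FG := by
    rw [LinearMap.range_eq_map]
    exact Module.Finite.fg_top.map _
  obtain ⟨G, hG⟩ := hfg
  let T : Finset P := G.biUnion fun x => x.support
  have hsupp : ∀ x, s (f x) ∈ Finsupp.supported R R (T : Set P) := fun x => by
    have hx : s (f x) ∈ Submodule.span R (G : Set (P →₀ R)) := hG ▸ LinearMap.mem_range_self (s ∘ₗ f) x
    refine (Submodule.span_le.2 fun y hy => ?_) hx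
    rw [SetLike.mem_coe, Finsupp.mem_supported]
    exact Finset.coe_subset.2 (Finset.subset_biUnion_of_mem (fun x => x.support) hy)
  let e := Finsupp.supportedEquivFinsupp (M := R) (R := R) (T : Set P)
  let f' : M →ₗ[R] ((T : Set P) →₀ R) := e.toLinearMap ∘ₗ LinearMap.codRestrict _ (s ∘ₗ f) hsupp
  let g' : ((T : Set P) →₀ R) →ₗ[R] M :=
    g ∘ₗ Finsupp.linearCombination R id ∘ₗ (Finsupp.supported R R (T : Set P)).subtype ∘ₗ e.symm.toLinearMap
  have hfac' : g' ∘ₗ f' = a • LinearMap.id := LinearMap.ext fun x => by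
    simp only [g', f', LinearMap.comp_apply, LinearEquiv.coe_coe, LinearEquiv.symm_apply_apply]
    show g (Finsupp.linearCombination R id (s (f x))) = _
    rw [hs (f x)]
    exact LinearMap.congr_fun hfac x
  refine ⟨Module.Dual R ((T : Set P) →₀ R), inferInstance, inferInstance, inferInstance,
    g'.dualMap, f'.dualMap, LinearMap.ext fun φ => LinearMap.ext fun x => ?_⟩
  show φ (g' (f' x)) = _
  rw [← LinearMap.comp_apply g' f', hfac']
  simp

theorem artinRees_baseChange {A B : Type u} [CommRing A] [CommRing B] [Algebra A B] [Module.Flat A B] (I : Ideal A)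
    {M N : Type u} [AddCommGroup M] [Module A M] [AddCommGroup N] [Module A N] (f : M →ₗ[A] N) (n m : ℕ)
    (hf : LinearMap.range f ⊓ (I ^ n • (⊤ : Submodule A N)) ≤ Submodule.map f (I ^ m • (⊤ : Submodule A M))) :
    LinearMap.range (f.baseChange B) ⊓ ((I.map (algebraMap A B)) ^ n • (⊤ : Submodule B (B ⊗[A] N))) ≤
      Submodule.map (f.baseChange B) ((I.map (algebraMap A B)) ^ m • (⊤ : Submodule B (B ⊗[A] M))) := by
  rintro z ⟨⟨w, hw⟩, hz⟩
  let U := I ^ n • (⊤ : Submodule A N)
  let μ := (LinearMap.range f).mkQ.prod U.mkQ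
  have hex : Function.Exact (LinearMap.range f ⊓ U).subtype μ := fun y => by
    constructor
    · intro hy
      exact ⟨⟨y, (Submodule.Quotient.mk_eq_zero _).1 (congrArg Prod.fst hy),
        (Submodule.Quotient.mk_eq_zero _).1 (congrArg Prod.snd hy)⟩, rfl⟩
    · rintro ⟨x, rfl⟩
      exact Prod.ext ((Submodule.Quotient.mk_eq_zero _).2 x.2.1) ((Submodule.Quotient.mk_eq_zero _).2 x.2.2)
  have h1 : (LinearMap.range f).mkQ.lTensor B z = 0 := by
    rw [← hw]
    show (LinearMap.range f).mkQ.lTensor B (f.lTensor B w) = 0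
    rw [← LinearMap.comp_apply, ← LinearMap.lTensor_comp, LinearMap.range_mkQ_comp, LinearMap.lTensor_zero,
      LinearMap.zero_apply]
  have h2 : U.mkQ.lTensor B z = 0 := by
    rw [← Ideal.map_pow] at hz
    refine Submodule.smul_induction_on hz (fun r hr x _ => ?_) fun p q hp hq => by rw [map_add, hp, hq, add_zero]
    show U.mkQ.baseChange B (r • x) = 0
    rw [map_smul]
    induction hr using Submodule.span_induction with
    | mem b hb =>
      obtain ⟨a, ha, rfl⟩ := hb
      rw [algebraMap_smul, ← LinearMap.map_smul_of_tower]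
      induction x using TensorProduct.induction_on with
      | zero => simp
      | tmul c y =>
        rw [← TensorProduct.tmul_smul, LinearMap.baseChange_tmul, Submodule.mkQ_apply,
          (Submodule.Quotient.mk_eq_zero _).2 (Submodule.smul_mem_smul ha Submodule.mem_top), TensorProduct.tmul_zero]
      | add p q hp hq => rw [smul_add, map_add, hp trivial, hq trivial, add_zero]
    | zero => simp
    | add p q _ _ hp hq => rw [add_smul, hp, hq, add_zero]
    | smul c p _ hp => rw [smul_assoc, hp, smul_zero]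
  have h3 : μ.lTensor B z = 0 := by
    refine (TensorProduct.prodRight A A B _ _).injective ?_
    rw [map_zero]
    have : ∀ y, TensorProduct.prodRight A A B _ _ (μ.lTensor B y) =
        ((LinearMap.range f).mkQ.lTensor B y, U.mkQ.lTensor B y) := fun y => by
      induction y using TensorProduct.induction_on with
      | zero => simp only [map_zero]; rfl
      | tmul b x => rfl
      | add p q hp hq => simp only [map_add, hp, hq, Prod.mk_add_mk]
    rw [this, h1, h2, Prod.mk_zero_zero]
  obtain ⟨v, rfl⟩ := (Module.Flat.lTensor_exact B hex z).1 h3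
  clear hw hz h1 h2 h3
  induction v using TensorProduct.induction_on with
  | zero => simp
  | add p q hp hq => rw [map_add]; exact add_mem hp hq
  | tmul b x =>
    obtain ⟨y, hy, hyx⟩ := hf x.2
    refine ⟨b ⊗ₜ y, ?_, by rw [LinearMap.baseChange_tmul, hyx]; rfl⟩
    rw [← Ideal.map_pow]
    refine Submodule.smul_induction_on hy (fun r hr t _ => ?_) fun p q hp hq => ?_
    · rw [TensorProduct.tmul_smul, ← algebraMap_smul B r]
      exact Submodule.smul_mem_smul (Ideal.mem_map_of_mem _ hr) Submodule.mem_top
    · rw [TensorProduct.tmul_add]; exact add_mem hp hq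

theorem finitePresentation_of_surjective_scalars {P Q : Type u} [CommRing P] [CommRing Q] [Algebra P Q]
    (h : Function.Surjective (algebraMap P Q)) (M : Type u) [AddCommGroup M] [Module P M] [Module Q M]
    [IsScalarTower P Q M] [Module.FinitePresentation P M] : Module.FinitePresentation Q M := by
  let e : Q ⊗[P] M →ₗ[Q] M := LinearMap.liftBaseChange Q (LinearMap.id : M →ₗ[P] M)
  have he : Function.Bijective e := by
    refine ⟨fun x y hxy => ?_, fun m => ⟨1 ⊗ₜ m, by simp [e]⟩⟩
    have key : ∀ z : Q ⊗[P] M, z = 1 ⊗ₜ e z := fun z => by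
      induction z using TensorProduct.induction_on with
      | zero => simp
      | tmul q m =>
        obtain ⟨p, rfl⟩ := h q
        simp [e, Algebra.algebraMap_eq_smul_one, TensorProduct.smul_tmul]
      | add a b ha hb => rw [map_add, TensorProduct.tmul_add, ← ha, ← hb]
    rw [key x, key y, hxy]
  exact Module.FinitePresentation.of_equiv (LinearEquiv.ofBijective e he)

theorem finitePresentation_presentation_indep {A : Type u} [CommRing A] [Algebra R A]
    (M : Type u) [AddCommGroup M] [Module A M] {n k : ℕ}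
    (α : MvPolynomial (Fin n) R →ₐ[R] A) (hα : Function.Surjective α)
    (β : MvPolynomial (Fin k) R →ₐ[R] A) (hβ : Function.Surjective β) :
    (@Module.FinitePresentation (MvPolynomial (Fin n) R) M _ _ (Module.compHom M α.toRingHom) →
      @Module.FinitePresentation (MvPolynomial (Fin k) R) M _ _ (Module.compHom M β.toRingHom)) ∧
    (@Module.FinitePresentation (MvPolynomial (Fin n) R) M _ _ (Module.compHom M α.toRingHom) →
        Module.FinitePresentation A M) := by
  letI i1 : Module (MvPolynomial (Fin n) R) M := Module.compHom M α.toRingHom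
  letI i2 : Module (MvPolynomial (Fin k) R) M := Module.compHom M β.toRingHom
  letI aα : Algebra (MvPolynomial (Fin n) R) A := α.toRingHom.toAlgebra
  haveI : IsScalarTower (MvPolynomial (Fin n) R) A M := IsScalarTower.of_algebraMap_smul fun _ _ => rfl
  refine ⟨fun h => ?_, fun h => haveI := h; finitePresentation_of_surjective_scalars (Q := A) hα M⟩
  haveI := h
  choose p hp using fun j => hα (β (MvPolynomial.X j))
  choose q hq using fun i => hβ (α (MvPolynomial.X i))
  let P := MvPolynomial (Fin n ⊕ Fin k) R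
  let γ : P →ₐ[R] A := MvPolynomial.aeval (Sum.elim (fun i => α (MvPolynomial.X i)) fun j => β (MvPolynomial.X j))
  letI i3 : Module P M := Module.compHom M γ.toRingHom
  let ra : P →ₐ[R] MvPolynomial (Fin n) R := MvPolynomial.aeval (Sum.elim MvPolynomial.X p)
  let rb : P →ₐ[R] MvPolynomial (Fin k) R := MvPolynomial.aeval (Sum.elim q MvPolynomial.X)
  have hra : α.comp ra = γ := MvPolynomial.algHom_ext fun i => by cases i <;> simp [ra, γ, hp]
  have hrb : β.comp rb = γ := MvPolynomial.algHom_ext fun i => by cases i <;> simp [rb, γ, hq]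
  have hras : Function.Surjective ra := fun x => ⟨MvPolynomial.rename Sum.inl x, by
    show MvPolynomial.aeval _ _ = x
    rw [MvPolynomial.aeval_rename, Sum.elim_comp_inl, MvPolynomial.aeval_X_left_apply]⟩
  have hrbs : Function.Surjective rb := fun x => ⟨MvPolynomial.rename Sum.inr x, by
    show MvPolynomial.aeval _ _ = x
    rw [MvPolynomial.aeval_rename, Sum.elim_comp_inr, MvPolynomial.aeval_X_left_apply]⟩
  haveI : Module.FinitePresentation P M := by
    letI : Algebra P (MvPolynomial (Fin n) R) := ra.toRingHom.toAlgebra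
    haveI : IsScalarTower P (MvPolynomial (Fin n) R) M := IsScalarTower.of_algebraMap_smul fun x m => by
      show α (ra x) • m = γ x • m
      rw [← AlgHom.comp_apply, hra]
    haveI : Module.FinitePresentation P (MvPolynomial (Fin n) R) := by
      refine Module.finitePresentation_of_surjective (Algebra.linearMap P (MvPolynomial (Fin n) R)) hras ?_
      exact Algebra.FinitePresentation.ker_fG_of_surjective ra hras
    exact Module.FinitePresentation.trans P M (MvPolynomial (Fin n) R)
  letI : Algebra P (MvPolynomial (Fin k) R) := rb.toRingHom.toAlgebra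
  haveI : IsScalarTower P (MvPolynomial (Fin k) R) M := IsScalarTower.of_algebraMap_smul fun x m => by
    show β (rb x) • m = γ x • m
    rw [← AlgHom.comp_apply, hrb]
  exact finitePresentation_of_surjective_scalars (Q := MvPolynomial (Fin k) R) hrbs M

end Groth.Agent.CAlgT1
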