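import Groth.Prelude.Def_CAlgX
import Groth.Prelude.Def_Found
import Groth.Agent.CAlgML.Kaplansky
import Groth.Agent.KrullAkizuki.Basic

/-!
# H1-regular sequences, Kaplansky dévissage, lengths
-/

set_option autoImplicit false
universe u

open MvPolynomial CAlgX

namespace Groth.Agent.CAlgT1

section H1

variable {R : Type u} [CommRing R] {c : ℕ} (f : Fin c → R)

noncomputable def syzIdeal : Ideal (MvPolynomial (Fin c) R) :=
  Ideal.span {q | ∃ i j : Fin c, q = C (f j) * X i - C (f i) * X j}

theorem mem_syzIdeal_of_eval_eq_zero (hf : IsH1Regular f) :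
    ∀ (n : ℕ) (P : MvPolynomial (Fin c) R), P.IsHomogeneous n → eval f P = 0 → P ∈ syzIdeal f := by
  classical
  intro n
  induction n with
  | zero =>
    intro P hP h
    have hd := totalDegree_eq_zero_iff_eq_C.1 (Nat.le_zero.1 (IsHomogeneous.totalDegree_le hP))
    rw [hd, eval_C] at h
    rw [hd, h, map_zero]; exact zero_mem _
  | succ n ih =>
    intro P hP h
    have hex : ∀ d ∈ P.support, ∃ i, d i ≠ 0 := by
      intro d hd
      by_contra! hne
      have := hP (mem_support_iff.1 hd)
      rw [show d = 0 from Finsupp.ext hne, map_zero] at this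
      omega
    obtain ⟨D₀, hD₀, hPD₀⟩ : ∃ D : Fin c → MvPolynomial (Fin c) R,
        (∀ i, (D i).IsHomogeneous n) ∧ ∑ i, X i * D i = P := by
      refine ⟨fun i => ∑ d ∈ P.support.attach.filter (fun d => (hex d.1 d.2).choose = i),
        monomial (d.1 - Finsupp.single i 1) (P.coeff d.1), fun i => IsHomogeneous.sum _ _ _ fun d hd => ?_, ?_⟩
      · have hi := (hex d.1 d.2).choose_spec
        rw [(Finset.mem_filter.1 hd).2] at hi
        refine isHomogeneous_monomial _ ?_
        have h1 : d.1 = (d.1 - Finsupp.single i 1) + Finsupp.single i 1 := by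
          refine (tsub_add_cancel_of_le ?_).symm
          intro j
          by_cases hj : i = j
          · subst hj; rw [Finsupp.single_eq_same]; omega
          · rw [Finsupp.single_eq_of_ne (Ne.symm hj)]; exact Nat.zero_le _
        have h2 := hP (mem_support_iff.1 d.2)
        rw [Finsupp.weight_apply, h1] at h2
        rw [Finsupp.degree_eq_weight_one, Finsupp.weight_apply] at *
        rw [Finsupp.sum_add_index' (by simp) (by simp [add_smul])] at h2
        simp at h2
        simpa using h2
      · conv_rhs => rw [as_sum P, ← Finset.sum_attach]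
        rw [← Finset.sum_fiberwise P.support.attach (fun d => (hex d.1 d.2).choose)]
        refine Finset.sum_congr rfl fun i _ => ?_
        rw [Finset.mul_sum]
        refine Finset.sum_congr rfl fun d hd => ?_
        have hi := (hex d.1 d.2).choose_spec
        rw [(Finset.mem_filter.1 hd).2] at hi
        rw [X, monomial_mul, one_mul, add_tsub_cancel_of_le]
        intro j
        by_cases hj : i = j
        · subst hj; rw [Finsupp.single_eq_same]; omega
        · rw [Finsupp.single_eq_of_ne (Ne.symm hj)]; exact Nat.zero_le _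
    have hQ : ∑ i, C (f i) * D₀ i ∈ syzIdeal f := by
      refine ih _ (IsHomogeneous.sum _ _ _ fun i _ => (hD₀ i).C_mul _) ?_
      rw [← h, ← hPD₀]; simp
    have hB : ∀ Q ∈ syzIdeal f, ∃ B : Fin c → MvPolynomial (Fin c) R,
        ∑ j, C (f j) * B j = Q ∧ ∑ j, X j * B j = 0 := by
      intro Q hQ
      induction hQ using Submodule.span_induction with
      | mem q hq =>
        obtain ⟨i, j, rfl⟩ := hq
        refine ⟨Pi.single j (X i) - Pi.single i (X j), ?_, ?_⟩ <;>
          simp [mul_sub, Finset.sum_sub_distrib, Pi.single_apply, mul_ite, Finset.sum_ite_eq', mul_comm (X i) (X j)]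
      | zero => exact ⟨0, by simp⟩
      | add a b _ _ ha hb =>
        obtain ⟨B, h1, h2⟩ := ha; obtain ⟨B', h1', h2'⟩ := hb
        exact ⟨B + B', by simp [mul_add, Finset.sum_add_distrib, h1, h1'],
          by simp [mul_add, Finset.sum_add_distrib, h2, h2']⟩
      | smul r a _ ha =>
        obtain ⟨B, h1, h2⟩ := ha
        exact ⟨fun j => r * B j, by simp_rw [smul_eq_mul, ← h1, Finset.mul_sum, mul_left_comm],
          by simp_rw [mul_left_comm _ r, ← Finset.mul_sum, h2, mul_zero]⟩
    obtain ⟨B, hB1, hB2⟩ := hB _ hQ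
    have hD : ∑ j, C (f j) * (D₀ j - B j) = 0 := by
      simp [mul_sub, Finset.sum_sub_distrib, hB1]
    have hP' : P = ∑ j, X j * (D₀ j - B j) := by
      simp [mul_sub, Finset.sum_sub_distrib, hB2, hPD₀]
    have key : ∀ D : Fin c → MvPolynomial (Fin c) R, ∑ j, C (f j) * D j = 0 → ∑ j, X j * D j ∈ syzIdeal f := by
      intro D hD
      let S : Finset (Fin c →₀ ℕ) := Finset.univ.biUnion fun j => (D j).support
      have hS : ∀ j, D j = ∑ d ∈ S, monomial d ((D j).coeff d) := fun j => by
        conv_lhs => rw [as_sum (D j)]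
        exact Finset.sum_subset (Finset.subset_biUnion_of_mem (fun j => (D j).support) (Finset.mem_univ j))
          fun d _ hd => by rw [notMem_support_iff.1 hd, monomial_zero]
      rw [Finset.sum_congr rfl fun j _ => by rw [hS j, Finset.mul_sum], Finset.sum_comm]
      refine Ideal.sum_mem _ fun d _ => ?_
      have hrel : ∑ j, (D j).coeff d * f j = 0 := by
        have := congrArg (coeff d) hD
        rw [coeff_sum, coeff_zero] at this
        simp only [coeff_C_mul] at this
        rw [← this]
        exact Finset.sum_congr rfl fun j _ => mul_comm _ _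
      have hmem := hf (fun j => (D j).coeff d) hrel
      have : ∀ v ∈ Submodule.span R {v : Fin c → R | ∃ i j : Fin c, v = Pi.single i (f j) - Pi.single j (f i)},
          ∑ j, X j * C (v j) ∈ syzIdeal f := by
        intro v hv
        induction hv using Submodule.span_induction with
        | mem v hv =>
          obtain ⟨i, j, rfl⟩ := hv
          have : ∑ k, X k * C ((Pi.single i (f j) - Pi.single j (f i) : Fin c → R) k) = C (f j) * X i - C (f i) * X j := by
            simp [mul_sub, Finset.sum_sub_distrib, Pi.single_apply, apply_ite C, mul_ite, Finset.sum_ite_eq', mul_comm]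
          rw [this]
          exact Ideal.subset_span ⟨i, j, rfl⟩
        | zero => simp
        | add a b _ _ ha hb => simpa [mul_add, Finset.sum_add_distrib] using add_mem ha hb
        | smul r a _ ha =>
          have := (syzIdeal f).mul_mem_left (C r) ha
          simpa [Finset.mul_sum, mul_left_comm] using this
      have := (syzIdeal f).mul_mem_right (monomial d 1) (this _ hmem)
      rw [Finset.sum_mul] at this
      refine (congrArg (· ∈ syzIdeal f) (Finset.sum_congr rfl fun j _ => ?_)).mp this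
      rw [mul_assoc, C_mul_monomial, mul_one]
    exact hP' ▸ key _ hD

theorem isQuasiRegular_of_isH1Regular (hf : IsH1Regular f) : IsQuasiRegular f := by
  classical
  set J := Ideal.span (Set.range f)
  have hpow : ∀ (n : ℕ), ∀ x ∈ J ^ n, ∃ Q : MvPolynomial (Fin c) R, Q.IsHomogeneous n ∧ eval f Q = x := by
    intro n
    induction n with
    | zero => exact fun x _ => ⟨C x, isHomogeneous_C _ _, eval_C _⟩
    | succ n ih =>
      intro x hx
      rw [pow_succ] at hx
      refine Submodule.mul_induction_on hx (fun y hy z hz => ?_) (fun a b ha hb => ?_)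
      · obtain ⟨Q, hQ, rfl⟩ := ih y hy
        obtain ⟨r, rfl⟩ := Ideal.mem_span_range_iff_exists_fun.1 hz
        exact ⟨Q * ∑ i, C (r i) * X i,
          hQ.mul (IsHomogeneous.sum _ _ _ fun i _ => (isHomogeneous_X R i).C_mul _), by simp [eval_sum]⟩
      · obtain ⟨Q, hQ, rfl⟩ := ha; obtain ⟨Q', hQ', rfl⟩ := hb
        exact ⟨Q + Q', hQ.add hQ', map_add _ _ _⟩
  intro n P hP hPn d
  rw [pow_succ] at hPn
  obtain ⟨Q, hQ, hQJ, hQe⟩ : ∃ Q : MvPolynomial (Fin c) R, Q.IsHomogeneous n ∧ (∀ d, Q.coeff d ∈ J) ∧ eval f Q = eval f P := by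
    refine Submodule.mul_induction_on hPn (fun y hy z hz => ?_) (fun a b ha hb => ?_)
    · obtain ⟨Q, hQ, rfl⟩ := hpow n y hy
      exact ⟨C z * Q, hQ.C_mul _, fun d => by rw [coeff_C_mul]; exact J.mul_mem_right _ hz,
        by simp [mul_comm]⟩
    · obtain ⟨Q, h1, h2, rfl⟩ := ha; obtain ⟨Q', h1', h2', rfl⟩ := hb
      exact ⟨Q + Q', h1.add h1', fun d => by rw [coeff_add]; exact add_mem (h2 d) (h2' d), map_add _ _ _⟩
  have hmem := mem_syzIdeal_of_eval_eq_zero f hf n (P - Q) (hP.sub hQ) (by rw [map_sub, hQe, sub_self])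
  have hle : syzIdeal f ≤ J.map (C : R →+* MvPolynomial (Fin c) R) := by
    refine Ideal.span_le.2 ?_
    rintro _ ⟨i, j, rfl⟩
    exact sub_mem (Ideal.mul_mem_right _ _ (Ideal.mem_map_of_mem _ (Ideal.subset_span ⟨j, rfl⟩)))
      (Ideal.mul_mem_right _ _ (Ideal.mem_map_of_mem _ (Ideal.subset_span ⟨i, rfl⟩)))
  have := MvPolynomial.mem_map_C_iff.1 (hle hmem) d
  rw [coeff_sub] at this
  simpa using add_mem this (hQJ d)

theorem isH1Regular_append {A : Type u} [CommRing A] {n m : ℕ} (f : Fin n → A)
    (g : Fin m → A) (hf : IsH1Regular f)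
    (hg : IsH1Regular (fun j => Ideal.Quotient.mk (Ideal.span (Set.range f)) (g j))) :
    IsH1Regular (Fin.append f g) := by
  classical
  intro v hv
  set h := Fin.append f g
  let T := Submodule.span A {v : Fin (n + m) → A | ∃ i j, v = Pi.single i (h j) - Pi.single j (h i)}
  show v ∈ T
  have hgen : ∀ i j, (Pi.single i (h j) - Pi.single j (h i) : Fin (n + m) → A) ∈ T :=
    fun i j => Submodule.subset_span ⟨i, j, rfl⟩
  set J := Ideal.span (Set.range f)
  rw [Fin.sum_univ_add] at hv
  simp only [h, Fin.append_left, Fin.append_right] at hv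
  have hb : ∑ j, Ideal.Quotient.mk J (v (Fin.natAdd n j)) * Ideal.Quotient.mk J (g j) = 0 := by
    have h1 : Ideal.Quotient.mk J (∑ i, v (Fin.castAdd m i) * f i) = 0 :=
      Ideal.Quotient.eq_zero_iff_mem.2 (Ideal.sum_mem _ fun i _ => J.mul_mem_left _ (Ideal.subset_span ⟨i, rfl⟩))
    have h2 := congrArg (Ideal.Quotient.mk J) hv
    rw [map_add, h1, zero_add, map_zero, map_sum] at h2
    simpa using h2
  have hmem := hg _ hb
  have key : ∀ b' ∈ Submodule.span (A ⧸ J) {w : Fin m → A ⧸ J | ∃ i j, w = Pi.single i (Ideal.Quotient.mk J (g j)) - Pi.single j (Ideal.Quotient.mk J (g i))},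
      ∃ t ∈ T, (∀ i, t (Fin.castAdd m i) = 0) ∧ (∑ j, t (Fin.natAdd n j) * g j = 0) ∧
        ∀ j, Ideal.Quotient.mk J (t (Fin.natAdd n j)) = b' j := by
    intro b' hb'
    induction hb' using Submodule.span_induction with
    | mem w hw =>
      obtain ⟨i, j, rfl⟩ := hw
      refine ⟨_, hgen (Fin.natAdd n i) (Fin.natAdd n j), fun k => ?_, ?_, fun k => ?_⟩
      · have h1 : ∀ l : Fin m, Fin.castAdd m k ≠ Fin.natAdd n l := fun l e => by
          have := congrArg Fin.val e; simp at this; omega
        simp [Pi.single_apply, h1]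
      · simp only [h, Fin.append_right, Pi.sub_apply, Pi.single_apply, (Fin.natAdd_injective m n).eq_iff,
          sub_mul, Finset.sum_sub_distrib, ite_mul, zero_mul, Finset.sum_ite_eq', Finset.mem_univ, if_true]
        ring
      · simp [h, Pi.single_apply, Fin.ext_iff, apply_ite (Ideal.Quotient.mk J), map_sub]
    | zero => exact ⟨0, zero_mem _, by simp, by simp, by simp⟩
    | add a b _ _ ha hb =>
      obtain ⟨t, h1, h2, h3, h4⟩ := ha; obtain ⟨t', h1', h2', h3', h4'⟩ := hb
      exact ⟨t + t', add_mem h1 h1', fun i => by simp [h2, h2'],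
        by simp [add_mul, Finset.sum_add_distrib, h3, h3'], fun j => by simp [h4, h4']⟩
    | smul r a _ ha =>
      obtain ⟨t, h1, h2, h3, h4⟩ := ha
      obtain ⟨r, rfl⟩ := Ideal.Quotient.mk_surjective r
      exact ⟨r • t, T.smul_mem r h1, fun i => by simp [h2],
        by simp [mul_assoc, ← Finset.mul_sum, h3], fun j => by simp [h4]⟩
  obtain ⟨t, htT, htl, htg, htr⟩ := key _ hmem
  have hex : ∀ j, ∃ cj : Fin n → A, ∑ i, cj i * f i = v (Fin.natAdd n j) - t (Fin.natAdd n j) := fun j =>
    Ideal.mem_span_range_iff_exists_fun.1 (Ideal.Quotient.eq.1 (htr j).symm)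
  choose cc hcc using hex
  let s : Fin (n + m) → A := ∑ j, ∑ i, cc j i • (Pi.single (Fin.natAdd n j) (h (Fin.castAdd m i)) -
    Pi.single (Fin.castAdd m i) (h (Fin.natAdd n j)))
  have hsT : s ∈ T := Submodule.sum_mem _ fun j _ => Submodule.sum_mem _ fun i _ => T.smul_mem _ (hgen _ _)
  have hsr : ∀ j, s (Fin.natAdd n j) = v (Fin.natAdd n j) - t (Fin.natAdd n j) := by
    intro j
    have h1 : ∀ (i : Fin n) (l : Fin m), Fin.natAdd n l ≠ Fin.castAdd m i := fun i l e => by
      have := congrArg Fin.val e; simp at this; omega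
    rw [← hcc]
    simp [s, h, Finset.sum_apply, Pi.single_apply, h1, Fin.natAdd_inj]
  have hsl : ∀ i, s (Fin.castAdd m i) = -∑ j, cc j i * g j := by
    intro i
    have h1 : ∀ (i : Fin n) (l : Fin m), Fin.castAdd m i ≠ Fin.natAdd n l := fun i l e => by
      have := congrArg Fin.val e; simp at this; omega
    simp [s, h, Finset.sum_apply, Pi.single_apply, h1, Fin.castAdd_inj]
  let a : Fin n → A := fun i => v (Fin.castAdd m i) - s (Fin.castAdd m i)
  have ha : ∑ i, a i * f i = 0 := by
    have h1 : ∑ j, v (Fin.natAdd n j) * g j = ∑ i, (∑ j, cc j i * g j) * f i := by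
      calc ∑ j, v (Fin.natAdd n j) * g j = ∑ j, (v (Fin.natAdd n j) - t (Fin.natAdd n j)) * g j := by
            simp [sub_mul, Finset.sum_sub_distrib, htg]
        _ = ∑ j, ∑ i, (cc j i * g j) * f i := Finset.sum_congr rfl fun j _ => by
            rw [← hcc, Finset.sum_mul]; exact Finset.sum_congr rfl fun i _ => by ring
        _ = _ := by rw [Finset.sum_comm]; simp [Finset.sum_mul]
    simp only [a, hsl, sub_neg_eq_add, add_mul, Finset.sum_add_distrib, ← h1]
    exact hv
  let L : (Fin n → A) →ₗ[A] (Fin (n + m) → A) :=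
    { toFun := fun w => Fin.append w 0
      map_add' := fun w w' => funext fun k => by induction k using Fin.addCases <;> simp
      map_smul' := fun r w => funext fun k => by induction k using Fin.addCases <;> simp }
  have hL : ∀ w ∈ Submodule.span A {w : Fin n → A | ∃ i j, w = Pi.single i (f j) - Pi.single j (f i)}, L w ∈ T := by
    intro w hw
    induction hw using Submodule.span_induction with
    | mem w hw =>
      obtain ⟨i, j, rfl⟩ := hw
      convert hgen (Fin.castAdd m i) (Fin.castAdd m j) using 1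
      funext k
      induction k using Fin.addCases with
      | left k => simp [L, h, Pi.single_apply, Fin.castAdd_inj]
      | right k =>
        have h1 : ∀ (i : Fin n), Fin.natAdd n k ≠ Fin.castAdd m i := fun i e => by
          have := congrArg Fin.val e; simp at this; omega
        simp [L, h, Pi.single_apply, h1]
    | zero => simp
    | add a b _ _ ha hb => simpa using add_mem ha hb
    | smul r a _ ha => simpa using T.smul_mem r ha
  have : v = L a + (s + t) := by
    funext k
    induction k using Fin.addCases with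
    | left k => simp [L, a, htl]
    | right k => simp [L, hsr]
  rw [this]
  exact add_mem (hL a (hf a ha)) (add_mem hsT htT)

end H1

section Devissage

variable {R : Type u} [CommRing R] {M : Type u} [AddCommGroup M] [Module R M]
  {S : Type u} [LinearOrder S] [WellFoundedLT S] (Mf : S → Submodule R M)

theorem isInternal_of_devissage (hmono : Monotone Mf)
    (hlim : ∀ s : S, Order.IsSuccPrelimit s → Mf s = ⨆ t : {t : S // t < s}, Mf t.1)
    (htop : (⨆ s, Mf s) = ⊤) (C : {p : S × S // p.1 ⋖ p.2} → Submodule R M)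
    (hC : ∀ p, Mf p.1.1 ⊓ C p = ⊥ ∧ Mf p.1.1 ⊔ C p = Mf p.1.2) [DecidableEq {p : S × S // p.1 ⋖ p.2}] :
    DirectSum.IsInternal C := by
  classical
  rw [DirectSum.isInternal_submodule_iff_iSupIndep_and_iSup_eq_top]
  have hcov : ∀ s, Mf s ≤ ⨆ p, C p := by
    intro s
    induction s using WellFoundedLT.induction with
    | ind s ih =>
      by_cases hs : Order.IsSuccPrelimit s
      · rw [hlim s hs]; exact iSup_le fun t => ih t.1 t.2
      · obtain ⟨r, hr⟩ : ∃ r, r ⋖ s := by
          by_contra! h; exact hs h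
        rw [← (hC ⟨(r, s), hr⟩).2]
        exact sup_le (ih r hr.lt) (le_iSup C _)
  refine ⟨?_, top_unique (htop ▸ iSup_le hcov)⟩
  rw [iSupIndep_iff_finset_sum_eq_zero_imp_eq_zero]
  intro t v hv hsum
  induction t using Finset.induction_on_max_value (fun p : {p : S × S // p.1 ⋖ p.2} => p.1.2) with
  | empty => simp
  | insert p t hp hmax ih =>
    rw [Finset.sum_insert hp] at hsum
    have h1 : ∑ q ∈ t, v q ∈ Mf p.1.1 := by
      refine Submodule.sum_mem _ fun q hq => ?_
      have hne : q.1.2 ≠ p.1.2 := fun e => hp (by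
        have : q.1.1 = p.1.1 := CovBy.unique_left q.2 (e ▸ p.2)
        have hqp : q = p := Subtype.ext (Prod.ext this e)
        exact hqp ▸ hq)
      have hlt : q.1.2 ≤ p.1.1 := p.2.le_of_lt ((hmax q hq).lt_of_ne hne)
      exact hmono hlt (by rw [← (hC q).2]; exact Submodule.mem_sup_right (hv q (Finset.mem_insert_of_mem hq)))
    have hvp : v p ∈ Mf p.1.1 ⊓ C p := by
      refine ⟨?_, hv p (Finset.mem_insert_self _ _)⟩
      rw [eq_neg_of_add_eq_zero_left hsum]; exact neg_mem h1
    rw [(hC p).1, Submodule.mem_bot] at hvp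
    intro q hq
    rcases Finset.mem_insert.1 hq with rfl | hq
    · exact hvp
    · exact ih (fun r hr => hv r (Finset.mem_insert_of_mem hr)) (by rwa [hvp, zero_add] at hsum) q hq

noncomputable def complementEquiv {A B C : Submodule R M} (h1 : A ⊓ C = ⊥) (h2 : A ⊔ C = B) :
    C ≃ₗ[R] (↥B ⧸ Submodule.comap B.subtype A) :=
  LinearEquiv.ofBijective ((Submodule.comap B.subtype A).mkQ ∘ₗ Submodule.inclusion (h2 ▸ le_sup_right : C ≤ B))
    ⟨by
      rw [injective_iff_map_eq_zero]
      intro x hx
      have h : (x : M) ∈ A ⊓ C := ⟨(Submodule.Quotient.mk_eq_zero (Submodule.comap B.subtype A)).1 hx, x.2⟩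
      rw [h1, Submodule.mem_bot] at h
      exact Subtype.ext h,
    fun y => by
      obtain ⟨⟨y, hy⟩, rfl⟩ := Submodule.Quotient.mk_surjective _ y
      rw [← h2] at hy
      obtain ⟨a, ha, c, hc, rfl⟩ := Submodule.mem_sup.1 hy
      refine ⟨⟨c, hc⟩, (Submodule.Quotient.eq _).2 ?_⟩
      show c - (a + c) ∈ A
      simpa using A.neg_mem ha⟩

theorem nonempty_equiv_of_devissage (hmono : Monotone Mf)
    (hlim : ∀ s : S, Order.IsSuccPrelimit s → Mf s = ⨆ t : {t : S // t < s}, Mf t.1)
    (htop : (⨆ s, Mf s) = ⊤)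
    (hC : ∀ s t : S, s ⋖ t → ∃ C : Submodule R M, Mf s ⊓ C = ⊥ ∧ Mf s ⊔ C = Mf t) :
    Nonempty (M ≃ₗ[R] DirectSum {p : S × S // p.1 ⋖ p.2}
        fun p => ↥(Mf p.1.2) ⧸ Submodule.comap (Mf p.1.2).subtype (Mf p.1.1)) := by
  classical
  choose C h1 h2 using fun p : {p : S × S // p.1 ⋖ p.2} => hC p.1.1 p.1.2 p.2
  have hI := isInternal_of_devissage Mf hmono hlim htop C fun p => ⟨h1 p, h2 p⟩
  exact ⟨(LinearEquiv.ofBijective (DirectSum.coeLinearMap C) hI).symm.trans
    (DFinsupp.mapRange.linearEquiv fun p => complementEquiv (h1 p) (h2 p))⟩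

theorem isCountablyGenerated_of_surjective {P Q : Type u} [AddCommGroup P] [Module R P] [AddCommGroup Q]
    [Module R Q] (f : P →ₗ[R] Q) (hf : Function.Surjective f) (h : CAlg.IsCountablyGenerated R P) :
    CAlg.IsCountablyGenerated R Q := by
  obtain ⟨s, hs, hspan⟩ := h
  refine ⟨f '' s, hs.image f, ?_⟩
  rw [Submodule.span_image, hspan, Submodule.map_top, LinearMap.range_eq_top.2 hf]

end Devissage

open Classical in
theorem kaplansky_devissage_iff (R : Type u) [CommRing R] (M : Type u) [AddCommGroup M] [Module R M] :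
    (∃ (ι : Type u) (N : ι → Submodule R M), DirectSum.IsInternal N ∧ ∀ i, CAlg.IsCountablyGenerated R (N i)) ↔
      ∃ (S : Type u) (_ : LinearOrder S) (_ : WellFoundedLT S) (Mf : S → Submodule R M), Monotone Mf ∧
        (∀ s : S, Order.IsSuccPrelimit s → Mf s = ⨆ t : {t : S // t < s}, Mf t.1) ∧
        (⨆ s, Mf s) = ⊤ ∧
        (∀ s t : S, s ⋖ t → ∃ C : Submodule R M, Mf s ⊓ C = ⊥ ∧ Mf s ⊔ C = Mf t ∧
          CAlg.IsCountablyGenerated R (↥(Mf t) ⧸ Submodule.comap (Mf t).subtype (Mf s))) := by
  classical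
  constructor
  · rintro ⟨ι, N, hN, hcg⟩
    obtain ⟨hind, hsup⟩ := (DirectSum.isInternal_submodule_iff_iSupIndep_and_iSup_eq_top N).1 hN
    obtain ⟨_lo, _wf⟩ : ∃ _ : LinearOrder ι, WellFoundedLT ι := ⟨linearOrderOfSTO WellOrderingRel, ⟨WellOrderingRel.isWellOrder.wf⟩⟩
    let Mf : WithTop ι → Submodule R M := fun s => ⨆ i : {i : ι // (i : WithTop ι) < s}, N i.1
    have hle : ∀ {i : ι} {s : WithTop ι}, (i : WithTop ι) < s → N i ≤ Mf s := fun {i s} h =>
      le_iSup (fun i : {i : ι // (i : WithTop ι) < s} => N i.1) ⟨i, h⟩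
    have hmono : Monotone Mf := fun s t h => iSup_le fun i => hle (i.2.trans_le h)
    refine ⟨WithTop ι, inferInstance, inferInstance, Mf, hmono, fun s hs => ?_, ?_, fun s t hst => ?_⟩
    · refine le_antisymm (iSup_le fun i => ?_) (iSup_le fun t => hmono t.2.le)
      obtain ⟨t, h1, h2⟩ : ∃ t, (i.1 : WithTop ι) < t ∧ t < s := by
        have hni := hs (i.1 : WithTop ι)
        rw [not_covBy_iff i.2] at hni
        exact hni
      exact le_iSup_of_le ⟨t, h2⟩ (hle h1)
    · exact top_unique (hsup ▸ iSup_le fun i => (hle (WithTop.coe_lt_top i)).trans (le_iSup Mf ⊤))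
    · obtain ⟨i, rfl⟩ := WithTop.ne_top_iff_exists.1 (ne_top_of_lt hst.lt)
      have heq : Mf i ⊔ N i = Mf t := by
        refine le_antisymm (sup_le (hmono hst.le) (hle hst.lt)) (iSup_le fun j => ?_)
        rcases (hst.le_of_lt j.2).lt_or_eq with h | h
        · exact le_sup_of_le_left (hle h)
        · rw [WithTop.coe_inj.1 h]; exact le_sup_right
      have hdis : Mf i ⊓ N i = ⊥ := by
        have h1 : Mf i ≤ ⨆ (j) (_ : j ≠ i), N j := iSup_le fun j =>
          le_iSup₂_of_le (f := fun j (_ : j ≠ i) => N j) j.1 (WithTop.coe_lt_coe.1 j.2).ne le_rfl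
        exact ((hind i).symm.mono_left h1).eq_bot
      exact ⟨N i, hdis, heq, isCountablyGenerated_of_surjective (complementEquiv hdis heq).toLinearMap
        (complementEquiv hdis heq).surjective (hcg i)⟩
  · rintro ⟨S, _, _, Mf, hmono, hlim, htop, hC⟩
    choose C h1 h2 h3 using fun p : {p : S × S // p.1 ⋖ p.2} => hC p.1.1 p.1.2 p.2
    refine ⟨_, C, by convert isInternal_of_devissage Mf hmono hlim htop C (fun p => ⟨h1 p, h2 p⟩), fun p => ?_⟩
    exact isCountablyGenerated_of_surjective (complementEquiv (h1 p) (h2 p)).symm.toLinearMap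
      (complementEquiv (h1 p) (h2 p)).symm.surjective (h3 p)

section Adapted

open TensorProduct

theorem exists_adapted (R S : Type u) [CommRing R] [CommRing S] [Algebra R S]
    (M : Type u) [AddCommGroup M] [Module R M] {I : Type u} [DecidableEq I] (Q : I → Submodule S (S ⊗[R] M))
    (hQ : DirectSum.IsInternal Q) (hQc : ∀ i, ∃ t : Set (S ⊗[R] M), t.Countable ∧ Submodule.span S t = Q i)
    (N : Submodule R M) (hN : ∃ s : Set M, s.Countable ∧ Submodule.span R s = N) :
    ∃ (N' : Submodule R M) (I' : Set I), N ≤ N' ∧ (∃ s : Set M, s.Countable ∧ Submodule.span R s = N') ∧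
      Submodule.span S ((TensorProduct.mk R S M 1) '' (N' : Set M)) = ⨆ i ∈ I', Q i := by
  classical
  obtain ⟨s, hs, rfl⟩ := hN
  choose t htc ht using hQc
  choose gen hgen using fun x : S ⊗[R] M => TensorProduct.exists_finset x
  let G : I → Set M := fun i => ⋃ x ∈ t i, Prod.snd '' (gen x : Set (S × M))
  have hG : ∀ i, (G i).Countable := fun i => (htc i).biUnion fun x _ => (Finset.countable_toSet _).image _
  have hQtop := hQ.submodule_iSup_eq_top
  choose supp hsupp using fun m : M => Submodule.exists_finset_of_mem_iSup Q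
    (hQtop ▸ Submodule.mem_top : (1 : S) ⊗ₜ[R] m ∈ ⨆ i, Q i)
  choose cl hclc hcli hcl using fun i : I => CAlgML.exists_countable_closed
    (fun j => ⋃ m ∈ G j, (supp m : Set I)) (fun j => (hG j).biUnion fun m _ => Finset.countable_toSet _) i
  let I' : Set I := ⋃ m ∈ s, ⋃ i ∈ supp m, cl i
  have hI' : I'.Countable := hs.biUnion fun m _ => (Finset.countable_toSet _).biUnion fun i _ => hclc i
  let T : Set M := s ∪ ⋃ i ∈ I', G i
  have hT : ∀ m ∈ T, (supp m : Set I) ⊆ I' := by
    rintro m (hm | hm)
    · exact fun i hi => Set.mem_biUnion hm (Set.mem_biUnion hi (hcli i))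
    · obtain ⟨i, hi, hmi⟩ := Set.mem_iUnion₂.1 hm
      obtain ⟨m₀, hm₀, hi⟩ := Set.mem_iUnion₂.1 hi
      obtain ⟨i₀, hi₀, hi⟩ := Set.mem_iUnion₂.1 hi
      exact fun j hj => Set.mem_biUnion hm₀ (Set.mem_biUnion hi₀ (hcl i₀ i hi (Set.mem_biUnion hmi hj)))
  refine ⟨Submodule.span R T, I', Submodule.span_mono Set.subset_union_left,
    ⟨T, hs.union (hI'.biUnion fun i _ => hG i), rfl⟩, le_antisymm ?_ ?_⟩
  · rw [Submodule.span_le]
    rintro _ ⟨m, hm, rfl⟩
    have : Submodule.span R T ≤ ((⨆ i ∈ I', Q i).restrictScalars R).comap (TensorProduct.mk R S M 1) := by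
      refine Submodule.span_le.2 fun m hm => ?_
      exact iSup₂_le (fun i hi => le_iSup₂_of_le (f := fun i (_ : i ∈ I') => Q i) i (hT m hm hi) le_rfl) (hsupp m)
    exact this hm
  · refine iSup₂_le fun i hi => ?_
    rw [← ht i, Submodule.span_le]
    intro x hx
    rw [SetLike.mem_coe, hgen x]
    refine Submodule.sum_mem _ fun p hp => ?_
    rw [show p.1 ⊗ₜ[R] p.2 = p.1 • ((1 : S) ⊗ₜ[R] p.2) by rw [TensorProduct.smul_tmul', smul_eq_mul, mul_one]]
    exact Submodule.smul_mem _ _ (Submodule.subset_span ⟨p.2, Submodule.subset_span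
      (Or.inr (Set.mem_biUnion hi (Set.mem_biUnion hx ⟨p, hp, rfl⟩))), rfl⟩)

end Adapted

section Length

open Pointwise

variable {B : Type u} [CommRing B] [IsDomain B] [IsNoetherianRing B] [Ring.KrullDimLE 1 B]
  {K : Type u} [Field K] [Algebra B K] [IsFractionRing B K]

theorem length_quotient_le_mul {a : B} (ha : a ≠ 0) : ∀ (r : ℕ) {M : Type u} [AddCommGroup M]
    [Module B M] (f : M →ₗ[B] (Fin r → K)), Function.Injective f →
      Module.length B (M ⧸ (a • (⊤ : Submodule B M))) ≤ r * Ring.ord B a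
  | 0, M, _, _, f, hf => by
    haveI : Subsingleton M := hf.subsingleton
    simp [Module.length_eq_zero]
  | r + 1, M, _, _, f, hf => by
    let g : M →ₗ[B] K := (LinearMap.proj 0).comp f
    let M' := LinearMap.ker g
    let f' : M' →ₗ[B] (Fin r → K) :=
      ((LinearMap.funLeft B K Fin.succ).comp f).comp M'.subtype
    have hf' : Function.Injective f' := fun x y h => by
      refine Subtype.ext (hf (funext fun i => ?_))
      refine Fin.cases ?_ (fun i => congrFun h i) i
      have hx : g x.1 = 0 := x.2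
      have hy : g y.1 = 0 := y.2
      exact hx.trans hy.symm
    have h1 := length_quotient_le_mul ha r f' hf'
    let N : Submodule B K := LinearMap.range g
    have h2 := KrullAkizuki.length_quotient_le N a ha
    have hle : ∀ {P Q : Type u} [AddCommGroup P] [Module B P] [AddCommGroup Q] [Module B Q]
        (h : P →ₗ[B] Q), (a • (⊤ : Submodule B P)) ≤ (a • (⊤ : Submodule B Q)).comap h := by
      intro P Q _ _ _ _ h x hx
      obtain ⟨y, -, rfl⟩ := (Submodule.mem_smul_pointwise_iff_exists _ _ _).1 hx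
      exact (Submodule.mem_smul_pointwise_iff_exists _ _ _).2
        ⟨h y, Submodule.mem_top, (h.map_smul a y).symm⟩
    let φ := Submodule.mapQ _ _ M'.subtype (hle M'.subtype)
    let ψ := Submodule.mapQ _ _ g.rangeRestrict (hle g.rangeRestrict)
    have hψ : LinearMap.ker ψ ≤ LinearMap.range φ := by
      intro w hw
      obtain ⟨m, rfl⟩ := Submodule.Quotient.mk_surjective _ w
      obtain ⟨⟨_, m₁, rfl⟩, -, hy⟩ := (Submodule.mem_smul_pointwise_iff_exists _ _ _).1
        ((Submodule.Quotient.mk_eq_zero _).1 hw)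
      refine ⟨Submodule.Quotient.mk ⟨m - a • m₁, ?_⟩, (Submodule.Quotient.eq _).2 ?_⟩
      · have := congrArg Subtype.val hy
        show g (m - a • m₁) = 0
        rw [map_sub, map_smul, sub_eq_zero]
        exact this.symm
      · exact (Submodule.mem_smul_pointwise_iff_exists _ _ _).2 ⟨-m₁, Submodule.mem_top, by simp⟩
    have hadd := Module.length_eq_add_of_exact (LinearMap.ker ψ).subtype ψ.rangeRestrict
      Subtype.val_injective ψ.surjective_rangeRestrict (LinearMap.exact_iff.2 (by simp))
    rw [hadd, Nat.cast_add, add_mul, Nat.cast_one, one_mul]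
    exact add_le_add
      ((Module.length_le_of_injective (Submodule.inclusion hψ) (Submodule.inclusion_injective _)).trans
        ((Module.length_le_of_surjective φ.rangeRestrict φ.surjective_rangeRestrict).trans h1))
      ((Module.length_le_of_injective (LinearMap.range ψ).subtype Subtype.val_injective).trans h2)

end Length

end Groth.Agent.CAlgT1
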