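import Mathlib
import Groth.Prelude.Def_DRing2
import Groth.Prelude.Def_Wider

/-! Almost projective modules and annihilation of Ext^1 in D(R). -/

set_option autoImplicit false

universe u

open CategoryTheory CategoryTheory.Limits CategoryTheory.Pretriangulated

attribute [local instance] HasDerivedCategory.standard

namespace Groth.Agent.CAlgT1.NearProj

variable {R : Type u} [CommRing R]

theorem hom_shift_one_eq_zero_of_projective (P : ModuleCat.{u} R) [Projective P] (N : ModuleCat.{u} R)
    (x : (DerivedCategory.singleFunctor (ModuleCat.{u} R) 0).obj P ⟶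
      ((DerivedCategory.singleFunctor (ModuleCat.{u} R) 0).obj N)⟦(1 : ℤ)⟧) : x = 0 := by
  haveI : HasExt.{u+1} (ModuleCat.{u} R) := HasExt.standard _
  haveI : Subsingleton (Abelian.Ext.{u+1} P N 1) :=
    Abelian.Ext.subsingleton_of_projective P N 0
  exact (Abelian.Ext.homEquiv (X := P) (Y := N) (n := 1)).symm.injective (Subsingleton.elim _ _)

theorem nearProjective_iff (I : Ideal R) (M : Type u) [AddCommGroup M] [Module R M] :
    (∀ a ∈ I, ∃ (P : Type u) (_ : AddCommGroup P) (_ : Module R P) (_ : Module.Projective R P)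
        (f : M →ₗ[R] P) (g : P →ₗ[R] M), g ∘ₗ f = a • LinearMap.id) ↔
      ∀ (N : Type u) [AddCommGroup N] [Module R N], ∀ a ∈ I,
        ∀ x : DRing.ExtD R (Dual.inD R M) (Dual.inD R N) 1, a • x = 0 := by
  let F := DerivedCategory.singleFunctor (ModuleCat.{u} R) 0
  have hsmul : ∀ (N : Type u) [AddCommGroup N] [Module R N] (a : R)
      (x : DRing.ExtD R (Dual.inD R M) (Dual.inD R N) 1),
      a • x = F.map (ModuleCat.ofHom (a • LinearMap.id : M →ₗ[R] M)) ≫ x := by
    intro N _ _ a x
    have : (ModuleCat.ofHom (a • LinearMap.id : M →ₗ[R] M)) = a • 𝟙 (ModuleCat.of R M) := rfl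
    rw [this, Functor.map_smul, CategoryTheory.Functor.map_id, Linear.smul_comp, Category.id_comp]
  constructor
  · intro h N _ _ a ha x
    obtain ⟨P, _, _, _, f, g, hfg⟩ := h a ha
    rw [hsmul, ← hfg, ModuleCat.ofHom_comp, Functor.map_comp, Category.assoc,
      hom_shift_one_eq_zero_of_projective (ModuleCat.of R P) (ModuleCat.of R N) (F.map _ ≫ x),
      comp_zero]
  · intro h a ha
    let π : (M →₀ R) →ₗ[R] M := Finsupp.linearCombination R id
    let K : Submodule R (M →₀ R) := LinearMap.ker π
    let i : ModuleCat.of R K ⟶ ModuleCat.of R (M →₀ R) := ModuleCat.ofHom K.subtype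
    let p : ModuleCat.of R (M →₀ R) ⟶ ModuleCat.of R M := ModuleCat.ofHom π
    let S : ShortComplex (ModuleCat.{u} R) := ShortComplex.mk i p
      (ModuleCat.hom_ext (LinearMap.ext fun z => z.2))
    have hπ : Function.Surjective π := Finsupp.linearCombination_surjective R Function.surjective_id
    have hS : S.ShortExact :=
      { exact := (ShortComplex.ShortExact.moduleCat_exact_iff_function_exact S).2
          (LinearMap.exact_subtype_ker_map π)
        mono_f := (ModuleCat.mono_iff_injective _).2 Subtype.val_injective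
        epi_g := (ModuleCat.epi_iff_surjective _).2 hπ }
    have h0 := h K a ha hS.singleδ
    rw [hsmul] at h0
    obtain ⟨y, hy⟩ := Triangle.coyoneda_exact₃ _ hS.singleTriangle_distinguished
      (F.map (ModuleCat.ofHom (a • LinearMap.id : M →ₗ[R] M))) h0
    obtain ⟨f, rfl⟩ := F.map_surjective (X := ModuleCat.of R M) (Y := ModuleCat.of R (M →₀ R)) y
    refine ⟨M →₀ R, inferInstance, inferInstance, inferInstance, f.hom, π, ?_⟩
    have : ModuleCat.ofHom (a • LinearMap.id : M →ₗ[R] M) = f ≫ ModuleCat.ofHom π :=
      F.map_injective (hy.trans (F.map_comp _ _).symm)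
    exact (congrArg ModuleCat.Hom.hom this).symm

end Groth.Agent.CAlgT1.NearProj
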