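import Mathlib

set_option autoImplicit false
universe u

namespace Groth.Agent.CAlgT1

theorem exists_lift_of_locally_nilpotent {R S A : Type u} [CommRing R] [CommRing S] [Algebra R S]
    [Algebra.Smooth R S] [CommRing A] [Algebra R A] (I : Ideal A) (hI : ∀ x ∈ I, IsNilpotent x)
    (g : S →ₐ[R] A ⧸ I) : ∃ f : S →ₐ[R] A, (Ideal.Quotient.mkₐ R I).comp f = g := by
  obtain ⟨n, π, hπ, hker⟩ := (inferInstance : Algebra.FinitePresentation R S).out
  choose a ha using fun i : Fin n => Ideal.Quotient.mk_surjective (g (π (MvPolynomial.X i)))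
  let φ : MvPolynomial (Fin n) R →ₐ[R] A := MvPolynomial.aeval a
  have hcomp : (Ideal.Quotient.mkₐ R I).comp φ = g.comp π :=
    MvPolynomial.algHom_ext fun i => by simp [φ, ha]
  let J : Ideal A := (RingHom.ker π.toRingHom).map φ
  have hJI : J ≤ I := Ideal.map_le_iff_le_comap.2 fun x hx => by
    rw [Ideal.mem_comap, ← Ideal.Quotient.eq_zero_iff_mem]
    have h1 := AlgHom.congr_fun hcomp x
    simp only [AlgHom.comp_apply, Ideal.Quotient.mkₐ_eq_mk] at h1
    rw [h1, show π x = 0 from hx, map_zero]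
  have hnil : IsNilpotent J :=
    (hker.map φ.toRingHom).isNilpotent_iff_le_nilradical.2 fun x hx => hI x (hJI hx)
  have hzero : ∀ x : MvPolynomial (Fin n) R, x ∈ RingHom.ker π.toRingHom →
      ((Ideal.Quotient.mkₐ R J).comp φ) x = 0 := fun x hx =>
    Ideal.Quotient.eq_zero_iff_mem.2 (Ideal.mem_map_of_mem _ hx)
  let e : (MvPolynomial (Fin n) R ⧸ RingHom.ker π.toRingHom) ≃ₐ[R] S :=
    Ideal.quotientKerAlgEquivOfSurjective hπ
  let g' : S →ₐ[R] A ⧸ J := (Ideal.Quotient.liftₐ _ ((Ideal.Quotient.mkₐ R J).comp φ) hzero).comp e.symm.toAlgHom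
  obtain ⟨f, hf⟩ := Algebra.FormallySmooth.exists_lift J hnil g'
  refine ⟨f, AlgHom.ext fun s => ?_⟩
  obtain ⟨x, rfl⟩ := hπ s
  have h1 : g' (π x) = Ideal.Quotient.mk J (φ x) := by
    have h2 : e.symm (π x) = Ideal.Quotient.mk _ x := e.symm_apply_eq.2 rfl
    show Ideal.Quotient.liftₐ _ _ hzero (e.symm (π x)) = _
    rw [h2]
    rfl
  have h3 : Ideal.Quotient.mk J (f (π x)) = g' (π x) := AlgHom.congr_fun hf (π x)
  rw [h1, Ideal.Quotient.eq] at h3
  have h4 := AlgHom.congr_fun hcomp x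
  simp only [AlgHom.comp_apply, Ideal.Quotient.mkₐ_eq_mk] at h4 ⊢
  rw [← h4, Ideal.Quotient.eq]
  exact hJI h3

end Groth.Agent.CAlgT1
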