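import Mathlib

/-!
# Permutable regular sequences and polynomial rings
-/

noncomputable section

universe u

open RingTheory.Sequence

namespace Groth.Agent.CAlgPermReg

variable {R : Type u} [CommRing R] {r : ℕ}

/-- `f j` is a nonzerodivisor modulo the `f i`, `i ∈ S`. -/
def NZ (f : Fin r → R) (S : Set (Fin r)) (j : Fin r) : Prop :=
  ∀ x, f j * x ∈ Ideal.span (f '' S) → x ∈ Ideal.span (f '' S)

theorem ofList_eq (l : List R) : Ideal.ofList l • (⊤ : Submodule R R) = Ideal.span {x | x ∈ l} := by
  rw [smul_eq_mul, Ideal.mul_top]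

theorem weaklyRegular_getElem {l : List R} (h : IsWeaklyRegular R l) (i : ℕ) (hi : i < l.length)
    {x : R} (hx : l[i] * x ∈ Ideal.span {y | y ∈ l.take i}) : x ∈ Ideal.span {y | y ∈ l.take i} := by
  have := (isSMulRegular_quotient_iff_mem_of_smul_mem _ _).1 (h.regular_mod_prev i hi) x
  rw [ofList_eq] at this
  exact this hx

theorem take_ofFn_set (g : Fin r → R) (k : ℕ) :
    {y | y ∈ (List.ofFn g).take k} = g '' {i | (i : ℕ) < k} := by
  ext y
  simp only [Set.mem_setOf_eq, Set.mem_image, List.mem_take_iff_getElem, List.getElem_ofFn,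
    List.length_ofFn, lt_min_iff]
  constructor
  · rintro ⟨i, hi, rfl⟩
    exact ⟨_, hi.1, rfl⟩
  · rintro ⟨i, hi, rfl⟩
    exact ⟨i, ⟨hi, i.2⟩, rfl⟩

theorem weaklyRegular_ofFn_iff (g : Fin r → R) :
    IsWeaklyRegular R (List.ofFn g) ↔ ∀ k : Fin r, NZ g {i | i < k} k := by
  constructor
  · intro h k x hx
    have := weaklyRegular_getElem h k (by simp) (x := x)
    rw [take_ofFn_set] at this
    refine this ?_
    simpa using hx
  · intro h
    refine ⟨fun i hi => (isSMulRegular_quotient_iff_mem_of_smul_mem _ _).2 fun x hx => ?_⟩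
    rw [ofList_eq, take_ofFn_set] at hx ⊢
    have hi' : i < r := by simpa using hi
    refine h ⟨i, hi'⟩ x ?_
    change _ ∈ Ideal.span (g '' {j : Fin r | (j : ℕ) < i})
    simpa using hx

theorem nz_full {f : Fin r → R} (hC : ∀ (S : Finset (Fin r)) j, (∀ i ∈ S, i < j) → NZ f S j)
    (S : Finset (Fin r)) : ∀ j, j ∉ S → NZ f S j := by
  induction S using Finset.strongInduction with
  | _ S IH =>
    intro j hj
    by_cases h : ∀ i ∈ S, i < j
    · exact hC S j h
    push Not at h
    obtain ⟨i0, hi0, hji⟩ := h
    have hne : S.Nonempty := ⟨i0, hi0⟩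
    set t := S.max' hne
    have htS : t ∈ S := S.max'_mem hne
    have hjt : j < t := lt_of_le_of_ne (hji.trans (S.le_max' i0 hi0)) fun e => hj (e ▸ htS)
    have hS : f '' (S : Set (Fin r)) = insert (f t) (f '' ((S.erase t : Finset (Fin r)) : Set (Fin r))) := by
      rw [← Set.image_insert_eq, Finset.coe_erase, Set.insert_diff_singleton,
        Set.insert_eq_of_mem (Finset.mem_coe.2 htS)]
    intro x hx
    rw [hS, Ideal.mem_span_insert] at hx ⊢
    obtain ⟨n, a, ha, hxn⟩ := hx
    have hn : f t * n ∈ Ideal.span (f '' ((insert j (S.erase t) : Finset (Fin r)) : Set (Fin r))) := by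
      rw [Finset.coe_insert, Set.image_insert_eq, Ideal.mem_span_insert]
      exact ⟨x, -a, neg_mem ha, by linear_combination -hxn⟩
    have hn' := hC (insert j (S.erase t)) t (fun i hi => by
      rcases Finset.mem_insert.1 hi with rfl | hi
      · exact hjt
      · exact lt_of_le_of_ne (S.le_max' i (Finset.mem_of_mem_erase hi)) (Finset.ne_of_mem_erase hi))
      n hn
    rw [Finset.coe_insert, Set.image_insert_eq, Ideal.mem_span_insert] at hn'
    obtain ⟨k, a', ha', rfl⟩ := hn'
    have hx' : x - f t * k ∈ Ideal.span (f '' ((S.erase t : Finset (Fin r)) : Set (Fin r))) := by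
      refine IH _ (Finset.erase_ssubset htS) j (fun h => hj (Finset.mem_of_mem_erase h)) _ ?_
      rw [show f j * (x - f t * k) = a + f t * a' by linear_combination hxn]
      exact add_mem ha (Ideal.mul_mem_left _ _ ha')
    exact ⟨k, x - f t * k, hx', by ring⟩

theorem coe_perm_nz {f : Fin r → R}
    (hC : ∀ (S : Finset (Fin r)) j, (∀ i ∈ S, i < j) → NZ f S j) (σ : Equiv.Perm (Fin r)) :
    IsWeaklyRegular R (List.ofFn (f ∘ σ)) := by
  classical
  rw [weaklyRegular_ofFn_iff]
  intro k x hx
  have h := nz_full hC ((Finset.univ.filter (fun i => i < k)).image σ) (σ k) (by simp) x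
  rw [Finset.coe_image, Finset.coe_filter, ← Set.image_comp] at h
  simp only [Finset.mem_univ, true_and] at h
  exact h hx

theorem nz_of_perm {f : Fin r → R}
    (h : ∀ σ : Equiv.Perm (Fin r), IsWeaklyRegular R (List.ofFn (f ∘ σ)))
    (S : Finset (Fin r)) (j : Fin r) (hS : ∀ i ∈ S, i < j) : NZ f S j := by
  classical
  have hj : j ∉ S := fun hj => lt_irrefl j (hS j hj)
  let l : List (Fin r) := S.toList ++ j :: ((Finset.univ \ insert j S).toList)
  have hnd : l.Nodup := by
    simp only [l, List.nodup_append, List.nodup_cons, Finset.nodup_toList, Finset.mem_toList,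
      List.mem_cons, Finset.mem_sdiff, Finset.mem_univ, true_and, Finset.mem_insert, not_or]
    exact ⟨⟨by simp, trivial⟩, fun a ha b hb hab => by
      subst hab; rcases hb with rfl | hb
      · exact hj ha
      · exact hb.2 ha⟩
  have hmem : ∀ x, x ∈ l := fun x => by
    simp only [l, List.mem_append, Finset.mem_toList, List.mem_cons, Finset.mem_sdiff, Finset.mem_univ,
      true_and, Finset.mem_insert]
    tauto
  let e := hnd.getEquivOfForallMemList l hmem
  have hlen : l.length = r := by simpa using Fintype.card_congr e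
  let σ : Equiv.Perm (Fin r) := (finCongr hlen.symm).trans e
  have hl : List.ofFn (f ∘ σ) = l.map f := by
    refine List.ext_getElem (by simp [hlen]) fun i h1 h2 => ?_
    simp [σ, e]
  intro x hx
  have hi : S.card < (l.map f).length := by simp [l]
  have := weaklyRegular_getElem (hl ▸ h σ) S.card hi (x := x)
  have htake : {y | y ∈ (l.map f).take S.card} = f '' (S : Set (Fin r)) := by
    rw [← List.map_take, List.take_left' (Finset.length_toList S)]
    ext y
    simp [List.mem_map]
  rw [htake] at this
  refine this ?_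
  simpa [l, List.getElem_append_right] using hx

open MvPolynomial

theorem mem_span_iff (f : Fin r → R) (S : Set (Fin r)) (p : MvPolynomial (Fin r) R) :
    p ∈ Ideal.span ((fun i => C (f i) * X i) '' S) ↔
      ∀ E : Fin r →₀ ℕ, coeff E p ∈ Ideal.span (f '' {i | i ∈ S ∧ E i ≠ 0}) := by
  classical
  constructor
  · intro hp
    induction hp using Submodule.span_induction with
    | mem q hq =>
      obtain ⟨i, hi, rfl⟩ := hq
      intro E
      rw [coeff_C_mul, coeff_X']
      split_ifs with hE
      · exact Ideal.mul_mem_right _ _ (Ideal.subset_span ⟨i, ⟨hi, by simp [← hE]⟩, rfl⟩)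
      · simp
    | zero => simp
    | add a b _ _ ha hb => intro E; rw [coeff_add]; exact add_mem (ha E) (hb E)
    | smul a b _ hb =>
      intro E
      rw [smul_eq_mul, coeff_mul]
      refine sum_mem fun q hq => Ideal.mul_mem_left _ _ (Ideal.span_mono (Set.image_mono ?_) (hb q.2))
      rintro i ⟨hi, hi'⟩
      refine ⟨hi, ?_⟩
      rw [Finset.HasAntidiagonal.mem_antidiagonal] at hq
      rw [← hq, Finsupp.add_apply]
      omega
  · intro h
    rw [as_sum p]
    refine sum_mem fun E _ => ?_
    have hE := h E
    generalize coeff E p = c at hE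
    induction hE using Submodule.span_induction with
    | mem a ha =>
      obtain ⟨i, ⟨hi, hi'⟩, rfl⟩ := ha
      have : monomial E (f i) = (C (f i) * X i) * monomial (E - Finsupp.single i 1) 1 := by
        rw [mul_assoc, X, monomial_mul, C_mul_monomial, mul_one, mul_one,
          add_tsub_cancel_of_le (Finsupp.single_le_iff.2 (Nat.one_le_iff_ne_zero.2 hi'))]
      rw [this]
      exact Ideal.mul_mem_right _ _ (Ideal.subset_span ⟨i, hi, rfl⟩)
    | zero => simp
    | add a b _ _ ha hb => rw [map_add]; exact add_mem ha hb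
    | smul a b _ hb =>
      rw [smul_eq_mul, ← C_mul_monomial]
      exact Ideal.mul_mem_left _ _ hb

theorem isRegular_perm_iff (f : Fin r → R) (hf : Ideal.span (Set.range f) ≠ ⊤) :
    (∀ σ : Equiv.Perm (Fin r), IsRegular R (List.ofFn (f ∘ σ))) ↔
      IsRegular (MvPolynomial (Fin r) R) (List.ofFn fun i => C (f i) * X i) := by
  classical
  constructor
  · intro h
    have hC := nz_of_perm fun σ => (h σ).toIsWeaklyRegular
    refine ⟨(weaklyRegular_ofFn_iff _).2 fun k p hp => ?_, fun e => ?_⟩
    · rw [mem_span_iff] at hp ⊢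
      intro E
      let S := Finset.univ.filter fun i => i < k ∧ E i ≠ 0
      have hS : f '' {i | i ∈ {i : Fin r | i < k} ∧ E i ≠ 0} = f '' (S : Set (Fin r)) := by simp [S]
      rw [hS]
      refine hC S k (fun i hi => (Finset.mem_filter.1 hi).2.1) _ ?_
      have := hp (Finsupp.single k 1 + E)
      rw [mul_assoc, coeff_C_mul, coeff_X_mul] at this
      convert this using 3
      ext i
      simp only [S, Finset.coe_filter, Finset.mem_univ, true_and, Set.mem_setOf_eq, Finsupp.add_apply]
      refine and_congr_right fun hi => ?_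
      rw [Finsupp.single_eq_of_ne hi.ne, zero_add]
    · rw [ofList_eq] at e
      have h1 : (1 : MvPolynomial (Fin r) R) ∈
          Ideal.span ((fun i => C (f i) * X i) '' Set.univ) := by
        refine Ideal.span_mono ?_ (e ▸ Submodule.mem_top)
        intro y hy
        simpa using hy
      have := (mem_span_iff f Set.univ 1).1 h1 0
      have h0 : {i | i ∈ (Set.univ : Set (Fin r)) ∧ (0 : Fin r →₀ ℕ) i ≠ 0} = ∅ := by simp
      rw [h0, Set.image_empty, Ideal.span_empty, coeff_zero_one] at this
      exact hf ((Ideal.eq_top_iff_one _).2 (by simp [Ideal.mem_bot.1 this]))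
  · intro h σ
    have hw := (weaklyRegular_ofFn_iff _).1 h.toIsWeaklyRegular
    refine ⟨coe_perm_nz (fun S j hS x hx => ?_) σ, fun e => ?_⟩
    · let E : Fin r →₀ ℕ := ∑ i ∈ S, Finsupp.single i 1
      have hE : ∀ i, E i ≠ 0 ↔ i ∈ S := fun i => by
        simp [E, Finsupp.finsetSum_apply, Finsupp.single_apply]
      have hset : {i | i ∈ {i : Fin r | i < j} ∧ E i ≠ 0} = (S : Set (Fin r)) := by
        ext i
        simp only [Set.mem_setOf_eq, hE, Finset.mem_coe]
        exact and_iff_right_of_imp (hS i)
      have hp := hw j (monomial E x) (by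
        rw [mem_span_iff]
        intro E'
        rw [mul_assoc, X, monomial_mul, one_mul, C_mul_monomial, coeff_monomial]
        split_ifs with h'
        · subst h'
          convert hx using 3
          ext i
          simp only [Set.mem_setOf_eq, Finsupp.add_apply, Finset.mem_coe]
          refine ⟨fun ⟨hi, hi'⟩ => ?_, fun hi => ⟨hS i hi, ?_⟩⟩
          · rw [Finsupp.single_eq_of_ne hi.ne, zero_add] at hi'
            exact (hE i).1 hi'
          · have := (hE i).2 hi; omega
        · exact zero_mem _)
      have := (mem_span_iff f _ _).1 hp E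
      rwa [coeff_monomial, if_pos rfl, hset] at this
    · rw [ofList_eq] at e
      refine hf (top_le_iff.1 (e.le.trans (Ideal.span_mono ?_)))
      intro y hy
      simp only [Set.mem_setOf_eq, List.mem_ofFn', Function.comp_apply] at hy
      obtain ⟨i, rfl⟩ := hy
      exact ⟨σ i, rfl⟩

end Groth.Agent.CAlgPermReg
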