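import Mathlib
import Groth.Prelude.Def_CAlgX
import Groth.Prelude.Def_W4stkadequatePure
import Groth.Agent.CAlgML.UnivInj
import Groth.Agent.S6302

/-!
# Pure injective and pure projective modules
-/

set_option autoImplicit false
universe u

open TensorProduct

namespace Groth.Agent.CAlgT1

variable (R : Type u) [CommRing R]

/-- Pure injectivity. -/
def PureInj (I : Type u) [AddCommGroup I] [Module R I] : Prop :=
  ∀ ⦃K L : Type u⦄ [AddCommGroup K] [Module R K] [AddCommGroup L] [Module R L] (f : K →ₗ[R] L),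
    CAlgX.UniversallyInjective R f → ∀ φ : K →ₗ[R] I, ∃ ψ : L →ₗ[R] I, ψ ∘ₗ f = φ

/-- Pure projectivity. -/
def PureProj (P : Type u) [AddCommGroup P] [Module R P] : Prop :=
  ∀ ⦃L N : Type u⦄ [AddCommGroup L] [Module R L] [AddCommGroup N] [Module R N] (g : L →ₗ[R] N),
    Function.Surjective g → CAlgX.UniversallyInjective R (LinearMap.ker g).subtype →
    ∀ φ : P →ₗ[R] N, ∃ ψ : P →ₗ[R] L, g ∘ₗ ψ = φ

variable {R}

theorem pureInj_characterModule (X : Type u) [AddCommGroup X] [Module R X] :
    PureInj R (CharacterModule X) := fun _ _ _ _ _ _ f hf φ =>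
  rTensor_injective_iff_lcomp_surjective.1 (hf X) φ

/-- Flip a map into a character module. -/
def charFlip {M : Type u} [AddCommGroup M] [Module R M] {Q : Type u} [AddCommGroup Q] [Module R Q]
    (φ : M →ₗ[R] CharacterModule Q) : Q →ₗ[R] CharacterModule M where
  toFun q :=
    { toFun := fun m => φ m q
      map_zero' := by simp only [map_zero]; rfl
      map_add' := fun a b => by simp only [map_add]; rfl }
  map_add' a b := DFunLike.ext _ _ fun m => map_add (φ m) a b
  map_smul' r a := DFunLike.ext _ _ fun m => by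
    show φ m (r • a) = φ (r • m) a
    rw [map_smul φ, CharacterModule.smul_apply]

theorem universallyInjective_charEval (M : Type u) [AddCommGroup M] [Module R M] :
    CAlgX.UniversallyInjective R (PureExt.charEval R M) := by
  intro Q _ _
  rw [rTensor_injective_iff_lcomp_surjective]
  intro φ
  exact ⟨CharacterModule.dual (charFlip φ), LinearMap.ext fun m => DFunLike.ext _ _ fun q => rfl⟩

theorem pureInj_iff (I : Type u) [AddCommGroup I] [Module R I] :
    PureInj R I ↔ ∃ r : CharacterModule (CharacterModule I) →ₗ[R] I, r ∘ₗ PureExt.charEval R I = LinearMap.id := by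
  refine ⟨fun h => h _ (universallyInjective_charEval I) LinearMap.id, ?_⟩
  rintro ⟨r, hr⟩ K L _ _ _ _ f hf φ
  obtain ⟨ψ, hψ⟩ := pureInj_characterModule _ f hf (PureExt.charEval R I ∘ₗ φ)
  exact ⟨r ∘ₗ ψ, by rw [LinearMap.comp_assoc, hψ, ← LinearMap.comp_assoc, hr, LinearMap.id_comp]⟩

theorem universallyInjective_range_subtype {L M N : Type u} [AddCommGroup L] [Module R L]
    [AddCommGroup M] [Module R M] [AddCommGroup N] [Module R N] (f : L →ₗ[R] M) (g : M →ₗ[R] N)
    (h : ∀ (Q : Type u) [AddCommGroup Q] [Module R Q], Function.Exact (f.rTensor Q) (g.rTensor Q)) :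
    CAlgX.UniversallyInjective R (LinearMap.range g).subtype := by
  have h0 : g ∘ₗ f = 0 := LinearMap.ext fun x => by
    have h1 := (h R).apply_apply_eq_zero (x ⊗ₜ[R] (1 : R))
    rw [LinearMap.rTensor_tmul, LinearMap.rTensor_tmul] at h1
    simpa using congrArg (TensorProduct.rid R N) h1
  intro Q _ _
  refine (injective_iff_map_eq_zero _).2 fun x hx => ?_
  obtain ⟨z, rfl⟩ := LinearMap.rTensor_surjective Q g.surjective_rangeRestrict x
  rw [← LinearMap.rTensor_comp_apply, LinearMap.subtype_comp_codRestrict] at hx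
  obtain ⟨w, rfl⟩ := (h Q z).1 hx
  rw [← LinearMap.rTensor_comp_apply]
  have : g.rangeRestrict ∘ₗ f = 0 := LinearMap.ext fun y => Subtype.ext (LinearMap.congr_fun h0 y)
  rw [this, LinearMap.rTensor_zero, LinearMap.zero_apply]

theorem dominates_iff_universallyInjective_pushout {M N M' : Type u}
    [AddCommGroup M] [Module R M] [AddCommGroup N] [Module R N] [AddCommGroup M'] [Module R M']
    (f : M →ₗ[R] N) (g : M →ₗ[R] M') :
    (∀ (Q : Type u) [AddCommGroup Q] [Module R Q], LinearMap.ker (f.rTensor Q) ≤ LinearMap.ker (g.rTensor Q)) ↔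
      CAlgX.UniversallyInjective R
        ((LinearMap.range (g.prod (-f))).mkQ ∘ₗ LinearMap.inl R M' N) := by
  refine forall₃_congr fun Q _ _ => ?_
  have hex : Function.Exact ((g.prod (-f)).rTensor Q) ((LinearMap.range (g.prod (-f))).mkQ.rTensor Q) :=
    rTensor_exact Q (LinearMap.exact_map_mkQ_range _) (Submodule.mkQ_surjective _)
  have e1 : LinearMap.fst R M' N ∘ₗ g.prod (-f) = g := LinearMap.fst_prod _ _
  have e2 : LinearMap.snd R M' N ∘ₗ g.prod (-f) = -f := LinearMap.snd_prod _ _
  constructor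
  · intro hle
    refine (injective_iff_map_eq_zero _).2 fun a ha => ?_
    rw [LinearMap.rTensor_comp_apply] at ha
    obtain ⟨z, hz⟩ := (hex _).1 ha
    have h1 := congrArg ((LinearMap.fst R M' N).rTensor Q) hz
    have h2 := congrArg ((LinearMap.snd R M' N).rTensor Q) hz
    rw [← LinearMap.rTensor_comp_apply, ← LinearMap.rTensor_comp_apply, e1, LinearMap.fst_comp_inl,
      LinearMap.rTensor_id, LinearMap.id_apply] at h1
    rw [← LinearMap.rTensor_comp_apply, ← LinearMap.rTensor_comp_apply, e2, LinearMap.snd_comp_inl,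
      LinearMap.rTensor_zero, LinearMap.zero_apply, LinearMap.rTensor_neg, LinearMap.neg_apply,
      neg_eq_zero] at h2
    rw [← h1]
    exact hle h2
  · intro hinj z hz
    refine (injective_iff_map_eq_zero _).1 hinj _ ?_
    rw [LinearMap.rTensor_comp_apply]
    refine (hex _).2 ⟨z, ?_⟩
    have : g.prod (-f) = LinearMap.inl R M' N ∘ₗ g - LinearMap.inr R M' N ∘ₗ f := by
      ext x <;> simp
    rw [this, LinearMap.rTensor_sub, LinearMap.sub_apply, LinearMap.rTensor_comp_apply,
      LinearMap.rTensor_comp_apply, show f.rTensor Q z = 0 from hz, map_zero, sub_zero]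

theorem pureProj_of_finitePresentation (P : Type u) [AddCommGroup P] [Module R P]
    [Module.FinitePresentation R P] : PureProj R P := by
  intro L N _ _ _ _ g hg hker φ
  let E : Submodule R (L × P) := LinearMap.ker (g ∘ₗ LinearMap.fst R L P - φ ∘ₗ LinearMap.snd R L P)
  have hmem : ∀ x : L × P, x ∈ E ↔ g x.1 = φ x.2 := fun x => by
    simp [E, LinearMap.mem_ker, sub_eq_zero]
  let p : E →ₗ[R] P := LinearMap.snd R L P ∘ₗ E.subtype
  let i : LinearMap.ker g →ₗ[R] E :=
    LinearMap.codRestrict E (LinearMap.inl R L P ∘ₗ (LinearMap.ker g).subtype) fun x =>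
      (hmem _).2 (by simpa using x.2)
  have hp : Function.Surjective p := fun y => by
    obtain ⟨l, hl⟩ := hg (φ y)
    exact ⟨⟨(l, y), (hmem _).2 hl⟩, rfl⟩
  have hex : Function.Exact i p := by
    intro e
    constructor
    · intro he
      have h0 : (e : L × P).2 = 0 := he
      refine ⟨⟨(e : L × P).1, ?_⟩, Subtype.ext (Prod.ext rfl h0.symm)⟩
      show g (e : L × P).1 = 0
      rw [(hmem _).1 e.2, h0, map_zero]
    · rintro ⟨x, rfl⟩
      rfl
  have hi : CAlgX.UniversallyInjective R i := by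
    intro Q _ _
    refine Function.Injective.of_comp (f := (LinearMap.fst R L P ∘ₗ E.subtype).rTensor Q) ?_
    rw [← LinearMap.coe_comp, ← LinearMap.rTensor_comp]
    exact hker Q
  obtain ⟨s, hs⟩ := Groth.Agent.S6302.result i p hex hp hi
  refine ⟨LinearMap.fst R L P ∘ₗ E.subtype ∘ₗ s, LinearMap.ext fun y => ?_⟩
  show g (s y : L × P).1 = φ y
  rw [(hmem _).1 (s y).2]
  exact congrArg φ (LinearMap.congr_fun hs y)

theorem pureProj_dfinsupp (ι : Type u) (Q : ι → Type u) [∀ i, AddCommGroup (Q i)] [∀ i, Module R (Q i)]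
    (h : ∀ i, PureProj R (Q i)) : PureProj R (Π₀ i, Q i) := by
  classical
  intro L N _ _ _ _ g hg hker φ
  choose ψ hψ using fun i => h i g hg hker (φ ∘ₗ DFinsupp.lsingle i)
  refine ⟨DFinsupp.lsum ℕ ψ, DFinsupp.lhom_ext fun i x => ?_⟩
  rw [LinearMap.comp_apply, DFinsupp.lsum_single]
  exact LinearMap.congr_fun (hψ i) x

theorem pureProj_of_retract {P Q : Type u} [AddCommGroup P] [Module R P] [AddCommGroup Q] [Module R Q]
    (s : P →ₗ[R] Q) (r : Q →ₗ[R] P) (hrs : r ∘ₗ s = LinearMap.id) (h : PureProj R Q) : PureProj R P := by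
  intro L N _ _ _ _ g hg hker φ
  obtain ⟨ψ, hψ⟩ := h g hg hker (φ ∘ₗ r)
  exact ⟨ψ ∘ₗ s, by rw [← LinearMap.comp_assoc, hψ, LinearMap.comp_assoc, hrs, LinearMap.comp_id]⟩

/-- Index type of finitely presented modules mapping to `M`. -/
abbrev FPIndex (R : Type u) [CommRing R] (M : Type u) [AddCommGroup M] [Module R M] : Type u :=
  Σ (m : ℕ) (s : Finset (Fin m → R)), ((Fin m → R) ⧸ Submodule.span R (s : Set (Fin m → R))) →ₗ[R] M

theorem exists_pure_cover (M : Type u) [AddCommGroup M] [Module R M] :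
    ∃ (ι : Type u) (Q : ι → Type u) (_ : ∀ i, AddCommGroup (Q i)) (_ : ∀ i, Module R (Q i)),
      (∀ i, Module.FinitePresentation R (Q i)) ∧
      ∃ g : (Π₀ i, Q i) →ₗ[R] M, Function.Surjective g ∧
        CAlgX.UniversallyInjective R (LinearMap.ker g).subtype := by
  classical
  let Q : FPIndex R M → Type u := fun i =>
    (Fin i.1 → R) ⧸ Submodule.span R (i.2.1 : Set (Fin i.1 → R))
  let g : (Π₀ i, Q i) →ₗ[R] M := DFinsupp.lsum ℕ fun i => i.2.2
  refine ⟨FPIndex R M, Q, inferInstance, inferInstance, fun i => ?_, g, ?_, ?_⟩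
  · exact Module.finitePresentation_of_surjective _ (Submodule.mkQ_surjective _)
      (by rw [Submodule.ker_mkQ]; exact Submodule.fg_span i.2.1.finite_toSet)
  · intro x
    let l : (Fin 1 → R) →ₗ[R] M := LinearMap.toSpanSingleton R M x ∘ₗ LinearMap.proj 0
    let t : ((Fin 1 → R) ⧸ Submodule.span R ((∅ : Finset (Fin 1 → R)) : Set (Fin 1 → R))) →ₗ[R] M :=
      Submodule.liftQ _ l (Submodule.span_le.2 (by simp))
    refine ⟨DFinsupp.single ⟨1, ∅, t⟩ (Submodule.Quotient.mk fun _ => 1), ?_⟩
    show DFinsupp.lsum ℕ (fun i : FPIndex R M => i.2.2) _ = x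
    rw [DFinsupp.lsum_single]
    exact (Submodule.liftQ_apply _ l _).trans (one_smul R x)
  · rw [CAlgML.universallyInjective_iff_equations]
    intro n m x y a hxy
    let rel : Finset (Fin m → R) := Finset.univ.image a
    let hl : (Fin m → R) →ₗ[R] (Π₀ i, Q i) := Fintype.linearCombination R y
    have hle : Submodule.span R (rel : Set (Fin m → R)) ≤ LinearMap.ker (g ∘ₗ hl) := by
      rw [Submodule.span_le]
      intro v hv
      obtain ⟨i, -, rfl⟩ := Finset.mem_image.1 (Finset.mem_coe.1 hv)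
      show g (Fintype.linearCombination R y (a i)) = 0
      rw [Fintype.linearCombination_apply, ← hxy]
      exact (x i).2
    let t := Submodule.liftQ _ (g ∘ₗ hl) hle
    let e : Fin m → (Π₀ i, Q i) := fun j =>
      DFinsupp.single (⟨m, rel, t⟩ : FPIndex R M) (Submodule.Quotient.mk (Pi.single j 1))
    have hge : ∀ j, g (e j) = g (y j) := fun j => by
      show DFinsupp.lsum ℕ (fun i : FPIndex R M => i.2.2) (e j) = g (y j)
      rw [DFinsupp.lsum_single]
      show g (Fintype.linearCombination R y (Pi.single j 1)) = g (y j)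
      rw [Fintype.linearCombination_apply_single, one_smul]
    refine ⟨fun j => ⟨y j - e j, by rw [LinearMap.mem_ker, map_sub, hge, sub_self]⟩, fun i => Subtype.ext ?_⟩
    have hsum : ∑ j, a i j • e j = 0 := by
      have h1 : ∑ j, a i j • (Pi.single j 1 : Fin m → R) = a i := by
        ext k
        simp [Finset.sum_apply, Pi.single_apply]
      let i₀ : FPIndex R M := ⟨m, rel, t⟩
      let L : (Fin m → R) →ₗ[R] (Π₀ i, Q i) :=
        (DFinsupp.lsingle i₀).comp (Submodule.mkQ (Submodule.span R (rel : Set (Fin m → R))))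
      show ∑ j, a i j • L (Pi.single j 1) = 0
      simp only [← map_smul, ← map_sum, h1]
      simp only [L, LinearMap.comp_apply, Submodule.mkQ_apply]
      have h0 : (Submodule.span R (rel : Set (Fin m → R))).mkQ (a i) = 0 :=
        (Submodule.Quotient.mk_eq_zero _).2 (Submodule.subset_span (Finset.mem_coe.2
          (Finset.mem_image_of_mem a (Finset.mem_univ i))))
      exact (congrArg (DFinsupp.lsingle (R := R) i₀) h0).trans (map_zero _)
    simp only [Submodule.coe_sum, Submodule.coe_smul, smul_sub, Finset.sum_sub_distrib, hsum, sub_zero]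
    exact hxy i

theorem pureProj_iff (P : Type u) [AddCommGroup P] [Module R P] :
    PureProj R P ↔
    ∃ (ι : Type u) (Q : ι → Type u) (_ : ∀ i, AddCommGroup (Q i)) (_ : ∀ i, Module R (Q i)),
      (∀ i, Module.FinitePresentation R (Q i)) ∧
      ∃ (s : P →ₗ[R] (Π₀ i, Q i)) (r : (Π₀ i, Q i) →ₗ[R] P), r ∘ₗ s = LinearMap.id := by
  constructor
  · intro h
    obtain ⟨ι, Q, i1, i2, hfp, g, hg, hker⟩ := exists_pure_cover (R := R) P
    obtain ⟨s, hs⟩ := h g hg hker LinearMap.id
    exact ⟨ι, Q, i1, i2, hfp, s, g, hs⟩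
  · rintro ⟨ι, Q, i1, i2, hfp, s, r, hrs⟩
    exact pureProj_of_retract s r hrs
      (pureProj_dfinsupp ι Q fun i => haveI := hfp i; pureProj_of_finitePresentation (Q i))

end Groth.Agent.CAlgT1
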