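import Mathlib
import Groth.Agent.CAlgT1.Pure

/-!
# Pure projective and pure injective resolutions
-/

set_option autoImplicit false
universe u

open CategoryTheory

namespace Groth.Agent.CAlgT1

variable {R : Type u} [CommRing R]

theorem exact_rTensor_of {K L M : Type u} [AddCommGroup K] [Module R K] [AddCommGroup L] [Module R L]
    [AddCommGroup M] [Module R M] {k : K →ₗ[R] L} {a : L →ₗ[R] M}
    (h : ∀ T : ModuleCat.{u} R, Function.Exact (k.rTensor T) (a.rTensor T)) : Function.Exact k a :=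
  (Function.Exact.iff_of_ladder_linearEquiv (e₁ := (TensorProduct.rid R K).symm)
    (e₂ := (TensorProduct.rid R L).symm) (e₃ := (TensorProduct.rid R M).symm)
    (f₁₂ := k) (f₂₃ := a) (g₁₂ := k.rTensor R) (g₂₃ := a.rTensor R)
    (by ext x; simp) (by ext x; simp)).1 (h (ModuleCat.of R R))

/-- Lifting against a pure exact sequence from a pure projective module. -/
theorem lift_pureProj {J K L M N P : Type u} [AddCommGroup J] [Module R J] [AddCommGroup K] [Module R K]
    [AddCommGroup L] [Module R L] [AddCommGroup M] [Module R M] [AddCommGroup N] [Module R N]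
    [AddCommGroup P] [Module R P] (i : J →ₗ[R] K) (k : K →ₗ[R] L) (a : L →ₗ[R] M) (b : M →ₗ[R] N)
    (hi : ∀ (Q : Type u) [AddCommGroup Q] [Module R Q], Function.Exact (i.rTensor Q) (k.rTensor Q))
    (hk : Function.Exact k a) (hab : Function.Exact a b) (hP : PureProj R P) (φ : P →ₗ[R] M)
    (hφ : b ∘ₗ φ = 0) : ∃ ψ : P →ₗ[R] L, a ∘ₗ ψ = φ := by
  have h1 := universallyInjective_range_subtype i k hi
  rw [← hk.linearMap_ker_eq, ← LinearMap.ker_rangeRestrict a] at h1
  let φ' : P →ₗ[R] LinearMap.range a :=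
    LinearMap.codRestrict _ φ fun x => (hab (φ x)).1 (LinearMap.congr_fun hφ x)
  obtain ⟨ψ, hψ⟩ := hP a.rangeRestrict a.surjective_rangeRestrict h1 φ'
  exact ⟨ψ, LinearMap.ext fun x => congrArg Subtype.val (LinearMap.congr_fun hψ x)⟩

/-- Extending along a pure exact sequence into a pure injective module. -/
theorem extend_pureInj {K L M I : Type u} [AddCommGroup K] [Module R K]
    [AddCommGroup L] [Module R L] [AddCommGroup M] [Module R M] [AddCommGroup I] [Module R I]
    (k : K →ₗ[R] L) (a : L →ₗ[R] M)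
    (hka : ∀ (Q : Type u) [AddCommGroup Q] [Module R Q], Function.Exact (k.rTensor Q) (a.rTensor Q))
    (hI : PureInj R I) (φ : L →ₗ[R] I) (hφ : φ ∘ₗ k = 0) : ∃ ψ : M →ₗ[R] I, ψ ∘ₗ a = φ := by
  have hk : Function.Exact k a := exact_rTensor_of fun T => hka T
  have h1 : LinearMap.ker a ≤ LinearMap.ker φ := by
    rw [hk.linearMap_ker_eq]
    rintro _ ⟨x, rfl⟩
    exact LinearMap.congr_fun hφ x
  let φ' : LinearMap.range a →ₗ[R] I :=
    (Submodule.liftQ _ φ h1) ∘ₗ (LinearMap.quotKerEquivRange a).symm.toLinearMap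
  obtain ⟨ψ, hψ⟩ := hI _ (universallyInjective_range_subtype k a hka) φ'
  refine ⟨ψ, LinearMap.ext fun x => ?_⟩
  have := LinearMap.congr_fun hψ ⟨a x, x, rfl⟩
  simp only [φ', LinearMap.comp_apply] at this
  rw [LinearEquiv.coe_coe, show (LinearMap.quotKerEquivRange a).symm ⟨a x, x, rfl⟩ = Submodule.Quotient.mk x from
    (LinearMap.quotKerEquivRange a).symm_apply_eq.2 rfl, Submodule.liftQ_apply] at this
  exact this

theorem exact_iff_function_exact {S : ShortComplex (ModuleCat.{u} R)} :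
    S.Exact ↔ Function.Exact S.f.hom S.g.hom :=
  ShortComplex.ShortExact.moduleCat_exact_iff_function_exact _

theorem quasiIso_down_iff {K L : ChainComplex (ModuleCat.{u} R) ℕ} (φ : K ⟶ L)
    (hL : ∀ n : ℕ, Limits.IsZero (L.X (n + 1))) :
    QuasiIso φ ↔ (∀ n : ℕ, Function.Exact (K.d (n + 2) (n + 1)).hom (K.d (n + 1) n).hom) ∧
      Function.Exact (K.d 1 0).hom (φ.f 0).hom ∧ Function.Surjective (φ.f 0).hom := by
  have hz : ∀ n : ℕ, L.ExactAt (n + 1) := fun n => HomologicalComplex.ExactAt.of_isZero (hL n)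
  have key : ∀ n : ℕ, QuasiIsoAt φ (n + 1) ↔
      Function.Exact (K.d (n + 2) (n + 1)).hom (K.d (n + 1) n).hom := fun n => by
    rw [quasiIsoAt_iff_exactAt' φ (n + 1) (hz n),
      HomologicalComplex.exactAt_iff' _ (n + 2) (n + 1) n (by simp) (by simp), exact_iff_function_exact]
    rfl
  have key0 : QuasiIsoAt φ 0 ↔
      Function.Exact (K.d 1 0).hom (φ.f 0).hom ∧ Function.Surjective (φ.f 0).hom := by
    rw [ChainComplex.quasiIsoAt₀_iff, ShortComplex.quasiIso_iff_of_zeros' _
      (K.shape _ _ (by simp)) ((hL 0).eq_of_src _ _) (L.shape _ _ (by simp)),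
      exact_iff_function_exact, ModuleCat.epi_iff_surjective]
    rfl
  rw [quasiIso_iff]
  refine ⟨fun h => ⟨fun n => (key n).1 (h _), key0.1 (h 0)⟩, fun h n => ?_⟩
  cases n with
  | zero => exact key0.2 h.2
  | succ n => exact (key n).2 (h.1 n)

theorem quasiIso_up_iff {L K : CochainComplex (ModuleCat.{u} R) ℕ} (φ : L ⟶ K)
    (hL : ∀ n : ℕ, Limits.IsZero (L.X (n + 1))) :
    QuasiIso φ ↔ (∀ n : ℕ, Function.Exact (K.d n (n + 1)).hom (K.d (n + 1) (n + 2)).hom) ∧
      Function.Exact (φ.f 0).hom (K.d 0 1).hom ∧ Function.Injective (φ.f 0).hom := by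
  have hz : ∀ n : ℕ, L.ExactAt (n + 1) := fun n => HomologicalComplex.ExactAt.of_isZero (hL n)
  have key : ∀ n : ℕ, QuasiIsoAt φ (n + 1) ↔
      Function.Exact (K.d n (n + 1)).hom (K.d (n + 1) (n + 2)).hom := fun n => by
    rw [quasiIsoAt_iff_exactAt φ (n + 1) (hz n),
      HomologicalComplex.exactAt_iff' _ n (n + 1) (n + 2) (by simp) (by simp), exact_iff_function_exact]
    rfl
  have key0 : QuasiIsoAt φ 0 ↔
      Function.Exact (φ.f 0).hom (K.d 0 1).hom ∧ Function.Injective (φ.f 0).hom := by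
    rw [CochainComplex.quasiIsoAt₀_iff, ShortComplex.quasiIso_iff_of_zeros _
      (L.shape _ _ (by simp)) ((hL 0).eq_of_tgt _ _) (K.shape _ _ (by simp)),
      exact_iff_function_exact, ModuleCat.mono_iff_injective]
    rfl
  rw [quasiIso_iff]
  refine ⟨fun h => ⟨fun n => (key n).1 (h _), key0.1 (h 0)⟩, fun h n => ?_⟩
  cases n with
  | zero => exact key0.2 h.2
  | succ n => exact (key n).2 (h.1 n)

open MonoidalCategory in
theorem isZero_tensor_single_down (M T : ModuleCat.{u} R) (n : ℕ) :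
    Limits.IsZero ((((tensorRight T).mapHomologicalComplex (ComplexShape.down ℕ)).obj
      ((ChainComplex.single₀ (ModuleCat.{u} R)).obj M)).X (n + 1)) :=
  (tensorRight T).map_isZero (HomologicalComplex.isZero_single_obj_X _ 0 M (n + 1) (Nat.succ_ne_zero n))

open MonoidalCategory in
theorem isZero_tensor_single_up (M T : ModuleCat.{u} R) (n : ℕ) :
    Limits.IsZero ((((tensorRight T).mapHomologicalComplex (ComplexShape.up ℕ)).obj
      ((CochainComplex.single₀ (ModuleCat.{u} R)).obj M)).X (n + 1)) :=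
  (tensorRight T).map_isZero (HomologicalComplex.isZero_single_obj_X _ 0 M (n + 1) (Nat.succ_ne_zero n))

open MonoidalCategory in
/-- Pure exactness of an augmented chain complex, unfolded. -/
theorem pureExact_down_iff {N : ModuleCat.{u} R} {K : ChainComplex (ModuleCat.{u} R) ℕ}
    (ε : K ⟶ (ChainComplex.single₀ (ModuleCat.{u} R)).obj N) :
    (∀ T : ModuleCat.{u} R,
      QuasiIso (((tensorRight T).mapHomologicalComplex (ComplexShape.down ℕ)).map ε)) ↔
    ∀ T : ModuleCat.{u} R,
      (∀ n : ℕ, Function.Exact ((K.d (n + 2) (n + 1)).hom.rTensor T) ((K.d (n + 1) n).hom.rTensor T)) ∧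
      Function.Exact ((K.d 1 0).hom.rTensor T) ((ε.f 0).hom.rTensor T) ∧
      Function.Surjective ((ε.f 0).hom.rTensor T) :=
  forall_congr' fun T => quasiIso_down_iff _ (isZero_tensor_single_down N T)

open MonoidalCategory in
/-- Pure exactness of a coaugmented cochain complex, unfolded. -/
theorem pureExact_up_iff {M : ModuleCat.{u} R} {K : CochainComplex (ModuleCat.{u} R) ℕ}
    (η : (CochainComplex.single₀ (ModuleCat.{u} R)).obj M ⟶ K) :
    (∀ T : ModuleCat.{u} R,
      QuasiIso (((tensorRight T).mapHomologicalComplex (ComplexShape.up ℕ)).map η)) ↔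
    ∀ T : ModuleCat.{u} R,
      (∀ n : ℕ, Function.Exact ((K.d n (n + 1)).hom.rTensor T) ((K.d (n + 1) (n + 2)).hom.rTensor T)) ∧
      Function.Exact ((η.f 0).hom.rTensor T) ((K.d 0 1).hom.rTensor T) ∧
      Function.Injective ((η.f 0).hom.rTensor T) :=
  forall_congr' fun T => quasiIso_up_iff _ (isZero_tensor_single_up M T)

end Groth.Agent.CAlgT1
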