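import Mathlib
import Groth.Agent.CAlgT1.PureRes

/-!
# Existence and comparison of pure resolutions
-/

set_option autoImplicit false
universe u

open CategoryTheory MonoidalCategory

namespace Groth.Agent.CAlgT1

variable {R : Type u} [CommRing R]

theorem exact_of_surjective {L M N : Type u} [AddCommGroup L] [Module R L] [AddCommGroup M] [Module R M]
    [AddCommGroup N] [Module R N] (f : L →ₗ[R] M) (hf : Function.Surjective f) :
    Function.Exact f (0 : M →ₗ[R] N) := fun y => ⟨fun _ => hf y, fun _ => rfl⟩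

theorem surjective_of_rTensor {L M : Type u} [AddCommGroup L] [Module R L] [AddCommGroup M] [Module R M]
    (f : L →ₗ[R] M) (h : ∀ T : ModuleCat.{u} R, Function.Surjective (f.rTensor T)) :
    Function.Surjective f := fun y => by
  obtain ⟨z, hz⟩ := h (ModuleCat.of R R) (y ⊗ₜ[R] 1)
  refine ⟨TensorProduct.rid R L z, ?_⟩
  have hc : f ∘ₗ (TensorProduct.rid R L).toLinearMap =
      (TensorProduct.rid R M).toLinearMap ∘ₗ f.rTensor R := by ext x; simp
  exact (LinearMap.congr_fun hc z).trans ((congrArg (TensorProduct.rid R M) hz).trans (by simp))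

/-- A choice of pure projective cover. -/
structure Cover (X : ModuleCat.{u} R) where
  obj : ModuleCat.{u} R
  map : obj →ₗ[R] X
  proj : PureProj R obj
  summand : ∃ (ι : Type u) (Q : ι → Type u) (_ : ∀ i, AddCommGroup (Q i)) (_ : ∀ i, Module R (Q i)),
      (∀ i, Module.FinitePresentation R (Q i)) ∧
      ∃ (s : obj →ₗ[R] (Π₀ i, Q i)) (r : (Π₀ i, Q i) →ₗ[R] obj), r ∘ₗ s = LinearMap.id
  surj : Function.Surjective map
  pure : CAlgX.UniversallyInjective R (LinearMap.ker map).subtype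

theorem nonempty_cover (X : ModuleCat.{u} R) : Nonempty (Cover X) := by
  obtain ⟨ι, Q, i1, i2, hfp, g, hg, hker⟩ := exists_pure_cover (R := R) X
  have h1 : ∃ (ι' : Type u) (Q' : ι' → Type u) (_ : ∀ i, AddCommGroup (Q' i)) (_ : ∀ i, Module R (Q' i)),
      (∀ i, Module.FinitePresentation R (Q' i)) ∧
      ∃ (s : (Π₀ i, Q i) →ₗ[R] (Π₀ i, Q' i)) (r : (Π₀ i, Q' i) →ₗ[R] (Π₀ i, Q i)), r ∘ₗ s = LinearMap.id :=
    ⟨ι, Q, i1, i2, hfp, LinearMap.id, LinearMap.id, LinearMap.id_comp _⟩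
  exact ⟨{ obj := ModuleCat.of R (Π₀ i, Q i), map := g, proj := (pureProj_iff _).2 h1,
           summand := h1, surj := hg, pure := hker }⟩

noncomputable def cover (X : ModuleCat.{u} R) : Cover X := (nonempty_cover X).some

/-- Syzygies. -/
noncomputable def syz (M : ModuleCat.{u} R) : ℕ → ModuleCat.{u} R
  | 0 => M
  | n + 1 => ModuleCat.of R (LinearMap.ker (cover (syz M n)).map)

/-- Differentials. -/
noncomputable def resD (M : ModuleCat.{u} R) (n : ℕ) :
    (cover (syz M (n + 1))).obj →ₗ[R] (cover (syz M n)).obj :=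
  (LinearMap.ker (cover (syz M n)).map).subtype ∘ₗ (cover (syz M (n + 1))).map

theorem resD_exact (M : ModuleCat.{u} R) (n : ℕ) (T : Type u) [AddCommGroup T] [Module R T] :
    Function.Exact ((resD M n).rTensor T) ((cover (syz M n)).map.rTensor T) := by
  have h : Function.Exact ((LinearMap.ker (cover (syz M n)).map).subtype.rTensor T)
      ((cover (syz M n)).map.rTensor T) :=
    rTensor_exact T (LinearMap.exact_subtype_ker_map _) (cover (syz M n)).surj
  intro y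
  rw [h y]
  unfold resD
  rw [LinearMap.rTensor_comp]
  constructor
  · rintro ⟨x, rfl⟩
    obtain ⟨z, hz⟩ := LinearMap.rTensor_surjective T (cover (syz M (n + 1))).surj x
    exact ⟨z, by rw [← hz]; rfl⟩
  · rintro ⟨z, rfl⟩
    exact ⟨_, rfl⟩

theorem resD_exact' (M : ModuleCat.{u} R) (n : ℕ) (T : Type u) [AddCommGroup T] [Module R T] :
    Function.Exact ((resD M (n + 1)).rTensor T) ((resD M n).rTensor T) := by
  intro y
  have hinj := (cover (syz M n)).pure T
  show (resD M n).rTensor T y = 0 ↔ _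
  rw [resD, LinearMap.rTensor_comp, LinearMap.comp_apply]
  refine Iff.trans ⟨fun h => ?_, fun h => ?_⟩ (resD_exact M (n + 1) T y)
  · exact hinj (h.trans (map_zero _).symm)
  · exact (congrArg _ h).trans (map_zero _)

theorem resD_zero (M : ModuleCat.{u} R) :
    ModuleCat.ofHom (resD M 0) ≫ ModuleCat.ofHom (cover (syz M 0)).map = 0 :=
  ModuleCat.hom_ext (LinearMap.ext fun x => ((cover (syz M 1)).map x).2)

theorem resD_comp (M : ModuleCat.{u} R) (n : ℕ) :
    ModuleCat.ofHom (resD M (n + 1)) ≫ ModuleCat.ofHom (resD M n) = 0 :=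
  ModuleCat.hom_ext (LinearMap.ext fun x => by
    show (LinearMap.ker (cover (syz M n)).map).subtype
      ((cover (syz M (n + 1))).map ((cover (syz M (n + 2))).map x).1) = 0
    exact (congrArg ((LinearMap.ker (cover (syz M n)).map).subtype)
      (LinearMap.mem_ker.1 ((cover (syz M (n + 2))).map x).2)).trans (map_zero _))

theorem exists_pureProj_resolution (M : ModuleCat.{u} R) :
    ∃ (P : ChainComplex (ModuleCat.{u} R) ℕ) (π : P ⟶ (ChainComplex.single₀ (ModuleCat.{u} R)).obj M),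
      (∀ n : ℕ, ∃ (ι : Type u) (Q : ι → Type u) (_ : ∀ i, AddCommGroup (Q i)) (_ : ∀ i, Module R (Q i)),
        (∀ i, Module.FinitePresentation R (Q i)) ∧
        ∃ (s : P.X n →ₗ[R] (Π₀ i, Q i)) (r : (Π₀ i, Q i) →ₗ[R] P.X n), r ∘ₗ s = LinearMap.id) ∧
      ∀ N : ModuleCat.{u} R,
        QuasiIso (((tensorRight N).mapHomologicalComplex (ComplexShape.down ℕ)).map π) := by
  let P : ChainComplex (ModuleCat.{u} R) ℕ :=
    ChainComplex.of (fun n => (cover (syz M n)).obj) (fun n => ModuleCat.ofHom (resD M n)) (resD_comp M)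
  have hd : ∀ n, P.d (n + 1) n = ModuleCat.ofHom (resD M n) := fun n => by simp [P]
  let π : P ⟶ (ChainComplex.single₀ (ModuleCat.{u} R)).obj M :=
    (ChainComplex.toSingle₀Equiv P M).symm ⟨ModuleCat.ofHom (cover (syz M 0)).map, by
      rw [hd]; exact resD_zero M⟩
  have hπ : π.f 0 = ModuleCat.ofHom (cover (syz M 0)).map := ChainComplex.toSingle₀Equiv_symm_apply_f_zero _ _
  refine ⟨P, π, fun n => (cover (syz M n)).summand, (pureExact_down_iff π).2 fun T => ⟨fun n => ?_, ?_, ?_⟩⟩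
  · rw [hd, hd]
    exact resD_exact' M n T
  · rw [hd, hπ]
    exact resD_exact M 0 T
  · rw [hπ]
    exact LinearMap.rTensor_surjective T (cover (syz M 0)).surj

/-- The evaluation embedding into a pure injective. -/
noncomputable def cosyz (M : ModuleCat.{u} R) : ℕ → ModuleCat.{u} R
  | 0 => M
  | n + 1 => ModuleCat.of R
      (CharacterModule (CharacterModule (cosyz M n)) ⧸ LinearMap.range (PureExt.charEval R (cosyz M n)))

/-- Codifferentials. -/
noncomputable def coD (M : ModuleCat.{u} R) (n : ℕ) :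
    CharacterModule (CharacterModule (cosyz M n)) →ₗ[R] CharacterModule (CharacterModule (cosyz M (n + 1))) :=
  PureExt.charEval R (cosyz M (n + 1)) ∘ₗ (LinearMap.range (PureExt.charEval R (cosyz M n))).mkQ

theorem coD_exact (M : ModuleCat.{u} R) (n : ℕ) (T : Type u) [AddCommGroup T] [Module R T] :
    Function.Exact ((PureExt.charEval R (cosyz M n)).rTensor T) ((coD M n).rTensor T) := by
  intro y
  unfold coD
  rw [LinearMap.rTensor_comp]
  refine Iff.trans ⟨fun h => ?_, fun h => ?_⟩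
    (rTensor_exact T (LinearMap.exact_map_mkQ_range (PureExt.charEval R (cosyz M n)))
      (Submodule.mkQ_surjective _) y)
  · exact universallyInjective_charEval (cosyz M (n + 1)) T (h.trans (map_zero _).symm)
  · exact (congrArg _ h).trans (map_zero _)

theorem coD_exact' (M : ModuleCat.{u} R) (n : ℕ) (T : Type u) [AddCommGroup T] [Module R T] :
    Function.Exact ((coD M n).rTensor T) ((coD M (n + 1)).rTensor T) := by
  intro y
  rw [coD_exact M (n + 1) T y]
  constructor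
  · rintro ⟨x, rfl⟩
    obtain ⟨z, hz⟩ := LinearMap.rTensor_surjective T
      (Submodule.mkQ_surjective (LinearMap.range (PureExt.charEval R (cosyz M n)))) x
    exact ⟨z, by rw [coD, LinearMap.rTensor_comp, LinearMap.comp_apply]; exact congrArg _ hz⟩
  · rintro ⟨z, rfl⟩
    rw [coD, LinearMap.rTensor_comp, LinearMap.comp_apply]
    exact ⟨_, rfl⟩

theorem exists_pureInj_resolution (M : ModuleCat.{u} R) :
    ∃ (I : CochainComplex (ModuleCat.{u} R) ℕ) (η : (CochainComplex.single₀ (ModuleCat.{u} R)).obj M ⟶ I),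
      (∀ n : ℕ, PureInj R (I.X n)) ∧
      ∀ T : ModuleCat.{u} R,
      QuasiIso (((tensorRight T).mapHomologicalComplex (ComplexShape.up ℕ)).map η) := by
  have h0 : ∀ n, PureExt.charEval R (cosyz M (n + 1)) ∘ₗ
      (LinearMap.range (PureExt.charEval R (cosyz M n))).mkQ ∘ₗ PureExt.charEval R (cosyz M n) = 0 :=
    fun n => (congrArg (fun g => (PureExt.charEval R (cosyz M (n + 1))).comp g)
      (LinearMap.range_mkQ_comp (PureExt.charEval R (cosyz M n)))).trans (LinearMap.comp_zero _)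
  let I : CochainComplex (ModuleCat.{u} R) ℕ :=
    CochainComplex.of (fun n => ModuleCat.of R (CharacterModule (CharacterModule (cosyz M n))))
      (fun n => ModuleCat.ofHom (coD M n))
      (fun n => ModuleCat.hom_ext (LinearMap.ext fun x => by
        show coD M (n + 1) (coD M n x) = 0
        exact (congrArg (PureExt.charEval R (cosyz M (n + 2)))
          (LinearMap.congr_fun (LinearMap.range_mkQ_comp (PureExt.charEval R (cosyz M (n + 1))))
            ((LinearMap.range (PureExt.charEval R (cosyz M n))).mkQ x))).trans (map_zero _)))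
  have hd : ∀ n, I.d n (n + 1) = ModuleCat.ofHom (coD M n) := fun n => by simp [I]
  let η : (CochainComplex.single₀ (ModuleCat.{u} R)).obj M ⟶ I :=
    (CochainComplex.fromSingle₀Equiv I M).symm ⟨ModuleCat.ofHom (PureExt.charEval R (cosyz M 0)), by
      rw [hd]; exact ModuleCat.hom_ext (h0 0)⟩
  have hη : η.f 0 = ModuleCat.ofHom (PureExt.charEval R (cosyz M 0)) :=
    CochainComplex.fromSingle₀Equiv_symm_apply_f_zero _ _
  refine ⟨I, η, fun n => pureInj_characterModule _, (pureExact_up_iff η).2 fun T => ⟨fun n => ?_, ?_, ?_⟩⟩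
  · rw [hd, hd]
    exact coD_exact' M n T
  · rw [hd, hη]
    exact coD_exact M 0 T
  · rw [hη]
    exact universallyInjective_charEval (cosyz M 0) T

section Lift

variable {M N : ModuleCat.{u} R} (P K : ChainComplex (ModuleCat.{u} R) ℕ)
  (π : P ⟶ (ChainComplex.single₀ (ModuleCat.{u} R)).obj M)
  (ε : K ⟶ (ChainComplex.single₀ (ModuleCat.{u} R)).obj N)
  (hP : ∀ n : ℕ, PureProj R (P.X n))
  (hK : ∀ T : ModuleCat.{u} R,
    QuasiIso (((tensorRight T).mapHomologicalComplex (ComplexShape.down ℕ)).map ε))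

include hK

theorem down_exact (n : ℕ) : Function.Exact (K.d (n + 2) (n + 1)).hom (K.d (n + 1) n).hom :=
  exact_rTensor_of fun T => ((pureExact_down_iff ε).1 hK T).1 n

theorem down_exact₀ : Function.Exact (K.d 1 0).hom (ε.f 0).hom :=
  exact_rTensor_of fun T => ((pureExact_down_iff ε).1 hK T).2.1

include hP

theorem lift_zero (m : ℕ) (φ : P.X m ⟶ N) : ∃ ψ : P.X m ⟶ K.X 0, ψ ≫ ε.f 0 = φ := by
  obtain ⟨ψ, hψ⟩ := lift_pureProj (R := R) (N := (ModuleCat.of R N : ModuleCat.{u} R))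
    (K.d 2 1).hom (K.d 1 0).hom (ε.f 0).hom 0
    (fun Q _ _ => ((pureExact_down_iff ε).1 hK (ModuleCat.of R Q)).1 0) (down_exact₀ K ε hK)
    (exact_of_surjective _ (surjective_of_rTensor _ fun T => ((pureExact_down_iff ε).1 hK T).2.2))
    (hP m) φ.hom (LinearMap.zero_comp _)
  exact ⟨ModuleCat.ofHom ψ, ModuleCat.hom_ext hψ⟩

theorem lift_one (m : ℕ) (φ : P.X m ⟶ K.X 0) (h : φ ≫ ε.f 0 = 0) :
    ∃ ψ : P.X m ⟶ K.X 1, ψ ≫ K.d 1 0 = φ := by
  obtain ⟨ψ, hψ⟩ := lift_pureProj (R := R) (K.d 3 2).hom (K.d 2 1).hom (K.d 1 0).hom (ε.f 0).hom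
    (fun Q _ _ => ((pureExact_down_iff ε).1 hK (ModuleCat.of R Q)).1 1) (down_exact K ε hK 0)
    (down_exact₀ K ε hK) (hP m) φ.hom (congrArg ModuleCat.Hom.hom h)
  exact ⟨ModuleCat.ofHom ψ, ModuleCat.hom_ext hψ⟩

theorem lift_succ (m n : ℕ) (φ : P.X m ⟶ K.X (n + 1)) (h : φ ≫ K.d (n + 1) n = 0) :
    ∃ ψ : P.X m ⟶ K.X (n + 2), ψ ≫ K.d (n + 2) (n + 1) = φ := by
  obtain ⟨ψ, hψ⟩ := lift_pureProj (R := R) (K.d (n + 4) (n + 3)).hom (K.d (n + 3) (n + 2)).hom
    (K.d (n + 2) (n + 1)).hom (K.d (n + 1) n).hom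
    (fun Q _ _ => ((pureExact_down_iff ε).1 hK (ModuleCat.of R Q)).1 (n + 2)) (down_exact K ε hK (n + 1))
    (down_exact K ε hK n) (hP m) φ.hom (congrArg ModuleCat.Hom.hom h)
  exact ⟨ModuleCat.ofHom ψ, ModuleCat.hom_ext hψ⟩

theorem exists_chainMap (f : M ⟶ N) :
    ∃ φ : P ⟶ K, φ ≫ ε = π ≫ (ChainComplex.single₀ (ModuleCat.{u} R)).map f := by
  choose l0 hl0 using lift_zero P K ε hP hK
  choose l1 hl1 using lift_one P K ε hP hK
  choose ls hls using lift_succ P K ε hP hK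
  let z : P.X 0 ⟶ K.X 0 := l0 0 (π.f 0 ≫ f)
  have hz : z ≫ ε.f 0 = π.f 0 ≫ f := hl0 0 _
  have h1 : (P.d 1 0 ≫ z) ≫ ε.f 0 = 0 := by
    have h := π.comm 1 0
    simp only [HomologicalComplex.single_obj_d, Limits.comp_zero] at h
    rw [Category.assoc, hz]
    exact ((Category.assoc _ _ _).symm.trans (congrArg (· ≫ f) h.symm)).trans Limits.zero_comp
  have hs : ∀ (n : ℕ) (g : P.X n ⟶ K.X n) (g' : P.X (n + 1) ⟶ K.X (n + 1)),
      g' ≫ K.d (n + 1) n = P.d (n + 1) n ≫ g →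
      (P.d (n + 2) (n + 1) ≫ g') ≫ K.d (n + 1) n = 0 := fun n g g' w => by
    rw [Category.assoc, w, HomologicalComplex.d_comp_d_assoc, Limits.zero_comp]
  refine ⟨ChainComplex.mkHom P K z (l1 1 _ h1) (hl1 1 _ h1)
    (fun n p => ⟨ls (n + 2) n (P.d (n + 2) (n + 1) ≫ p.2.1) (hs n _ _ p.2.2), hls _ _ _ _⟩), ?_⟩
  apply HomologicalComplex.to_single_hom_ext
  rw [HomologicalComplex.comp_f, HomologicalComplex.comp_f, ChainComplex.mkHom_f_0, hz]
  exact congrArg (π.f 0 ≫ ·) (ChainComplex.single₀_map_f_zero f).symm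

theorem homotopy_zero (γ : P ⟶ K) (hγ : γ ≫ ε = 0) : Nonempty (Homotopy γ 0) := by
  choose l1 hl1 using lift_one P K ε hP hK
  choose ls hls using lift_succ P K ε hP hK
  have h0 : γ.f 0 ≫ ε.f 0 = 0 := HomologicalComplex.congr_hom hγ 0
  have h1 : (γ.f 1 - P.d 1 0 ≫ l1 0 _ h0) ≫ K.d 1 0 = 0 := by
    rw [Preadditive.sub_comp, Category.assoc, hl1, γ.comm, sub_self]
  have hs : ∀ (n : ℕ) (g : P.X n ⟶ K.X (n + 1)) (g' : P.X (n + 1) ⟶ K.X (n + 2)),
      γ.f (n + 1) = P.d (n + 1) n ≫ g + g' ≫ K.d (n + 2) (n + 1) →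
      (γ.f (n + 2) - P.d (n + 2) (n + 1) ≫ g') ≫ K.d (n + 2) (n + 1) = 0 := fun n g g' w => by
    rw [Preadditive.sub_comp, Category.assoc, γ.comm, w, Preadditive.comp_add,
      HomologicalComplex.d_comp_d_assoc, Limits.zero_comp, zero_add, sub_self]
  exact ⟨Homotopy.mkInductive γ (l1 0 _ h0) (hl1 0 _ h0).symm (ls 1 0 _ h1)
    (by rw [hls]; abel)
    fun n p => ⟨ls (n + 2) (n + 1) _ (hs n _ _ p.2.2), by rw [hls]; abel⟩⟩

end Lift

section CoLift

variable {M N : ModuleCat.{u} R} (K I : CochainComplex (ModuleCat.{u} R) ℕ)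
  (η : (CochainComplex.single₀ (ModuleCat.{u} R)).obj M ⟶ K)
  (ε : (CochainComplex.single₀ (ModuleCat.{u} R)).obj N ⟶ I)
  (hK : ∀ T : ModuleCat.{u} R,
    QuasiIso (((tensorRight T).mapHomologicalComplex (ComplexShape.up ℕ)).map η))
  (hI : ∀ n : ℕ, PureInj R (I.X n))

include hK hI

theorem colift_zero (m : ℕ) (φ : M ⟶ I.X m) : ∃ ψ : K.X 0 ⟶ I.X m, η.f 0 ≫ ψ = φ := by
  obtain ⟨ψ, hψ⟩ := hI m (η.f 0).hom
    (fun Q _ _ => ((pureExact_up_iff η).1 hK (ModuleCat.of R Q)).2.2) φ.hom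
  exact ⟨ModuleCat.ofHom ψ, ModuleCat.hom_ext hψ⟩

theorem colift_one (m : ℕ) (φ : K.X 0 ⟶ I.X m) (h : η.f 0 ≫ φ = 0) :
    ∃ ψ : K.X 1 ⟶ I.X m, K.d 0 1 ≫ ψ = φ := by
  obtain ⟨ψ, hψ⟩ := extend_pureInj (η.f 0).hom (K.d 0 1).hom
    (fun Q _ _ => ((pureExact_up_iff η).1 hK (ModuleCat.of R Q)).2.1) (hI m) φ.hom
    (congrArg ModuleCat.Hom.hom h)
  exact ⟨ModuleCat.ofHom ψ, ModuleCat.hom_ext hψ⟩

theorem colift_succ (m n : ℕ) (φ : K.X (n + 1) ⟶ I.X m) (h : K.d n (n + 1) ≫ φ = 0) :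
    ∃ ψ : K.X (n + 2) ⟶ I.X m, K.d (n + 1) (n + 2) ≫ ψ = φ := by
  obtain ⟨ψ, hψ⟩ := extend_pureInj (K.d n (n + 1)).hom (K.d (n + 1) (n + 2)).hom
    (fun Q _ _ => ((pureExact_up_iff η).1 hK (ModuleCat.of R Q)).1 n) (hI m) φ.hom
    (congrArg ModuleCat.Hom.hom h)
  exact ⟨ModuleCat.ofHom ψ, ModuleCat.hom_ext hψ⟩

theorem exists_cochainMap (f : M ⟶ N) :
    ∃ φ : K ⟶ I, η ≫ φ = (CochainComplex.single₀ (ModuleCat.{u} R)).map f ≫ ε := by
  choose l0 hl0 using colift_zero K I η hK hI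
  choose l1 hl1 using colift_one K I η hK hI
  choose ls hls using colift_succ K I η hK hI
  let z : K.X 0 ⟶ I.X 0 := l0 0 (f ≫ ε.f 0)
  have hz : η.f 0 ≫ z = f ≫ ε.f 0 := hl0 0 _
  have h1 : η.f 0 ≫ (z ≫ I.d 0 1) = 0 := by
    have h := ε.comm 0 1
    simp only [HomologicalComplex.single_obj_d, Limits.zero_comp] at h
    rw [← Category.assoc, hz]
    exact ((Category.assoc _ _ _).trans (congrArg (f ≫ ·) h)).trans Limits.comp_zero
  have hs : ∀ (n : ℕ) (g : K.X n ⟶ I.X n) (g' : K.X (n + 1) ⟶ I.X (n + 1)),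
      g ≫ I.d n (n + 1) = K.d n (n + 1) ≫ g' →
      K.d n (n + 1) ≫ (g' ≫ I.d (n + 1) (n + 2)) = 0 := fun n g g' w => by
    rw [← Category.assoc, ← w, Category.assoc, HomologicalComplex.d_comp_d, Limits.comp_zero]
  refine ⟨CochainComplex.mkHom K I z (l1 1 _ h1) (hl1 1 _ h1).symm
    (fun n p => ⟨ls (n + 2) n (p.2.1 ≫ I.d (n + 1) (n + 2)) (hs n _ _ p.2.2), (hls _ _ _ _).symm⟩), ?_⟩
  apply HomologicalComplex.from_single_hom_ext
  rw [HomologicalComplex.comp_f, HomologicalComplex.comp_f, CochainComplex.mkHom_f_0, hz]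
  exact congrArg (· ≫ ε.f 0) (CochainComplex.single₀_map_f_zero f).symm

theorem cohomotopy_zero (γ : K ⟶ I) (hγ : η ≫ γ = 0) : Nonempty (Homotopy γ 0) := by
  choose l1 hl1 using colift_one K I η hK hI
  choose ls hls using colift_succ K I η hK hI
  have h0 : η.f 0 ≫ γ.f 0 = 0 := HomologicalComplex.congr_hom hγ 0
  have h1 : K.d 0 1 ≫ (γ.f 1 - l1 0 _ h0 ≫ I.d 0 1) = 0 := by
    rw [Preadditive.comp_sub, ← Category.assoc, hl1, γ.comm, sub_self]
  have hs : ∀ (n : ℕ) (g : K.X (n + 1) ⟶ I.X n) (g' : K.X (n + 2) ⟶ I.X (n + 1)),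
      γ.f (n + 1) = g ≫ I.d n (n + 1) + K.d (n + 1) (n + 2) ≫ g' →
      K.d (n + 1) (n + 2) ≫ (γ.f (n + 2) - g' ≫ I.d (n + 1) (n + 2)) = 0 := fun n g g' w => by
    rw [Preadditive.comp_sub, ← γ.comm, w, Preadditive.add_comp, Category.assoc, Category.assoc,
      HomologicalComplex.d_comp_d, Limits.comp_zero, zero_add, sub_self]
  exact ⟨Homotopy.mkCoinductive γ (l1 0 _ h0) (hl1 0 _ h0).symm (ls 1 0 _ h1)
    (by rw [hls]; abel)
    fun n p => ⟨ls (n + 2) (n + 1) _ (hs n _ _ p.2.2), by rw [hls]; abel⟩⟩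

end CoLift

end Groth.Agent.CAlgT1
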