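import Mathlib
import Groth.Prelude.Def_CAlgX

/-!
# Appending an `H₁`-regular sequence to a quasi-regular sequence

An `H₁`-regular sequence is of linear type (`linearType`); from this the intersections
`(J + G)^N ⊓ J^k` are computed and quasi-regularity of the concatenation follows.
-/

noncomputable section

universe u

open MvPolynomial

namespace Groth.Agent.CAlgQRAppend

variable {A : Type u} [CommRing A] {n m : ℕ}

/-- The ideal of linear Koszul syzygies. -/
def kosz (g : Fin m → A) : Ideal (MvPolynomial (Fin m) A) :=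
  Ideal.span (Set.range fun p : Fin m × Fin m => C (g p.2) * X p.1 - C (g p.1) * X p.2)

theorem exists_lift_kosz (g : Fin m → A) {z : MvPolynomial (Fin m) A} (hz : z ∈ kosz g) :
    ∃ T : Fin m → MvPolynomial (Fin m) A, ∑ i, C (g i) * T i = z ∧ ∑ i, X i * T i = 0 := by
  classical
  induction hz using Submodule.span_induction with
  | mem x hx =>
    obtain ⟨⟨i, j⟩, rfl⟩ := hx
    refine ⟨Pi.single j (X i) - Pi.single i (X j), ?_, ?_⟩ <;>
      simp [mul_sub, sub_mul, ite_mul, mul_ite, Finset.sum_sub_distrib, Pi.single_apply, Finset.sum_ite_eq', mul_comm]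
  | zero => exact ⟨0, by simp, by simp⟩
  | add x y _ _ hx hy =>
    obtain ⟨T, hT, hT'⟩ := hx
    obtain ⟨U, hU, hU'⟩ := hy
    exact ⟨T + U, by simp [mul_add, Finset.sum_add_distrib, hT, hU],
      by simp [mul_add, Finset.sum_add_distrib, hT', hU']⟩
  | smul h x _ hx =>
    obtain ⟨T, hT, hT'⟩ := hx
    exact ⟨h • T, by simp [mul_left_comm _ h, ← Finset.mul_sum, hT],
      by simp [mul_left_comm _ h, ← Finset.mul_sum, hT']⟩

theorem linear_mem_kosz (g : Fin m → A) {a : Fin m → A}
    (ha : a ∈ Submodule.span A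
      {v : Fin m → A | ∃ i j : Fin m, v = Pi.single i (g j) - Pi.single j (g i)}) :
    ∑ i, C (a i) * X i ∈ kosz g := by
  classical
  induction ha using Submodule.span_induction with
  | mem x hx =>
    obtain ⟨i, j, rfl⟩ := hx
    have : ∑ l, C ((Pi.single i (g j) - Pi.single j (g i) : Fin m → A) l) * X l =
        C (g j) * X i - C (g i) * X j := by
      simp [sub_mul, Finset.sum_sub_distrib, Pi.single_apply, apply_ite C, ite_mul]
    rw [this]
    exact Ideal.subset_span ⟨(i, j), rfl⟩
  | zero => simp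
  | add x y _ _ hx hy =>
    simp only [Pi.add_apply, map_add, add_mul, Finset.sum_add_distrib]
    exact add_mem hx hy
  | smul h x _ hx =>
    simp only [Pi.smul_apply, smul_eq_mul, map_mul, mul_assoc, ← Finset.mul_sum]
    exact Ideal.mul_mem_left _ _ hx

theorem mul_X_mem_kosz (g : Fin m → A) (hg : CAlgX.IsH1Regular g)
    (T : Fin m → MvPolynomial (Fin m) A) (hT : ∑ i, C (g i) * T i ∈ kosz g) :
    ∑ i, X i * T i ∈ kosz g := by
  classical
  obtain ⟨U, hU, hU'⟩ := exists_lift_kosz g hT
  have hV : ∑ i, C (g i) * (T i - U i) = 0 := by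
    simp [mul_sub, Finset.sum_sub_distrib, hU]
  have hμ : ∑ i, X i * T i = ∑ i, X i * (T i - U i) := by
    simp [mul_sub, Finset.sum_sub_distrib, hU']
  rw [hμ]
  let s := Finset.univ.biUnion fun i => (T i - U i).support
  have hdec : ∀ i, T i - U i = ∑ β ∈ s, monomial β (coeff β (T i - U i)) := by
    intro i
    conv_lhs => rw [as_sum (T i - U i)]
    exact Finset.sum_subset (fun β hβ => Finset.mem_biUnion.2 ⟨i, Finset.mem_univ i, hβ⟩)
      fun β _ hβ => by rw [notMem_support_iff.1 hβ, monomial_zero]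
  have e : ∑ i, X i * (T i - U i) =
      ∑ β ∈ s, monomial β 1 * ∑ i, C (coeff β (T i - U i)) * X i := by
    calc ∑ i, X i * (T i - U i)
        = ∑ i, X i * ∑ β ∈ s, monomial β (coeff β (T i - U i)) :=
          Finset.sum_congr rfl fun i _ => by rw [← hdec i]
      _ = ∑ β ∈ s, monomial β 1 * ∑ i, C (coeff β (T i - U i)) * X i := by
          simp only [Finset.mul_sum]
          rw [Finset.sum_comm]
          refine Finset.sum_congr rfl fun β _ => Finset.sum_congr rfl fun i _ => ?_
          rw [← mul_assoc (monomial β 1), mul_comm (monomial β 1) (C _), C_mul_monomial, mul_one,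
            mul_comm]
  rw [e]
  exact sum_mem fun β _ => Ideal.mul_mem_left _ _ (linear_mem_kosz g (hg _ (by
        have := congrArg (coeff β) hV
        simp only [coeff_sum, coeff_C_mul, coeff_zero] at this
        exact (Finset.sum_congr rfl fun i _ => mul_comm _ _).trans this)))

/-- An `H₁`-regular sequence is of linear type. -/
theorem linearType (g : Fin m → A) (hg : CAlgX.IsH1Regular g) :
    ∀ (d : ℕ) (Q : MvPolynomial (Fin m) A), Q.IsHomogeneous d → eval g Q = 0 → Q ∈ kosz g := by
  classical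
  intro d
  induction d with
  | zero =>
    intro Q hQ he
    have h0 : Q = C (coeff 0 Q) :=
      totalDegree_eq_zero_iff_eq_C.1 ((totalDegree_zero_iff_isHomogeneous _).2 hQ)
    rw [h0, eval_C] at he
    rw [h0, he, map_zero]
    exact zero_mem _
  | succ d ih =>
    intro Q hQ he
    have hex : ∃ T : Fin m → MvPolynomial (Fin m) A,
        ∑ i, X i * T i = Q ∧ ∀ i, (T i).IsHomogeneous d := by
      have hsel : ∀ β ∈ Q.support, ∃ i, β i ≠ 0 := by
        intro β hβ
        by_contra hc
        push Not at hc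
        have hdeg := hQ (mem_support_iff.1 hβ)
        rw [show β = 0 from Finsupp.ext hc] at hdeg
        simp at hdeg
      choose sel hsel using hsel
      refine ⟨fun i => ∑ β ∈ Q.support.attach,
        if sel β.1 β.2 = i then monomial (β.1 - Finsupp.single i 1) (coeff β.1 Q) else 0, ?_, ?_⟩
      · simp only [Finset.mul_sum, mul_ite, mul_zero]
        rw [Finset.sum_comm]
        simp only [Finset.sum_ite_eq, Finset.mem_univ, if_true]
        conv_rhs => rw [as_sum Q, ← Finset.sum_attach]
        refine Finset.sum_congr rfl fun β _ => ?_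
        rw [X, monomial_mul, one_mul,
          add_tsub_cancel_of_le (Finsupp.single_le_iff.2 (Nat.one_le_iff_ne_zero.2 (hsel β.1 β.2)))]
      · refine fun i => IsHomogeneous.sum _ _ _ fun β _ => ?_
        split_ifs with h
        · subst h
          refine isHomogeneous_monomial _ ?_
          have hdeg := hQ (mem_support_iff.1 β.2)
          have hle : Finsupp.single (sel β.1 β.2) 1 ≤ β.1 :=
            Finsupp.single_le_iff.2 (Nat.one_le_iff_ne_zero.2 (hsel β.1 β.2))
          rw [← tsub_add_cancel_of_le hle, map_add, Finsupp.weight_single] at hdeg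
          simp at hdeg ⊢
          rw [Finsupp.degree_eq_weight_one]
          exact hdeg
        · exact isHomogeneous_zero _ _ _
    obtain ⟨T, hT, hTd⟩ := hex
    rw [← hT]
    refine mul_X_mem_kosz g hg T (ih _ (IsHomogeneous.sum _ _ _ fun i _ => (hTd i).C_mul _) ?_)
    rw [← hT] at he
    simpa using he

theorem kosz_le_map (g : Fin m → A) :
    kosz g ≤ (Ideal.span (Set.range g)).map (C : A →+* MvPolynomial (Fin m) A) :=
  Ideal.span_le.2 fun _ ⟨p, hp⟩ => hp ▸ sub_mem
    (Ideal.mul_mem_right _ _ (Ideal.mem_map_of_mem _ (Ideal.subset_span ⟨p.2, rfl⟩)))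
    (Ideal.mul_mem_right _ _ (Ideal.mem_map_of_mem _ (Ideal.subset_span ⟨p.1, rfl⟩)))

theorem eval_monomial_mem {c : ℕ} (f : Fin c → A) (β : Fin c →₀ ℕ) :
    β.prod (fun i e => f i ^ e) ∈ Ideal.span (Set.range f) ^ β.degree := by
  induction β using Finsupp.induction with
  | zero => simp
  | single_add a b β' ha hb ih =>
    rw [Finsupp.prod_add_index' (fun i => pow_zero _) (fun i x y => pow_add _ _ _),
      Finsupp.prod_single_index (h := fun i e => f i ^ e) (pow_zero _), map_add, Finsupp.degree_single, pow_add]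
    exact Ideal.mul_mem_mul (Ideal.pow_mem_pow (Ideal.subset_span (Set.mem_range_self (f := f) a)) _) ih

theorem eval_mem {c : ℕ} (f : Fin c → A) {k : ℕ} {M : Ideal A} {P : MvPolynomial (Fin c) A}
    (hP : P.IsHomogeneous k) (hc : ∀ d, coeff d P ∈ M) :
    eval f P ∈ Ideal.span (Set.range f) ^ k * M := by
  rw [as_sum P, map_sum]
  refine sum_mem fun β hβ => ?_
  rw [eval_monomial, mul_comm (coeff β P)]
  refine Ideal.mul_mem_mul ?_ (hc β)
  have hdeg : β.degree = k := by
    rw [Finsupp.degree_eq_weight_one]; exact hP (mem_support_iff.1 hβ)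
  exact hdeg ▸ eval_monomial_mem f β

theorem exists_eval {c : ℕ} (f : Fin c → A) (k : ℕ) (M : Ideal A) {x : A}
    (hx : x ∈ Ideal.span (Set.range f) ^ k * M) :
    ∃ P : MvPolynomial (Fin c) A, P.IsHomogeneous k ∧ (∀ d, coeff d P ∈ M) ∧ eval f P = x := by
  classical
  induction k generalizing x with
  | zero =>
    rw [pow_zero, Ideal.one_eq_top, Ideal.top_mul] at hx
    refine ⟨C x, isHomogeneous_C _ _, fun d => ?_, eval_C x⟩
    rw [coeff_C]
    split_ifs
    · exact hx
    · exact zero_mem _
  | succ k ih =>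
    rw [pow_succ', mul_assoc] at hx
    induction hx using Submodule.mul_induction_on' with
    | mem_mul_mem j hj y hy =>
      obtain ⟨P, hP, hPc, rfl⟩ := ih hy
      obtain ⟨a, rfl⟩ := (Ideal.mem_span_range_iff_exists_fun).1 hj
      refine ⟨(∑ i, C (a i) * X i) * P, ?_, ?_, by simp⟩
      · rw [add_comm k 1]
        exact IsHomogeneous.mul (IsHomogeneous.sum _ _ _ fun i _ => (isHomogeneous_X _ i).C_mul _) hP
      · exact mem_map_C_iff.1 (Ideal.mul_mem_left _ _ (mem_map_C_iff.2 hPc))
    | add x _ y _ hx hy =>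
      obtain ⟨P, hP, hPc, rfl⟩ := hx
      obtain ⟨Q, hQ, hQc, rfl⟩ := hy
      exact ⟨P + Q, hP.add hQ, fun d => by rw [coeff_add]; exact add_mem (hPc d) (hQc d), map_add _ _ _⟩

variable (J : Ideal A) (g : Fin m → A)
  (hg : CAlgX.IsH1Regular (fun j => Ideal.Quotient.mk J (g j)))

include hg

theorem homogeneous_of_eval_mem {d : ℕ} {Q : MvPolynomial (Fin m) A} (hQ : Q.IsHomogeneous d)
    (he : eval g Q ∈ J) :
    (∀ β, coeff β Q ∈ J ⊔ Ideal.span (Set.range g)) ∧
      eval g Q ∈ J * Ideal.span (Set.range g) ^ d := by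
  classical
  let q := Ideal.Quotient.mk J
  have hq : MvPolynomial.map q Q ∈ kosz fun j => q (g j) := by
    refine linearType _ hg d _ (hQ.map q) ?_
    rw [eval_map, show (fun j => q (g j)) = q ∘ g from rfl, ← eval₂_comp q g Q]
    exact Ideal.Quotient.eq_zero_iff_mem.2 he
  have hk : kosz (fun j => q (g j)) = (kosz g).map (MvPolynomial.map q) := by
    rw [kosz, kosz, Ideal.map_span, ← Set.range_comp]
    congr 1
    ext; simp
  rw [hk, Ideal.mem_map_iff_of_surjective _ (map_surjective q Ideal.Quotient.mk_surjective)] at hq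
  obtain ⟨z, hz, hzQ⟩ := hq
  have hR : ∀ β, coeff β (Q - z) ∈ J := fun β => by
    rw [← Ideal.Quotient.eq_zero_iff_mem, ← coeff_map, map_sub, hzQ, sub_self, coeff_zero]
  refine ⟨fun β => ?_, ?_⟩
  · have h1 : coeff β z ∈ Ideal.span (Set.range g) := mem_map_C_iff.1 (kosz_le_map g hz) β
    have h2 : coeff β Q = coeff β (Q - z) + coeff β z := by simp
    rw [h2]
    exact Submodule.add_mem_sup (hR β) h1
  · let σ : MvPolynomial (Fin m) A →+* Polynomial A :=
      eval₂Hom Polynomial.C fun i => Polynomial.C (g i) * Polynomial.X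
    have hσ : ∀ (β : Fin m →₀ ℕ) (c : A),
        σ (monomial β c) = Polynomial.C (c * β.prod fun i e => g i ^ e) * Polynomial.X ^ β.degree := by
      intro β c
      simp only [σ, eval₂Hom_monomial, mul_pow, Finsupp.prod, Finset.prod_mul_distrib, map_mul,
        map_prod, map_pow, Finset.prod_pow_eq_pow_sum, Finsupp.degree, mul_assoc]
      rfl
    have hσQ : eval g Q = (σ Q).coeff d := by
      conv_rhs => rw [as_sum Q, map_sum, Polynomial.finsetSum_coeff]
      conv_lhs => rw [as_sum Q, map_sum]
      refine Finset.sum_congr rfl fun β hβ => ?_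
      have hdeg : β.degree = d := by
        rw [Finsupp.degree_eq_weight_one]; exact hQ (mem_support_iff.1 hβ)
      rw [hσ, hdeg, Polynomial.coeff_C_mul_X_pow, if_pos rfl, eval_monomial]
    have hσz : ∀ w ∈ kosz g, σ w = 0 := fun w hw => by
      induction hw using Submodule.span_induction with
      | mem x hx => obtain ⟨p, rfl⟩ := hx; simp [σ]; ring
      | zero => simp
      | add a b _ _ ha hb => simp [ha, hb]
      | smul a b _ hb => simp [hb]
    rw [hσQ, ← sub_add_cancel Q z, map_add, hσz z hz, add_zero, as_sum (Q - z), map_sum,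
      Polynomial.finsetSum_coeff]
    refine sum_mem fun β _ => ?_
    rw [hσ, Polynomial.coeff_C_mul_X_pow]
    split_ifs with h
    · exact Ideal.mul_mem_mul (hR β) (h ▸ eval_monomial_mem g β)
    · exact zero_mem _

theorem inf_pow_le (d : ℕ) :
    J ⊓ Ideal.span (Set.range g) ^ d ≤ J * Ideal.span (Set.range g) ^ d := by
  rintro x ⟨hxJ, hxG⟩
  obtain ⟨Q, hQ, -, rfl⟩ := exists_eval g d ⊤ (by rwa [Ideal.mul_top])
  exact (homogeneous_of_eval_mem J g hg hQ hxJ).2


omit hg

theorem mem_of_mem_span_pow {f : Fin n → A} (hf : CAlgX.IsQuasiRegular f) {k : ℕ}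
    {P : MvPolynomial (Fin n) A} (hP : P.IsHomogeneous k)
    (he : eval f P ∈ Ideal.span (Set.range f) ^ (k + 1)) :
    ∀ d, coeff d P ∈ Ideal.span (Set.range f) := hf k P hP he

theorem pow_mul_inf_le (f : Fin n → A) (g : Fin m → A) (hf : CAlgX.IsQuasiRegular f)
    (hg : CAlgX.IsH1Regular fun j => Ideal.Quotient.mk (Ideal.span (Set.range f)) (g j)) (k d : ℕ) :
    Ideal.span (Set.range f) ^ k * Ideal.span (Set.range g) ^ d ⊓ Ideal.span (Set.range f) ^ (k + 1) ≤
      Ideal.span (Set.range f) ^ (k + 1) * Ideal.span (Set.range g) ^ d := by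
  rintro x ⟨hx, hxJ⟩
  obtain ⟨P, hP, hPc, rfl⟩ := exists_eval f k _ hx
  have hJ := mem_of_mem_span_pow hf hP hxJ
  rw [pow_succ, mul_assoc]
  exact eval_mem f hP fun e => inf_pow_le _ g hg d ⟨hJ e, hPc e⟩

theorem pow_inf_pow_le (f : Fin n → A) (g : Fin m → A) (hf : CAlgX.IsQuasiRegular f)
    (hg : CAlgX.IsH1Regular fun j => Ideal.Quotient.mk (Ideal.span (Set.range f)) (g j)) :
    ∀ (k N : ℕ), k ≤ N →
      (Ideal.span (Set.range f) ⊔ Ideal.span (Set.range g)) ^ N ⊓ Ideal.span (Set.range f) ^ k ≤
        Ideal.span (Set.range f) ^ k *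
          (Ideal.span (Set.range f) ⊔ Ideal.span (Set.range g)) ^ (N - k) := by
  intro k
  induction k with
  | zero => intro N _; rw [pow_zero, Ideal.one_eq_top, Ideal.top_mul, Nat.sub_zero]; exact inf_le_left
  | succ k ih =>
    intro N hN
    obtain ⟨d, hd⟩ : ∃ d, N - k = d + 1 := ⟨N - k - 1, by omega⟩
    have hd' : N - (k + 1) = d := by omega
    rintro x ⟨hxI, hxJ⟩
    have hx := ih N (by omega) ⟨hxI, Ideal.pow_le_pow_right (Nat.le_succ k) hxJ⟩
    rw [hd] at hx
    rw [hd']
    have hI : (Ideal.span (Set.range f) ⊔ Ideal.span (Set.range g)) ^ (d + 1) ≤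
        Ideal.span (Set.range g) ^ (d + 1) ⊔
          Ideal.span (Set.range f) * (Ideal.span (Set.range f) ⊔ Ideal.span (Set.range g)) ^ d := by
      clear hd hd' hx
      induction d with
      | zero => rw [pow_one, pow_one, pow_zero, mul_one, sup_comm]
      | succ d ihd =>
        rw [pow_succ' (Ideal.span (Set.range f) ⊔ _) (d + 1), Ideal.sup_mul]
        refine sup_le le_sup_right ((Ideal.mul_mono_right ihd).trans ?_)
        rw [Ideal.mul_sup]
        refine sup_le (le_sup_of_le_left (pow_succ' _ _).ge) (le_sup_of_le_right ?_)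
        rw [mul_left_comm, pow_succ']
        exact Ideal.mul_mono_right (Ideal.mul_mono_left le_sup_right)
    have hx' := Ideal.mul_mono_right hI hx
    rw [Ideal.mul_sup, ← mul_assoc, ← pow_succ] at hx'
    obtain ⟨a, ha, b, hb, rfl⟩ := Submodule.mem_sup.1 hx'
    have hbJ : b ∈ Ideal.span (Set.range f) ^ (k + 1) := Ideal.mul_le_left hb
    have haJ : a ∈ Ideal.span (Set.range f) ^ (k + 1) := by simpa using sub_mem hxJ hbJ
    refine add_mem (Ideal.mul_mono_right ?_ (pow_mul_inf_le f g hf hg k (d + 1) ⟨ha, haJ⟩)) hb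
    exact (Ideal.pow_le_pow_right (Nat.le_succ d)).trans (Ideal.pow_right_mono le_sup_right d)

/-- the `Fin n` part of a multi-index -/
def fstPart (d : Fin (n + m) →₀ ℕ) : Fin n →₀ ℕ :=
  Finsupp.equivFunOnFinite.symm fun i => d (Fin.castAdd m i)

/-- the `Fin m` part of a multi-index -/
def sndPart (d : Fin (n + m) →₀ ℕ) : Fin m →₀ ℕ :=
  Finsupp.equivFunOnFinite.symm fun i => d (Fin.natAdd n i)

theorem degree_parts (d : Fin (n + m) →₀ ℕ) : d.degree = (fstPart d).degree + (sndPart d).degree := by
  simp [Finsupp.degree_eq_sum, Fin.sum_univ_add, fstPart, sndPart]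

theorem parts_inj {d e : Fin (n + m) →₀ ℕ} (h1 : fstPart d = fstPart e) (h2 : sndPart d = sndPart e) :
    d = e := by
  ext i
  refine Fin.addCases (fun i => ?_) (fun i => ?_) i
  · exact DFunLike.congr_fun h1 i
  · exact DFunLike.congr_fun h2 i

theorem eval_append (f : Fin n → A) (g : Fin m → A) (d : Fin (n + m) →₀ ℕ) (c : A) :
    eval (Fin.append f g) (monomial d c) =
      (c * (sndPart d).prod fun i e => g i ^ e) * (fstPart d).prod fun i e => f i ^ e := by
  rw [eval_monomial, Finsupp.prod_fintype _ _ (fun _ => pow_zero _),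
    Finsupp.prod_fintype _ _ (fun _ => pow_zero _), Finsupp.prod_fintype _ _ (fun _ => pow_zero _),
    Fin.prod_univ_add]
  simp only [Fin.append_left, Fin.append_right, fstPart, sndPart, Finsupp.equivFunOnFinite_symm_apply_apply]
  ring

theorem isQuasiRegular_append (f : Fin n → A) (g : Fin m → A) (hf : CAlgX.IsQuasiRegular f)
    (hg : CAlgX.IsH1Regular fun j => Ideal.Quotient.mk (Ideal.span (Set.range f)) (g j)) :
    CAlgX.IsQuasiRegular (Fin.append f g) := by
  classical
  intro N P hP he
  have hrange : Ideal.span (Set.range (Fin.append f g)) =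
      Ideal.span (Set.range f) ⊔ Ideal.span (Set.range g) := by
    rw [← Ideal.span_union]
    congr 1
    ext x
    constructor
    · rintro ⟨i, rfl⟩
      refine Fin.addCases (fun i => ?_) (fun i => ?_) i
      · exact Or.inl ⟨i, by simp⟩
      · exact Or.inr ⟨i, by simp⟩
    · rintro (⟨i, rfl⟩ | ⟨i, rfl⟩)
      · exact ⟨Fin.castAdd m i, by simp⟩
      · exact ⟨Fin.natAdd n i, by simp⟩
  rw [hrange] at he ⊢
  set J := Ideal.span (Set.range f) with hJdef
  set G := Ideal.span (Set.range g) with hGdef
  set I := J ⊔ G with hIdef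
  suffices H : ∀ k, ∀ d, (fstPart d).degree < k → coeff d P ∈ I from
    fun d => H ((fstPart d).degree + 1) d (Nat.lt_succ_self _)
  intro k
  induction k with
  | zero => intro d hd; exact absurd hd (Nat.not_lt_zero _)
  | succ k ih =>
    intro d₀ hd₀
    rcases lt_or_eq_of_le (Nat.lt_succ_iff.1 hd₀) with h | h
    · exact ih d₀ h
    by_cases hd₀s : d₀ ∈ P.support
    swap
    · rw [notMem_support_iff.1 hd₀s]; exact zero_mem _
    have hdeg : ∀ d ∈ P.support, (fstPart d).degree + (sndPart d).degree = N := fun d hd => by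
      rw [← degree_parts, Finsupp.degree_eq_weight_one]
      exact hP (mem_support_iff.1 hd)
    have hkN : k ≤ N := h ▸ (hdeg d₀ hd₀s).le.trans' (Nat.le_add_right _ _)
    let term := fun d => eval (Fin.append f g) (monomial d (coeff d P))
    have hterm : ∀ d ∈ P.support, term d ∈ J ^ (fstPart d).degree * G ^ (sndPart d).degree := by
      intro d _
      simp only [term, eval_append]
      rw [mul_comm _ (Finsupp.prod (fstPart d) _)]
      exact Ideal.mul_mem_mul (eval_monomial_mem f _) (Ideal.mul_mem_left _ _ (eval_monomial_mem g _))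
    let S := P.support.filter fun d => (fstPart d).degree = k
    let Slo := P.support.filter fun d => (fstPart d).degree < k
    let Shi := P.support.filter fun d => k < (fstPart d).degree
    have hsplit : eval (Fin.append f g) P = ∑ d ∈ Slo, term d + ∑ d ∈ S, term d + ∑ d ∈ Shi, term d := by
      conv_lhs => rw [as_sum P, map_sum]
      rw [← Finset.sum_filter_add_sum_filter_not P.support fun d => (fstPart d).degree < k, add_assoc]
      congr 1
      rw [← Finset.sum_filter_add_sum_filter_not (P.support.filter _) fun d => (fstPart d).degree = k,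
        Finset.filter_filter, Finset.filter_filter]
      congr 1
      · exact Finset.sum_congr (Finset.filter_congr fun d _ => by omega) fun _ _ => rfl
      · exact Finset.sum_congr (Finset.filter_congr fun d _ => by omega) fun _ _ => rfl
    have hlo : ∑ d ∈ Slo, term d ∈ I ^ (N + 1) := by
      refine sum_mem fun d hd => ?_
      obtain ⟨hd, hdk⟩ := Finset.mem_filter.1 hd
      rw [← hdeg d hd, pow_succ', pow_add]
      simp only [term, eval_append]
      rw [mul_assoc, mul_comm (Finsupp.prod _ _) (Finsupp.prod _ _)]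
      exact Ideal.mul_mem_mul (ih d hdk) (Ideal.mul_mem_mul
        (Ideal.pow_right_mono le_sup_left _ (eval_monomial_mem f _))
        (Ideal.pow_right_mono le_sup_right _ (eval_monomial_mem g _)))
    have hhiJ : ∑ d ∈ Shi, term d ∈ J ^ (k + 1) := sum_mem fun d hd => by
      obtain ⟨hd, hdk⟩ := Finset.mem_filter.1 hd
      exact Ideal.pow_le_pow_right hdk (Ideal.mul_le_left (hterm d hd))
    have hSJ : ∑ d ∈ S, term d ∈ J ^ k := sum_mem fun d hd => by
      obtain ⟨hd, hdk⟩ := Finset.mem_filter.1 hd
      exact hdk ▸ Ideal.mul_le_left (hterm d hd)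
    have hx : ∑ d ∈ S, term d + ∑ d ∈ Shi, term d ∈ I ^ (N + 1) ⊓ J ^ k := by
      refine ⟨?_, add_mem hSJ (Ideal.pow_le_pow_right (Nat.le_succ k) hhiJ)⟩
      have := sub_mem he hlo
      rwa [hsplit, add_assoc, add_sub_cancel_left] at this
    have hx2 : ∑ d ∈ S, term d + ∑ d ∈ Shi, term d ∈ J ^ k * G ^ (N + 1 - k) ⊔ J ^ (k + 1) := by
      have h2 := pow_inf_pow_le f g hf hg k (N + 1) (by omega) hx
      rw [show N + 1 - k = (N - k) + 1 by omega] at h2 ⊢
      refine (?_ : J ^ k * I ^ (N - k + 1) ≤ _) h2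
      have hIle : ∀ e, I ^ e ≤ G ^ e ⊔ J := by
        intro e
        induction e with
        | zero => simp
        | succ e ihe =>
          rw [pow_succ, pow_succ]
          refine (Ideal.mul_mono_left ihe).trans ?_
          rw [Ideal.sup_mul, hIdef, Ideal.mul_sup]
          exact sup_le (sup_le (le_sup_of_le_right Ideal.mul_le_right) le_sup_left)
            (le_sup_of_le_right Ideal.mul_le_left)
      exact (Ideal.mul_mono_right (hIle _)).trans (by rw [Ideal.mul_sup, pow_succ J k])
    obtain ⟨a, ha, b, hb, hab⟩ := Submodule.mem_sup.1 hx2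
    obtain ⟨Y, hY, hYc, hYe⟩ := exists_eval f k _ ha
    let H : MvPolynomial (Fin n) A :=
      ∑ d ∈ S, monomial (fstPart d) (coeff d P * (sndPart d).prod fun i e => g i ^ e)
    have hH : H.IsHomogeneous k := IsHomogeneous.sum _ _ _ fun d hd =>
      isHomogeneous_monomial _ (Finset.mem_filter.1 hd).2
    have hHe : eval f H = ∑ d ∈ S, term d := by
      simp only [H, map_sum, term, eval_append]
      simp only [eval_monomial]
    have hHY := mem_of_mem_span_pow hf (hH.sub hY) (by
      rw [map_sub, hHe, hYe, show ∑ d ∈ S, term d - a = b - ∑ d ∈ Shi, term d by linear_combination hab.symm]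
      exact sub_mem hb hhiJ) (fstPart d₀)
    obtain ⟨Q', hQ', hQ'c, hQ'e⟩ := exists_eval g (N - k) G (x := coeff (fstPart d₀) Y) (by
      have := hYc (fstPart d₀)
      rwa [← pow_succ, show N - k + 1 = N + 1 - k by omega])
    let S₀ := S.filter fun d => fstPart d = fstPart d₀
    let Q : MvPolynomial (Fin m) A := ∑ d ∈ S₀, monomial (sndPart d) (coeff d P)
    have hQ : Q.IsHomogeneous (N - k) := IsHomogeneous.sum _ _ _ fun d hd => by
      obtain ⟨hd, -⟩ := Finset.mem_filter.1 hd
      obtain ⟨hd, hdk⟩ := Finset.mem_filter.1 hd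
      refine isHomogeneous_monomial _ ?_
      have := hdeg d hd
      omega
    have hQe : eval g (Q - Q') = coeff (fstPart d₀) (H - Y) := by
      rw [map_sub, hQ'e, coeff_sub]
      congr 1
      simp only [Q, H, map_sum, eval_monomial, coeff_sum, coeff_monomial, S₀, Finset.sum_filter,
        apply_ite (eval g), map_zero]
    have hc := (homogeneous_of_eval_mem J g hg (hQ.sub hQ') (hQe ▸ hHY)).1 (sndPart d₀)
    rw [coeff_sub] at hc
    have hd₀S : d₀ ∈ S₀ := by simp [S₀, S, hd₀s, h]
    have hQc : coeff (sndPart d₀) Q = coeff d₀ P := by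
      simp only [Q, coeff_sum, coeff_monomial]
      rw [Finset.sum_eq_single d₀ (fun d hd hne => if_neg fun e =>
        hne (parts_inj (Finset.mem_filter.1 hd).2 e)) (fun h => (h hd₀S).elim), if_pos rfl]
    rw [← hQc, ← sub_add_cancel (coeff (sndPart d₀) Q) (coeff (sndPart d₀) Q')]
    exact add_mem hc (Submodule.mem_sup_right (hQ'c _))

end Groth.Agent.CAlgQRAppend
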