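import Mathlib

/-!
# Ranks over domains
-/

set_option autoImplicit false
universe u

open TensorProduct

namespace Groth.Agent.CAlgT1

theorem rank_tensor_and_hom (R : Type u) [CommRing R] [IsDomain R] (M N : Type u)
    [AddCommGroup M] [Module R M] [AddCommGroup N] [Module R N] :
    Module.rank R (M ⊗[R] N) = Module.rank R M * Module.rank R N ∧
    (Module.FinitePresentation R M → Module.rank R (M →ₗ[R] N) = Module.rank R M * Module.rank R N) := by
  let K := FractionRing R
  have hK : ∀ (X : Type u) [AddCommGroup X] [Module R X], Module.rank K (K ⊗[R] X) = Module.rank R X :=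
    fun X _ _ => (TensorProduct.isBaseChange R X K).rank_eq
  refine ⟨?_, fun hM => ?_⟩
  · rw [← hK, ← hK M, ← hK N, (AlgebraTensorModule.distribBaseChange R K M N).rank_eq]
    exact rank_tensorProduct'
  · let S := nonZeroDivisors R
    let MS := LocalizedModule S M
    let NS := LocalizedModule S N
    haveI : Module.Finite K MS := Module.Finite.of_isLocalizedModule S (LocalizedModule.mkLinearMap S M)
    have h1 := IsLocalizedModule.rank_eq (p := S) le_rfl (IsLocalizedModule.mapExtendScalars S
      (LocalizedModule.mkLinearMap S M) (LocalizedModule.mkLinearMap S N) K)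
    have h2 := fun (X : Type u) [AddCommGroup X] [Module R X] [Module K X] [IsScalarTower R K X] =>
      IsLocalization.rank_eq (N := X) K S le_rfl
    have hMS : Module.rank K MS = Module.rank R M :=
      (h2 MS).trans (IsLocalizedModule.rank_eq (p := S) le_rfl (LocalizedModule.mkLinearMap S M))
    have hNS : Module.rank K NS = Module.rank R N :=
      (h2 NS).trans (IsLocalizedModule.rank_eq (p := S) le_rfl (LocalizedModule.mkLinearMap S N))
    rw [← h1, ← h2 (MS →ₗ[K] NS), Module.rank_linearMap]
    simp [hMS, hNS]

theorem finite_rank_structure (R : Type u) [CommRing R] [IsDomain R] (M : Type u) [AddCommGroup M]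
    [Module R M] [Module.Finite R M] :
    (∃ h : M →ₗ[R] (Fin (Module.finrank R M) → R),
      (∀ x : M, h x = 0 → ∃ c : R, c ≠ 0 ∧ c • x = 0) ∧
      (∀ y : Fin (Module.finrank R M) → R, ∃ c : R, c ≠ 0 ∧ c • y ∈ LinearMap.range h)) ∧
    (∃ f : R, f ≠ 0 ∧ Module.Free (Localization.Away f) (LocalizedModule (Submonoid.powers f) M) ∧
      Module.finrank (Localization.Away f) (LocalizedModule (Submonoid.powers f) M) = Module.finrank R M) ∧
    (∃ g : (Fin (Module.finrank R M) → R) →ₗ[R] M, Function.Injective g ∧
      ∀ x : M, ∃ c : R, c ≠ 0 ∧ c • x ∈ LinearMap.range g) := by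
  classical
  let S := nonZeroDivisors R
  let K := FractionRing R
  let V := LocalizedModule S M
  haveI : Module.Finite K V := Module.Finite.of_isLocalizedModule S (LocalizedModule.mkLinearMap S M)
  have hr : Module.finrank K V = Module.finrank R M := by
    unfold Module.finrank
    rw [IsLocalization.rank_eq (N := V) K S le_rfl,
      IsLocalizedModule.rank_eq (p := S) le_rfl (LocalizedModule.mkLinearMap S M)]
  let b := Module.finBasisOfFinrankEq K V hr
  choose p hp using fun i => IsLocalizedModule.mk'_surjective S (LocalizedModule.mkLinearMap S M) (b i)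
  let ι := LocalizedModule.mkLinearMap S M
  have hne : ∀ i, algebraMap R K ((p i).2 : R) ≠ 0 := fun i =>
    (map_ne_zero_iff _ (IsFractionRing.injective R K)).2 (nonZeroDivisors.ne_zero (p i).2.2)
  let b' := b.unitsSMul fun i => Units.mk0 _ (hne i)
  have hb' : ∀ i, b' i = ι (p i).1 := fun i => by
    rw [Module.Basis.unitsSMul_apply, ← hp i]
    show algebraMap R K ((p i).2 : R) • (IsLocalizedModule.mk' ι (p i).1 (p i).2 : V) = _
    rw [algebraMap_smul]
    exact IsLocalizedModule.mk'_cancel' ι (p i).1 (p i).2
  let g : (Fin (Module.finrank R M) → R) →ₗ[R] M := Fintype.linearCombination R fun i => (p i).1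
  have hιg : ∀ c, ι (g c) = ∑ i, algebraMap R K (c i) • b' i := fun c => by
    simp only [g, Fintype.linearCombination_apply, map_sum, map_smul, hb', algebraMap_smul]
  have hg : Function.Injective g := by
    refine (injective_iff_map_eq_zero g).2 fun c hc => funext fun i => IsFractionRing.injective R K ?_
    rw [Pi.zero_apply, map_zero]
    exact Fintype.linearIndependent_iff.1 b'.linearIndependent (fun i => algebraMap R K (c i))
      (by rw [← hιg, hc, map_zero]) i
  have htor : ∀ x : M, ∃ c : R, c ≠ 0 ∧ c • x ∈ LinearMap.range g := by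
    intro x
    obtain ⟨s, hs⟩ := IsLocalization.exist_integer_multiples_of_finset S
      (Finset.univ.image fun i => b'.repr (ι x) i)
    choose a ha using fun i => hs _ (Finset.mem_image_of_mem _ (Finset.mem_univ i))
    have h1 : ι ((s : R) • x) = ι (g a) := by
      rw [hιg, map_smul, ← b'.sum_repr (ι x), Finset.smul_sum]
      refine Finset.sum_congr rfl fun i _ => ?_
      rw [ha, smul_assoc]
    obtain ⟨t, ht⟩ := IsLocalizedModule.exists_of_eq (S := S) h1
    refine ⟨(t : R) * s, mul_ne_zero (nonZeroDivisors.ne_zero t.2) (nonZeroDivisors.ne_zero s.2),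
      ⟨(t : R) • a, ?_⟩⟩
    rw [map_smul, mul_smul]
    exact ht.symm
  choose c hc0 hc using htor
  obtain ⟨G, hG⟩ := (Module.Finite.fg_top : (⊤ : Submodule R M).FG)
  let f := ∏ x ∈ G, c x
  have hf : f ≠ 0 := Finset.prod_ne_zero_iff.2 fun x _ => hc0 x
  have hall : ∀ x, f • x ∈ LinearMap.range g := fun x => by
    have hx : x ∈ Submodule.span R (G : Set M) := hG ▸ Submodule.mem_top
    induction hx using Submodule.span_induction with
    | mem y hy =>
      obtain ⟨d, hd⟩ := Finset.dvd_prod_of_mem c hy
      simp only [f, hd]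
      rw [mul_comm, mul_smul]
      exact Submodule.smul_mem _ _ (hc y)
    | zero => simp
    | add p q _ _ hp hq => rw [smul_add]; exact add_mem hp hq
    | smul d p _ hp => rw [smul_comm]; exact Submodule.smul_mem _ _ hp
  refine ⟨?_, ⟨f, hf, ?_⟩, ⟨g, hg, fun x => ⟨c x, hc0 x, hc x⟩⟩⟩
  · let e := LinearEquiv.ofInjective g hg
    let h : M →ₗ[R] (Fin (Module.finrank R M) → R) :=
      e.symm.toLinearMap ∘ₗ LinearMap.codRestrict (LinearMap.range g) (f • LinearMap.id) hall
    refine ⟨h, fun x hx => ⟨f, hf, ?_⟩, fun y => ⟨f, hf, g y, ?_⟩⟩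
    · exact congrArg Subtype.val (e.symm.map_eq_zero_iff.1 hx)
    · show e.symm _ = _
      rw [e.symm_apply_eq, map_smul]
      exact Subtype.ext rfl
  · let gf := LocalizedModule.map (Submonoid.powers f) g
    have hgf : Function.Bijective gf := by
      refine ⟨LocalizedModule.map_injective _ g hg, fun z => ?_⟩
      induction z using LocalizedModule.induction_on with
      | _ x s =>
        obtain ⟨y, hy⟩ := hall x
        refine ⟨LocalizedModule.mk y (⟨f, Submonoid.mem_powers f⟩ * s), ?_⟩
        rw [LocalizedModule.map_mk, hy]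
        exact LocalizedModule.mk_cancel_common_left (⟨f, Submonoid.mem_powers f⟩ : Submonoid.powers f) s x
    let E := LinearEquiv.ofBijective gf hgf
    haveI : Module.Free (Localization.Away f) (LocalizedModule (Submonoid.powers f) (Fin (Module.finrank R M) → R)) :=
      Module.free_of_isLocalizedModule (Submonoid.powers f) (LocalizedModule.mkLinearMap _ _)
    refine ⟨Module.Free.of_equiv E, ?_⟩
    have hle : Submonoid.powers f ≤ nonZeroDivisors R := powers_le_nonZeroDivisors_of_noZeroDivisors hf
    haveI : IsDomain (Localization.Away f) := IsLocalization.isDomain_localization hle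
    rw [← E.finrank_eq, Module.finrank_of_isLocalizedModule_of_free (Localization.Away f) (Submonoid.powers f)
      (LocalizedModule.mkLinearMap (Submonoid.powers f) (Fin (Module.finrank R M) → R)), Module.finrank_fin_fun]

end Groth.Agent.CAlgT1
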