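import Groth.Agent.Depth.Basic
import Mathlib

/-! Kollár's tetrachotomy for Noetherian local rings. -/

set_option autoImplicit false

universe u

open IsLocalRing LocCoh

namespace Groth.Agent.CAlgT1.Tetrachotomy

variable {R : Type u} [CommRing R] [IsLocalRing R] [IsNoetherianRing R]

theorem case_torsion (h1 : ¬ IsArtinianRing R) (hm : maximalIdeal R ∈ associatedPrimes R R) :
    ∃ (R' : Type u) (_ : CommRing R') (_ : Algebra R R'), Nontrivial R' ∧ Module.Finite R R' ∧
      ¬ Function.Bijective (algebraMap R R') ∧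
      (∃ n : ℕ, (∀ x : R, algebraMap R R' x = 0 → ∀ a ∈ maximalIdeal R ^ n, a * x = 0) ∧
        (∀ y : R', ∀ a ∈ maximalIdeal R ^ n, a • y ∈ Set.range (algebraMap R R'))) ∧
      maximalIdeal R ∉ associatedPrimes R R' := by
  let J : ℕ → Ideal R := fun n => Submodule.annihilator ((maximalIdeal R ^ n : Ideal R) : Submodule R R)
  have hJ : ∀ n x, x ∈ J n ↔ ∀ a ∈ maximalIdeal R ^ n, a * x = 0 := fun n x => by
    simp only [J, Submodule.mem_annihilator, smul_eq_mul]
    exact forall₂_congr fun a _ => by rw [mul_comm]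
  have hmono : Monotone J := fun a b hab =>
    Submodule.annihilator_mono (Ideal.pow_le_pow_right hab)
  obtain ⟨N, hN⟩ := monotone_stabilizes_iff_noetherian.2 ‹_› ⟨J, hmono⟩
  have hstab : J (N + 1 + 1) = J (N + 1) :=
    ((hN (N + 1 + 1) (by omega)).symm.trans (hN (N + 1) (by omega)))
  have hne : J (N + 1) ≠ ⊤ := fun h => h1 ((isArtinianRing_iff_isNilpotent_maximalIdeal R).2 ⟨N + 1, by
    rw [Submodule.zero_eq_bot, eq_bot_iff]
    intro a ha
    have := (hJ _ 1).1 (h ▸ Submodule.mem_top) a ha
    simpa using this⟩)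
  refine ⟨R ⧸ J (N + 1), inferInstance, inferInstance, Ideal.Quotient.nontrivial_iff.2 hne,
    inferInstance, fun hb => ?_, ⟨N + 1, fun x hx => (hJ _ x).1 (Ideal.Quotient.eq_zero_iff_mem.1 hx),
      fun y _ _ => Ideal.Quotient.mk_surjective _⟩, fun hmem => ?_⟩
  · obtain ⟨-, x, hx⟩ := isAssociatedPrime_iff.1 hm
    have hx0 : x ∈ J (N + 1) := (hJ _ x).2 fun a ha => by
      have : a ∈ maximalIdeal R := Ideal.pow_le_self (by omega) ha
      rw [hx, Submodule.mem_colon_singleton, Submodule.mem_bot] at this
      simpa using this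
    have : x = 0 := hb.1 ((Ideal.Quotient.eq_zero_iff_mem.2 hx0).trans (map_zero _).symm)
    subst this
    exact (maximalIdeal.isMaximal R).ne_top (by rw [hx, eq_top_iff]; intro a _; simp)
  · obtain ⟨-, z, hz⟩ := isAssociatedPrime_iff.1 hmem
    obtain ⟨x, rfl⟩ := Ideal.Quotient.mk_surjective z
    have hx : x ∈ J (N + 1 + 1) := (hJ _ x).2 fun a ha => by
      rw [pow_succ] at ha
      refine Submodule.mul_induction_on ha (fun b hb c hc => ?_) (fun a b ha hb => by rw [add_mul, ha, hb, add_zero])
      rw [hz, Submodule.mem_colon_singleton, Submodule.mem_bot] at hc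
      have hc' : c * x ∈ J (N + 1) := Ideal.Quotient.eq_zero_iff_mem.1 (by
        rw [map_mul]; exact hc)
      rw [mul_assoc]
      exact (hJ _ _).1 hc' b hb
    rw [hstab, ← Ideal.Quotient.eq_zero_iff_mem] at hx
    exact (maximalIdeal.isMaximal R).ne_top (by rw [hz, eq_top_iff]; intro a _; simp [hx])

theorem case_regular (h1 : ¬ IsArtinianRing R) (h2 : ¬ (IsRegularLocalRing R ∧ ringKrullDim R = 1))
    {x : R} (hxm : x ∈ maximalIdeal R) (hx : IsSMulRegular R x) {y : R}
    (hy : ∀ a ∈ maximalIdeal R, ∃ r, y * a = x * r) (hyx : ∀ r, y ≠ x * r) :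
    ∃ (R' : Type u) (_ : CommRing R') (_ : Algebra R R'), Nontrivial R' ∧ Module.Finite R R' ∧
      ¬ Function.Bijective (algebraMap R R') ∧
      (∃ n : ℕ, (∀ x : R, algebraMap R R' x = 0 → ∀ a ∈ maximalIdeal R ^ n, a * x = 0) ∧
        (∀ y : R', ∀ a ∈ maximalIdeal R ^ n, a • y ∈ Set.range (algebraMap R R'))) ∧
      maximalIdeal R ∉ associatedPrimes R R' := by
  have hcancel : ∀ a b : R, x * a = x * b → a = b := fun a b h => hx (by simpa using h)
  choose r hr using hy
  have hrm : ∀ a ha, r a ha ∈ maximalIdeal R := by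
    intro z hz
    by_contra hu
    rw [mem_maximalIdeal, mem_nonunits_iff, not_not] at hu
    obtain ⟨v, hv⟩ := hu.exists_right_inv
    have hyz : y * z * v = x := by rw [hr z hz, mul_assoc, hv, mul_one]
    have hspan : maximalIdeal R = Ideal.span {z} := by
      refine le_antisymm (fun w hw => ?_) ((Ideal.span_singleton_le_iff_mem _).2 hz)
      refine Ideal.mem_span_singleton'.2 ⟨r w hw * v, hcancel _ _ ?_⟩
      calc x * (r w hw * v * z) = x * r w hw * v * z := by ring
        _ = y * w * v * z := by rw [hr w hw]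
        _ = y * z * v * w := by ring
        _ = x * w := by rw [hyz]
    have hzd : ringKrullDim R ≠ 0 := fun h0 => h1 <| by
      haveI : Ring.KrullDimLE 0 R := Ring.krullDimLE_iff.2 (by simp [h0])
      exact isArtinianRing_iff_krullDimLE_zero.2 this
    have hle : (maximalIdeal R).spanFinrank ≤ 1 := by
      rw [hspan]
      exact (Submodule.spanFinrank_span_le_ncard_of_finite (Set.finite_singleton z)).trans (by simp)
    have hd1 : ringKrullDim R = 1 := by
      refine le_antisymm ((ringKrullDim_le_spanFinrank_maximalIdeal R).trans (by exact_mod_cast hle)) ?_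
      have h0 : (0 : WithBot ℕ∞) ≤ ringKrullDim R := ringKrullDim_nonneg_of_nontrivial
      obtain ⟨d, hd⟩ := WithBot.ne_bot_iff_exists.1 (fun e => by simp [e] at h0 : ringKrullDim R ≠ ⊥)
      rw [← hd] at hzd ⊢
      exact_mod_cast Order.one_le_iff_ne_zero.2 (fun e : d = 0 => hzd (by rw [e]; rfl))
    exact h2 ⟨IsRegularLocalRing.of_spanFinrank_maximalIdeal_le R (by rw [hd1]; exact_mod_cast hle), hd1⟩
  let φ : Module.End R (maximalIdeal R) :=
    { toFun := fun a => ⟨r a.1 a.2, hrm _ _⟩
      map_add' := fun a b => Subtype.ext (hcancel _ _ (by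
        simp only [Submodule.coe_add, mul_add, ← hr]))
      map_smul' := fun c a => Subtype.ext (hcancel _ _ (by
        simp only [SetLike.val_smul, smul_eq_mul, RingHom.id_apply, ← hr]
        rw [mul_left_comm x, ← hr]
        ring)) }
  have hpow : x ∈ Submonoid.powers x := Submonoid.mem_powers x
  let A := Localization.Away x
  let t : A := algebraMap R A y * IsLocalization.Away.invSelf x
  have hinj : Function.Injective (algebraMap R A) := IsLocalization.injective A (Submonoid.powers_le.2
    (mem_nonZeroDivisors_iff_right.2 fun a ha => hx (by simpa [mul_comm x] using ha)))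
  have hta : ∀ a : maximalIdeal R, t * algebraMap R A a = algebraMap R A (φ a : R) := by
    intro a
    have : algebraMap R A y * algebraMap R A a = algebraMap R A x * algebraMap R A (φ a : R) := by
      rw [← map_mul, ← map_mul]; exact congrArg _ (hr a.1 a.2)
    calc t * algebraMap R A a = algebraMap R A y * algebraMap R A a * IsLocalization.Away.invSelf x := by
          simp only [t]; ring
      _ = algebraMap R A x * IsLocalization.Away.invSelf x * algebraMap R A (φ a : R) := by
          rw [this]; ring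
      _ = _ := by rw [IsLocalization.Away.mul_invSelf, one_mul]
  have haev : ∀ (p : Polynomial R) (a : maximalIdeal R),
      Polynomial.aeval t p * algebraMap R A a = algebraMap R A ((Polynomial.aeval φ p a : maximalIdeal R) : R) := by
    intro p
    induction p using Polynomial.induction_on with
    | C c => intro a; simp [Module.algebraMap_end_apply]
    | add p q hp hq => intro a; simp [add_mul, hp, hq]
    | monomial n c h =>
      intro a
      simp only [map_mul, map_pow, Polynomial.aeval_C, Polynomial.aeval_X] at h ⊢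
      rw [pow_succ t n, pow_succ φ n, ← mul_assoc _ (t ^ n) t, ← mul_assoc _ (φ ^ n) φ,
        mul_assoc _ t, hta a, h (φ a)]
      rfl
  have hint : IsIntegral R t := by
    obtain ⟨p, hp, hp0⟩ := Algebra.IsIntegral.isIntegral (R := R) φ
    refine ⟨p, hp, ?_⟩
    change Polynomial.aeval φ p = 0 at hp0
    show Polynomial.aeval t p = 0
    have h := haev p ⟨x, hxm⟩
    rw [hp0] at h
    calc Polynomial.aeval t p
        = Polynomial.aeval t p * algebraMap R A x * IsLocalization.Away.invSelf x := by
          rw [mul_assoc, IsLocalization.Away.mul_invSelf, mul_one]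
      _ = 0 := by rw [h]; simp
  let S : Subalgebra R A :=
    { carrier := {z | ∀ a : maximalIdeal R, ∃ b : maximalIdeal R, z * algebraMap R A a = algebraMap R A b}
      mul_mem' := fun {z w} hz hw a => by
        obtain ⟨b, hb⟩ := hw a
        obtain ⟨c, hc⟩ := hz b
        exact ⟨c, by rw [mul_assoc, hb, hc]⟩
      add_mem' := fun {z w} hz hw a => by
        obtain ⟨b, hb⟩ := hz a
        obtain ⟨c, hc⟩ := hw a
        exact ⟨b + c, by rw [add_mul, hb, hc, Submodule.coe_add, map_add]⟩
      algebraMap_mem' := fun c a => ⟨c • a, by simp⟩ }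
  have hS : Algebra.adjoin R {t} ≤ S := Algebra.adjoin_le (Set.singleton_subset_iff.2 fun a => ⟨φ a, hta a⟩)
  haveI : Module.Finite R (Algebra.adjoin R ({t} : Set A)) :=
    Module.Finite.iff_fg.2 hint.fg_adjoin_singleton
  haveI : Nontrivial A := hinj.nontrivial
  refine ⟨Algebra.adjoin R ({t} : Set A), inferInstance, inferInstance, inferInstance, inferInstance,
    fun hb => ?_, ⟨1, fun z hz => ?_, fun z a ha => ?_⟩, fun hmem => ?_⟩
  · obtain ⟨c, hc⟩ := hb.2 ⟨t, Algebra.self_mem_adjoin_singleton R t⟩
    have hc' : algebraMap R A c = t := congrArg Subtype.val hc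
    refine hyx c (hinj ?_)
    rw [map_mul, hc']
    simp only [t]
    rw [mul_left_comm, IsLocalization.Away.mul_invSelf, mul_one]
  · intro a _
    have : algebraMap R A z = algebraMap R A 0 := by
      rw [map_zero]; exact congrArg Subtype.val hz
    rw [hinj this, mul_zero]
  · rw [pow_one] at ha
    obtain ⟨b, hb⟩ := hS z.2 ⟨a, ha⟩
    exact ⟨b, Subtype.ext (by simpa [Algebra.smul_def, mul_comm] using hb.symm)⟩
  · obtain ⟨-, z, hz⟩ := isAssociatedPrime_iff.1 hmem
    have h := hz ▸ hxm
    rw [Submodule.mem_colon_singleton, Submodule.mem_bot] at h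
    have h' : algebraMap R A x * (z : A) = 0 := by
      simpa [Algebra.smul_def] using congrArg Subtype.val h
    have : z = 0 := Subtype.ext (by
      calc (z : A) = algebraMap R A x * (z : A) * IsLocalization.Away.invSelf x := by
            rw [mul_right_comm, IsLocalization.Away.mul_invSelf, one_mul]
        _ = _ := by rw [h']; simp)
    exact (maximalIdeal.isMaximal R).ne_top (by rw [hz, eq_top_iff]; intro a _; simp [this])

theorem tetrachotomy (h1 : ¬ IsArtinianRing R) (h2 : ¬ (IsRegularLocalRing R ∧ ringKrullDim R = 1))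
    (h3 : depth R R ≤ 1) :
    ∃ (R' : Type u) (_ : CommRing R') (_ : Algebra R R'), Nontrivial R' ∧ Module.Finite R R' ∧
      ¬ Function.Bijective (algebraMap R R') ∧
      (∃ n : ℕ, (∀ x : R, algebraMap R R' x = 0 → ∀ a ∈ maximalIdeal R ^ n, a * x = 0) ∧
        (∀ y : R', ∀ a ∈ maximalIdeal R ^ n, a • y ∈ Set.range (algebraMap R R'))) ∧
      maximalIdeal R ∉ associatedPrimes R R' := by
  by_cases hd : depth R R = 0
  · exact case_torsion h1 (Depth.depth_eq_zero_iff.1 hd)
  have hone : (1 : ℕ∞) ≤ idealDepth (maximalIdeal R) R := Order.one_le_iff_ne_zero.2 hd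
  obtain ⟨x, hxm, hx⟩ := (Depth.one_le_idealDepth_iff Depth.maximalIdeal_smul_top_ne_top).1 hone
  have h : idealDepth (maximalIdeal R) (QuotSMulTop x R) + 1 ≤ 0 + 1 := by
    rw [Depth.idealDepth_quotSMulTop_add_one R hxm hx, zero_add]; exact h3
  haveI : Nontrivial (QuotSMulTop x R) := Submodule.Quotient.nontrivial_iff.2 fun h =>
    (Depth.maximalIdeal_smul_top_ne_top (R := R) (M := R)) (top_le_iff.1 (h.ge.trans fun z hz => by
      rw [Submodule.mem_smul_pointwise_iff_exists] at hz
      obtain ⟨w, -, rfl⟩ := hz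
      exact Submodule.smul_mem_smul hxm Submodule.mem_top))
  have h0 : depth R (QuotSMulTop x R) = 0 :=
    le_antisymm ((ENat.add_le_add_iff_right ENat.one_ne_top).1 h) zero_le
  obtain ⟨-, z, hz⟩ := isAssociatedPrime_iff.1 (Depth.depth_eq_zero_iff.1 h0)
  obtain ⟨y, rfl⟩ := Submodule.Quotient.mk_surjective _ z
  refine case_regular h1 h2 hxm hx (y := y) (fun a ha => ?_) (fun r hr => ?_)
  · rw [hz, Submodule.mem_colon_singleton, Submodule.mem_bot, ← Submodule.Quotient.mk_smul,
      Submodule.Quotient.mk_eq_zero, Submodule.mem_smul_pointwise_iff_exists] at ha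
    obtain ⟨w, -, hw⟩ := ha
    exact ⟨w, by rw [mul_comm]; exact hw.symm⟩
  · refine (maximalIdeal.isMaximal R).ne_top ?_
    rw [hz, eq_top_iff]
    intro a _
    rw [Submodule.mem_colon_singleton, Submodule.mem_bot, ← Submodule.Quotient.mk_smul,
      Submodule.Quotient.mk_eq_zero, Submodule.mem_smul_pointwise_iff_exists]
    exact ⟨a * r, trivial, by rw [hr]; simp [mul_comm, mul_left_comm]⟩

end Groth.Agent.CAlgT1.Tetrachotomy
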