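import Mathlib

/-!
# Radicial integral extensions generated by elements with powers of linear polynomials defined below
-/

set_option autoImplicit false
universe u v

namespace Groth.Agent.CAlgT1

open Polynomial

variable {R S : Type u} [CommRing R] [CommRing S] [Algebra R S]
  {G : Set S} (hG : Algebra.adjoin R G = ⊤)
  (hpow : ∀ x ∈ G, ∃ (n : ℕ) (P : R[X]), 0 < n ∧ P.map (algebraMap R S) = (X - C x) ^ n)

include hG hpow

theorem isIntegral_of_linearPow : Algebra.IsIntegral R S := by
  refine ⟨fun x => ?_⟩
  rcases subsingleton_or_nontrivial S with hS | hS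
  · rw [Subsingleton.elim x 0]; exact isIntegral_zero
  have hx : x ∈ Algebra.adjoin R G := hG ▸ Algebra.mem_top
  induction hx using Algebra.adjoin_induction with
  | algebraMap r => exact isIntegral_algebraMap
  | add a b _ _ ha hb => exact ha.add hb
  | mul a b _ _ ha hb => exact ha.mul hb
  | mem x hx =>
    obtain ⟨n, P, hn, hP⟩ := hpow x hx
    obtain ⟨Q, hQ, -, hQm⟩ := Polynomial.lifts_and_degree_eq_and_monic
      ((Polynomial.mem_lifts _).2 ⟨P, hP⟩) ((monic_X_sub_C x).pow n)
    refine ⟨Q, hQm, ?_⟩
    rw [eval₂_eq_eval_map, hQ, eval_pow, eval_sub, eval_X, eval_C, sub_self, zero_pow hn.ne']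

theorem ringHom_ext_of_linearPow {Ω : Type v} [Field Ω] (φ ψ : S →+* Ω)
    (h : φ.comp (algebraMap R S) = ψ.comp (algebraMap R S)) : φ = ψ := by
  letI : Algebra R Ω := (φ.comp (algebraMap R S)).toAlgebra
  let φ' : S →ₐ[R] Ω := { φ with commutes' := fun _ => rfl }
  let ψ' : S →ₐ[R] Ω := { ψ with commutes' := fun r => (RingHom.congr_fun h r).symm }
  have : φ' = ψ' := by
    refine AlgHom.ext_of_adjoin_eq_top hG fun x hx => ?_
    obtain ⟨n, P, hn, hP⟩ := hpow x hx
    have h1 : (X - C (φ x)) ^ n = (X - C (ψ x)) ^ n := by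
      have e1 : ((P.map (algebraMap R S)).map φ) = ((P.map (algebraMap R S)).map ψ) := by
        rw [Polynomial.map_map, Polynomial.map_map, h]
      simpa [hP] using e1
    have h2 := congrArg (eval (φ x)) h1
    simp [zero_pow hn.ne'] at h2
    exact sub_eq_zero.1 (eq_zero_of_pow_eq_zero h2.symm)
  exact RingHom.ext fun x => AlgHom.congr_fun this x

set_option synthInstance.maxHeartbeats 200000 in
theorem linearPow_main (hker : ∀ r : R, algebraMap R S r = 0 → IsNilpotent r) :
    IsHomeomorph (PrimeSpectrum.comap (algebraMap R S)) ∧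
      ∀ (q : Ideal S) [q.IsPrime] (p : Ideal R) [p.IsPrime] [q.LiesOver p],
        @IsPurelyInseparable p.ResidueField q.ResidueField _ _
          (Ideal.ResidueField.mapₐ p q (Algebra.ofId R S) (q.over_def p)).toRingHom.toAlgebra := by
  haveI hint : Algebra.IsIntegral R S := isIntegral_of_linearPow hG hpow
  have hsurj : Function.Surjective (PrimeSpectrum.comap (algebraMap R S)) := by
    intro p
    obtain ⟨Q, _, hQ, hQp⟩ := Ideal.exists_ideal_over_prime_of_isIntegral (S := S) p.asIdeal (⊥ : Ideal S)
      (fun r hr => by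
        obtain ⟨k, hk⟩ := hker r (by simpa using hr)
        exact p.isPrime.mem_of_pow_mem k (hk ▸ p.asIdeal.zero_mem))
    exact ⟨⟨Q, hQ⟩, PrimeSpectrum.ext hQp⟩
  have halg : ∀ (q : Ideal S) [q.IsPrime] (p : Ideal R) [p.IsPrime] (h : p = q.comap (algebraMap R S)),
      let _ := (Ideal.ResidueField.mapₐ p q (Algebra.ofId R S) h).toRingHom.toAlgebra
      Algebra.IsAlgebraic p.ResidueField q.ResidueField := by
    intro q _ p _ h
    letI := (Ideal.ResidueField.mapₐ p q (Algebra.ofId R S) h).toRingHom.toAlgebra
    haveI : IsScalarTower R p.ResidueField q.ResidueField := IsScalarTower.of_algebraMap_eq fun r =>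
      ((Ideal.ResidueField.mapₐ p q (Algebra.ofId R S) h).commutes r).symm
    refine ⟨fun z => ?_⟩
    obtain ⟨a, b, -, rfl⟩ := IsFractionRing.div_surjective (A := S ⧸ q) z
    have hi : ∀ a : S ⧸ q, IsIntegral p.ResidueField (algebraMap (S ⧸ q) q.ResidueField a) := by
      intro a
      obtain ⟨a, rfl⟩ := Ideal.Quotient.mk_surjective a
      rw [Ideal.algebraMap_quotient_residueField_mk]
      exact ((Algebra.IsIntegral.isIntegral (R := R) a).map
        (IsScalarTower.toAlgHom R S q.ResidueField)).tower_top
    rw [div_eq_mul_inv]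
    exact ((hi a).mul (hi b).inv).isAlgebraic
  have hinj : Function.Injective (PrimeSpectrum.comap (algebraMap R S)) := by
    intro x y hxy
    have h1 : x.asIdeal.comap (algebraMap R S) = y.asIdeal.comap (algebraMap R S) := congrArg PrimeSpectrum.asIdeal hxy
    set p := x.asIdeal.comap (algebraMap R S)
    have hom : ∀ (q : Ideal S) [q.IsPrime] (h : p = q.comap (algebraMap R S)), ∃ φ : S →+* AlgebraicClosure p.ResidueField,
        RingHom.ker φ = q ∧ φ.comp (algebraMap R S) = (algebraMap p.ResidueField _).comp (algebraMap R p.ResidueField) := by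
      intro q _ h
      letI := (Ideal.ResidueField.mapₐ p q (Algebra.ofId R S) h).toRingHom.toAlgebra
      haveI := halg q p h
      let j : q.ResidueField →ₐ[p.ResidueField] AlgebraicClosure p.ResidueField := IsAlgClosed.lift
      refine ⟨j.toRingHom.comp (algebraMap S q.ResidueField), ?_, RingHom.ext fun r => ?_⟩
      · rw [RingHom.ker_comp_of_injective _ j.toRingHom.injective, Ideal.ker_algebraMap_residueField]
      · refine Eq.trans ?_ (j.commutes (algebraMap R p.ResidueField r))
        refine congrArg j ?_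
        exact ((IsScalarTower.algebraMap_apply R S q.ResidueField r).symm.trans
          ((Ideal.ResidueField.mapₐ p q (Algebra.ofId R S) h).commutes r).symm)
    obtain ⟨φ, hφ, hφ'⟩ := hom x.asIdeal rfl
    obtain ⟨ψ, hψ, hψ'⟩ := hom y.asIdeal h1
    have := ringHom_ext_of_linearPow hG hpow φ ψ (hφ'.trans hψ'.symm)
    exact PrimeSpectrum.ext (by rw [← hφ, ← hψ, this])
  refine ⟨isHomeomorph_iff_continuous_isClosedMap_bijective.2 ⟨PrimeSpectrum.continuous_comap _,
    PrimeSpectrum.isClosedMap_comap_of_isIntegral _ (fun x => hint.isIntegral x), hinj, hsurj⟩, ?_⟩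
  intro q _ p _ _
  letI := (Ideal.ResidueField.mapₐ p q (Algebra.ofId R S) (q.over_def p)).toRingHom.toAlgebra
  haveI : Nonempty (q.ResidueField →+* AlgebraicClosure q.ResidueField) := ⟨algebraMap _ _⟩
  refine IsPurelyInseparable.of_injective_comp_algebraMap _ _ (AlgebraicClosure q.ResidueField) fun f g hfg => ?_
  have hR : ∀ r, algebraMap S q.ResidueField (algebraMap R S r) =
      algebraMap p.ResidueField q.ResidueField (algebraMap R p.ResidueField r) := fun r =>
    (IsScalarTower.algebraMap_apply R S q.ResidueField r).symm.trans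
      ((Ideal.ResidueField.mapₐ p q (Algebra.ofId R S) (q.over_def p)).commutes r).symm
  have h2 : f.comp (algebraMap S q.ResidueField) = g.comp (algebraMap S q.ResidueField) :=
    ringHom_ext_of_linearPow hG hpow _ _ (RingHom.ext fun r => by
      simp only [RingHom.comp_apply, hR]
      exact RingHom.congr_fun hfg _)
  exact Ideal.ResidueField.ringHom_ext h2

end Groth.Agent.CAlgT1
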