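import Mathlib
import Groth.Prelude.Def_CAlgX

set_option autoImplicit false
universe u

open TensorProduct

namespace Groth.Agent.CAlgT1

theorem universallyInjective_iff_maximal {R S M M' : Type u} [CommRing R] [CommRing S] [Algebra R S]
    [AddCommGroup M] [Module S M] [Module R M] [IsScalarTower R S M] [AddCommGroup M'] [Module S M'] [Module R M']
    [IsScalarTower R S M'] (u : M →ₗ[S] M') :
    CAlgX.UniversallyInjective R (u.restrictScalars R) ↔
      ∀ (m : Ideal S) [m.IsMaximal],
        CAlgX.UniversallyInjective R ((LocalizedModule.map m.primeCompl u).restrictScalars R) := by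
  let F (Q : Type u) [AddCommGroup Q] [Module R Q] (m : Ideal S) [m.IsPrime] :=
    AlgebraTensorModule.rTensor R Q (LocalizedModule.mkLinearMap m.primeCompl M)
  let G (Q : Type u) [AddCommGroup Q] [Module R Q] (m : Ideal S) [m.IsPrime] :=
    AlgebraTensorModule.rTensor R Q (LocalizedModule.mkLinearMap m.primeCompl M')
  have key : ∀ (Q : Type u) [AddCommGroup Q] [Module R Q] (m : Ideal S) [m.IsPrime],
      IsLocalizedModule.map m.primeCompl (F Q m) (G Q m) (AlgebraTensorModule.rTensor R Q u) =
        AlgebraTensorModule.rTensor R Q ((LocalizedModule.map m.primeCompl u).restrictScalars S) := by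
    intro Q _ _ m _
    apply IsLocalizedModule.linearMap_ext m.primeCompl (F Q m) (G Q m)
    rw [IsLocalizedModule.map_comp]
    ext x q
    simp [F, G, LocalizedModule.map_mk]
  constructor
  · intro h m _ Q _ _
    have h1 : Function.Injective (AlgebraTensorModule.rTensor R Q u) := h Q
    have h2 := IsLocalizedModule.map_injective m.primeCompl (F Q m) (G Q m) _ h1
    rw [key] at h2
    exact h2
  · intro h Q _ _
    show Function.Injective (AlgebraTensorModule.rTensor R Q u)
    refine injective_of_isLocalized_maximal _ (fun m _ => F Q m) _ (fun m _ => G Q m) _ fun m _ => ?_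
    rw [key]
    exact h m Q

theorem universallyInjective_iff_localization {A : Type u} [CommRing A] (S : Submonoid A)
    (As : Type u) [CommRing As] [Algebra A As] [IsLocalization S As] {M M' : Type u}
    [AddCommGroup M] [AddCommGroup M'] [Module As M] [Module As M'] [Module A M] [Module A M']
    [IsScalarTower A As M] [IsScalarTower A As M'] (f : M →ₗ[As] M') :
    CAlgX.UniversallyInjective A (f.restrictScalars A) ↔ CAlgX.UniversallyInjective As f := by
  constructor
  · intro h Q _ _
    letI : Module A Q := Module.compHom Q (algebraMap A As)
    haveI : IsScalarTower A As Q := IsScalarTower.of_algebraMap_smul fun _ _ => rfl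
    haveI : CompatibleSMul A As M Q := IsLocalization.tensorProduct_compatibleSMul S As M Q
    haveI : CompatibleSMul A As M' Q := IsLocalization.tensorProduct_compatibleSMul S As M' Q
    let e : M ⊗[As] Q ≃ₗ[A] M ⊗[A] Q := TensorProduct.equivOfCompatibleSMul ..
    let e' : M' ⊗[As] Q ≃ₗ[A] M' ⊗[A] Q := TensorProduct.equivOfCompatibleSMul ..
    have hc : ∀ z, e' (f.rTensor Q z) = (f.restrictScalars A).rTensor Q (e z) := fun z => by
      induction z using TensorProduct.induction_on with
      | zero => simp
      | tmul => rfl
      | add x y hx hy => simp only [map_add, hx, hy]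
    intro x y hxy
    refine e.injective (h Q ?_)
    rw [← hc, ← hc, hxy]
  · intro h Q _ _
    let e := AlgebraTensorModule.cancelBaseChange A As As M Q
    let e' := AlgebraTensorModule.cancelBaseChange A As As M' Q
    have hc : ∀ z, (f.restrictScalars A).rTensor Q (e z) = e' (f.rTensor _ z) := fun z => by
      induction z using TensorProduct.induction_on with
      | zero => simp
      | tmul m y =>
        induction y using TensorProduct.induction_on with
        | zero => simp
        | tmul s q => simp [e, e']
        | add x y hx hy => simp only [TensorProduct.tmul_add, map_add, hx, hy]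
      | add x y hx hy => simp only [map_add, hx, hy]
    intro x y hxy
    obtain ⟨x, rfl⟩ := e.surjective x
    obtain ⟨y, rfl⟩ := e.surjective y
    rw [hc, hc] at hxy
    rw [h _ (e'.injective hxy)]

end Groth.Agent.CAlgT1
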